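import Cfsg.Statements.S1823
import Cfsg.Agent.Lib.CgMatch

set_option autoImplicit false
open Cfsg

namespace Cfsg.Agent.S1823

open Subgroup Cfsg.Agent.Lib.PCoreConj Cfsg.Agent.Lib.PCore Cfsg.Agent.Lib.PCoreResidual Cfsg.Agent.Lib.PCoreMod
open Cfsg.Agent.Lib.Blk Cfsg.Agent.Lib.PReduced Cfsg.Agent.Lib.PushBase Cfsg.Agent.Lib.ThompsonJ
open scoped Pointwise commutatorElement

/-- A common nontrivial normal 2-subgroup for a pair of 2-local-type subgroups over a Sylow 2-subgroup of a simple QTKE-group. Let G be a non-abelian finite simple QTKE-group and T a Sylow 2-subgroup of G. Let M₀ and H be subgroups of G containing T with O₂(M₀) ≠ 1 and O₂(H) ≠ 1, such that T lies in a unique maximal subgroup of H. Let R be a nontrivial subgroup of T that is a Sylow 2-subgroup of O²(H)R and is normalized by M₀. Then some nontrivial subgroup R₀ of R is normalized by both M₀ and H (that is, R₀ is normal in ⟨M₀, H⟩). -/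
theorem result {G : Type*} [Group G] [Finite G] [IsSimpleGroup G]
    (hG : ¬ IsMulCommutative G) (hQ : Cfsg.IsQTKE G) (T : Sylow 2 G) (M₀ H : Subgroup G)
    (hM₀ : M₀ ∈ Cfsg.calHOver (T : Subgroup G)) (hH : H ∈ Cfsg.calHOver (T : Subgroup G))
    (hU : ∃! K : Subgroup ↥H, IsCoatom K ∧ (T : Subgroup G).subgroupOf H ≤ K)
    (R : Subgroup G) (hR : R ≠ ⊥) (hRT : R ≤ (T : Subgroup G))
    (hRS : ∃ P : Sylow 2 ↥(Cfsg.oddGenerated H ⊔ R),
      (P : Subgroup ↥(Cfsg.oddGenerated H ⊔ R)) = R.subgroupOf (Cfsg.oddGenerated H ⊔ R))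
    (hRM : M₀ ≤ Subgroup.normalizer (R : Set G)) :
    ∃ R₀ : Subgroup G, R₀ ≠ ⊥ ∧ R₀ ≤ R ∧ M₀ ⊔ H ≤ Subgroup.normalizer (R₀ : Set G) := by
  by_contra k
  obtain ⟨K, ⟨hK, hTK⟩, uniq⟩ := hU
  have hT := isSylowIn_top T
  have ec : ∀ X : Subgroup G, X ≠ ⊥ → X ≤ T → (T : Subgroup G) ≤ normalizer (X : Set G) →
      CharPIn 2 (normalizer (X : Set G)) := fun X h₁ h₂ h₃ =>
    charPIn_iff.1 (hQ.2.2 _ ⟨X, T.isPGroup'.to_le h₂, h₁, rfl⟩ ⟨T, h₃⟩)
  have e : oddGenerated H = pResidualOf 2 H := by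
    rw [pResidualOf_eq_closure, oddGenerated]
    simp only [Nat.coprime_two_right]
  rw [e] at hRS
  have TR := hM₀.2.trans hRM
  have sH := hT.of_le hH.2 le_top
  have l₀ : pResidualOf 2 H ⊔ R ≤ H := sup_le (pResidualOf_le 2 H) (hRT.trans hH.2)
  have nT : (T : Subgroup G) ≤ normalizer ((pResidualOf 2 H ⊔ R : Subgroup G) : Set G) := le_normalizer_sup
    (hH.2.trans (le_normalizer.trans (normalizer_le_normalizer_pResidualOf 2 H))) TR
  have cH : CharPIn 2 H := (ec _ (fun e => hH.1 (pCoreOf_eq_bot_iff.1 e)) sH.pCoreOf_le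
    (hH.2.trans (le_normalizer_pCoreOf 2 H))).of_isSylowIn_le (hT.of_le (hH.2.trans (le_normalizer_pCoreOf 2 H)) le_top)
      hH.2 (le_normalizer_pCoreOf 2 H)
  have key : ∀ X ≤ R, X ≠ ⊥ → M₀ ≤ normalizer (X : Set G) → H ⊓ normalizer (X : Set G) ≤ K.map H.subtype :=
    fun X h₁ h₂ h₃ => by
    obtain ⟨K', h₄, h₅⟩ := (eq_top_or_exists_le_coatom ((normalizer (X : Set G)).subgroupOf H)).resolve_left fun e =>
      k ⟨X, h₂, h₁, sup_le h₃ (subgroupOf_eq_top.1 e)⟩
    rw [← uniq K' ⟨h₄, (comap_mono (hM₀.2.trans h₃)).trans h₅⟩, inf_comm, ← subgroupOf_map_subtype]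
    exact map_mono h₅
  obtain ⟨E, h₁, l, h₂, h₃⟩ := exists_lb_in (M₀ := K.map H.subtype) (cH.normal l₀ ((pResidualOf_sup_of_isSylowIn sH).ge.trans
    (sup_le (le_sup_left.trans le_normalizer) nT))) ((isSylowIn_iff_exists_subgroupOf le_sup_right).2 hRS)
    (fun e => hK.1 (eq_top_iff.2 fun (x : H) _ => by
      obtain ⟨y, hy, e'⟩ := sup_le (le_sup_left.trans e) ((map_subgroupOf_eq_of_le hH.2).ge.trans (map_mono hTK))
        ((pResidualOf_sup_of_isSylowIn sH).ge x.2)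
      exact (Subtype.ext e' : y = x) ▸ hy))
    (fun X h₁ h₂ h₃ => (inf_le_inf_right _ l₀).trans (key X (h₁.trans (Bm_le 2 R)) h₂
      ((hRM.trans (normalizer_le_normalizer_Bm 2 R)).trans h₃)))
    ((inf_le_inf l₀ (centralizer_le_normalizer _)).trans (key _ (omegaOneCenter_le 2 R)
      (omegaOneCenter_ne_bot (T.isPGroup'.to_le hRT) hR) (le_normalizer_omegaOneCenter hRM)))
  have nB := hRM.trans (normalizer_le_normalizer_Bm 2 R)
  have c : nclIn (WE 2 E) M₀ ≤ NC 2 E := le_inf ((nclIn_le l.WB nB).trans l.blk.B_norm) (nclIn_le_iff.2 fun m hm =>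
    (conj_WE 2 E m).le.trans (l.match_false hT ec hM₀.2 hRM hRT (fun t ht => by
      rw [← conj_WE]
      exact (conj_le_of_mem_normalizer h₃ (le_normalizer_omegaOneCenter (nT.trans (normalizer_le_normalizer_pCoreOf 2 _))
        ht)).trans ((le_centralizer_of_isElementaryAbelian (isElementaryAbelian_omegaOneCenter 2 _)).trans
          (centralizer_anti h₃))) hm))
  exact h₂ ((le_inf (h₁.trans l₀) (le_normalizer_of_commutator_le (((l.blk.NC_comm' c).trans l.blk.core_two.le).trans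
    (le_nclIn _ _)))).trans (key _ ((nclIn_le l.WB nB).trans (Bm_le 2 R))
      (fun e => l.blk.WE_ne_bot (le_bot_iff.1 ((le_nclIn _ _).trans e.le))) (le_normalizer_nclIn _ _)))

end Cfsg.Agent.S1823
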