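import Cfsg.Statements.S1833
import Cfsg.Agent.S1822
import Cfsg.Agent.Lib.QZ0
import Cfsg.Agent.Lib.QZY
import Cfsg.Agent.Lib.QZX1
import Cfsg.Agent.Lib.QZX2
import Cfsg.Agent.Lib.QZB1
import Cfsg.Agent.Lib.QZB2
import Cfsg.Agent.Lib.QZB3
import Cfsg.Agent.Lib.QZS5
import Cfsg.Agent.Lib.QZW

set_option autoImplicit false
open Cfsg

namespace Cfsg.Agent.S1833

open Subgroup Cfsg.Agent.Lib Cfsg.Agent.Lib.QZ Cfsg.Agent.Lib.PCore Cfsg.Agent.Lib.PCoreResidual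
  Cfsg.Agent.Lib.PCoreConj in
theorem exists_max {G : Type*} [Group G] [Finite G] {N : Subgroup G} (h : IsTwoLocal N) :
    ∃ M, IsMaximalTwoLocal M ∧ N ≤ M := by
  obtain ⟨M, hM, hm⟩ := (Set.toFinite {M : Subgroup G | IsTwoLocal M}).exists_le_maximal (a := N) h
  exact ⟨M, ⟨hm.1, fun K hK hle => le_antisymm (hm.2 hK hle) hle⟩, hM⟩

open Subgroup Cfsg.Agent.Lib Cfsg.Agent.Lib.QZ Cfsg.Agent.Lib.PCore Cfsg.Agent.Lib.PCoreResidual
  Cfsg.Agent.Lib.PCoreConj in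
theorem core_ne {G : Type*} [Group G] [Finite G] {M : Subgroup G} (h : IsTwoLocal M) : pCoreOf 2 M ≠ ⊥ := by
  obtain ⟨Q, hQ, hne, rfl⟩ := h
  intro e
  exact hne (le_bot_iff.1 (e ▸ le_pCoreOf le_normalizer le_rfl hQ))

open Subgroup Cfsg.Agent.Lib Cfsg.Agent.Lib.QZ Cfsg.Agent.Lib.PCore Cfsg.Agent.Lib.PCoreResidual
  Cfsg.Agent.Lib.PCoreConj in
theorem T_le {G : Type*} [Group G] (T : Subgroup G) : T ≤ centralizer (omegaOneCenter 2 T : Set G) := by
  rw [le_centralizer_iff]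
  refine (closure_le _).2 fun x hx => ?_
  exact hx.1.2

open Subgroup Cfsg.Agent.Lib Cfsg.Agent.Lib.QZ Cfsg.Agent.Lib.PCore Cfsg.Agent.Lib.PCoreResidual
  Cfsg.Agent.Lib.PCoreConj in
theorem norm_res {G : Type*} [Group G] [Finite G] [IsSimpleGroup G] (hG : ¬ IsMulCommutative G) (hQ : IsQTKE G)
    (T : Sylow 2 G) (hy : Hyp T) (hL : calL (T : Subgroup G) = ∅) {M M' : Subgroup G}
    (hM : M ∈ maxTwoLocalsContaining (centralizer (omegaOneCenter 2 (T : Subgroup G) : Set G)))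
    (hM' : M' ∈ maxTwoLocalsContaining (centralizer (omegaOneCenter 2 (T : Subgroup G) : Set G))) (hne : M ≠ M') :
    M ≤ normalizer (pResidualOf 2 (centralizer (omegaOneCenter 2 (T : Subgroup G) : Set G)) : Set G) := by
  have hTM := (T_le (T : Subgroup G)).trans hM.2
  have hTM' := (T_le (T : Subgroup G)).trans hM'.2
  have c := core_ne hM.1.1
  have c' := core_ne hM'.1.1
  rcases QY.out T hy M hM.2 c with h | ⟨T₀, y, h0, hy0, hodd, hn, hc⟩
  · exact h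
  exfalso
  obtain ⟨X, hX, hXM, hMX, hc'⟩ := QX1.out T hy M hTM c T₀ y h0 hy0 hodd hn hc
  have hU := S1822.result hG hQ T X ⟨hX, fun L hL' => by rw [hL] at hL'; exact hL'.elim⟩
  have uq : ∀ K, IsMaximalTwoLocal K → X ⊔ (T : Subgroup G) ≤ K → K = M := by
    intro K hK hle
    have e1 : K ∈ maxTwoLocalsContaining (X ⊔ (T : Subgroup G)) := ⟨hK, hle⟩
    have e2 : M ∈ maxTwoLocalsContaining (X ⊔ (T : Subgroup G)) := ⟨hM.1, sup_le hXM hTM⟩
    rw [hU] at e1 e2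
    exact e1.trans e2.symm
  have uq' : ∀ Y : Subgroup G, IsPGroup 2 Y → Y ≠ ⊥ → X ⊔ (T : Subgroup G) ≤ normalizer (Y : Set G) →
      normalizer (Y : Set G) ≤ M := by
    intro Y h1 h2 h3
    obtain ⟨K, hK, hle⟩ := exists_max ⟨Y, h1, h2, rfl⟩
    exact uq K hK (h3.trans hle) ▸ hle
  have hXC : ¬ X ≤ centralizer (omegaOneCenter 2 (T : Subgroup G) : Set G) := fun e =>
    hne (uq M' hM'.1 (sup_le (e.trans hM'.2) hTM')).symm
  have hXS := QX2.out T hy M hTM c T₀ y h0 hy0 hodd hn X hX hXM hMX hc' hXC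
  have hS := sup_le hXS (QW.out T).1
  obtain ⟨z, u, ρ, hb, hρ, ht⟩ := QB1.out T hy M M' hTM' c' (fun e => hne (hM'.1.2 M hM.1.1 e))
    (inf_le_right.trans hM.2) fun Y h1 h2 h3 =>
      uq' Y (T.isPGroup'.to_le (h1.trans inf_le_left)) h2 (hS.trans h3)
  obtain ⟨P, h1, h2, h3, h4⟩ := QB3.out T hy _ le_sup_right hS z u ρ hb ht
  exact hρ (uq' P h1 h2 h3 h4)

open Subgroup Cfsg.Agent.Lib Cfsg.Agent.Lib.QZ Cfsg.Agent.Lib.PCore Cfsg.Agent.Lib.PCoreResidual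
  Cfsg.Agent.Lib.PCoreConj in
/-- Let G be a non-abelian finite simple QTKE-group and T a Sylow 2-subgroup of G, and let Z = Ω₁(Z(T)). Suppose ℒ_f(G, T) is empty and C_G(Z) lies in at least two distinct maximal 2-local subgroups of G. Then C_G(Z) = T. -/
theorem result {G : Type*} [Group G] [Finite G] [IsSimpleGroup G]
    (hG : ¬ IsMulCommutative G) (hQ : Cfsg.IsQTKE G) (T : Sylow 2 G)
    (hE : Cfsg.calLf (T : Subgroup G) = ∅)
    (hZ : ∃ M₁ M₂ : Subgroup G,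
      M₁ ∈ Cfsg.maxTwoLocalsContaining (Subgroup.centralizer ((Cfsg.omegaOne 2 ((T : Subgroup G) ⊓ Subgroup.centralizer ((T : Subgroup G) : Set G))) : Set G)) ∧
      M₂ ∈ Cfsg.maxTwoLocalsContaining (Subgroup.centralizer ((Cfsg.omegaOne 2 ((T : Subgroup G) ⊓ Subgroup.centralizer ((T : Subgroup G) : Set G))) : Set G)) ∧ M₁ ≠ M₂) :
    Subgroup.centralizer ((Cfsg.omegaOne 2 ((T : Subgroup G) ⊓ Subgroup.centralizer ((T : Subgroup G) : Set G))) : Set G) = (T : Subgroup G) := by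
  obtain ⟨M₁, M₂, h₁, h₂, hne⟩ := hZ
  obtain ⟨hy, hL⟩ := Q0.out hG hQ T hE M₁ M₂ h₁ h₂ hne
  have n₁ := norm_res hG hQ T hy hL h₁ h₂ hne
  have n₂ := norm_res hG hQ T hy hL h₂ h₁ hne.symm
  change centralizer (omegaOneCenter 2 (T : Subgroup G) : Set G) = _
  change M₁ ∈ maxTwoLocalsContaining (centralizer (omegaOneCenter 2 (T : Subgroup G) : Set G)) at h₁
  change M₂ ∈ maxTwoLocalsContaining (centralizer (omegaOneCenter 2 (T : Subgroup G) : Set G)) at h₂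
  set C := centralizer (omegaOneCenter 2 (T : Subgroup G) : Set G) with hC
  have hTC : (T : Subgroup G) ≤ C := T_le _
  have hEM : pResidualOf 2 C ≤ M₁ := (pResidualOf_le 2 C).trans h₁.2
  have hE0 : pResidualOf 2 C = ⊥ := by
    by_cases e : pCoreOf 2 (pResidualOf 2 C) = ⊥
    · have hQ1 : pCoreOf 2 M₁ ⊓ pResidualOf 2 C = ⊥ :=
        le_bot_iff.1 (e ▸ le_pCoreOf inf_le_right
          (le_normalizer_inf (hEM.trans (le_normalizer_pCoreOf 2 M₁)) le_normalizer)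
          ((pCoreOf_isPGroup 2 M₁).to_le inf_le_left))
      have hc : pResidualOf 2 C ≤ centralizer (pCoreOf 2 M₁ : Set G) := by
        rw [← commutator_eq_bot_iff_le_centralizer, ← le_bot_iff, ← hQ1]
        exact le_inf (commutator_le_right_of_le_normalizer (hEM.trans (le_normalizer_pCoreOf 2 M₁)))
          (commutator_le_left_of_le_normalizer ((pCoreOf_le 2 M₁).trans n₁))
      rw [← hQ1]
      exact (inf_eq_right.2 ((le_inf hEM hc).trans (hy.ch2 M₁ (hTC.trans h₁.2) (core_ne h₁.1.1)))).symm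
    · exfalso
      have l : IsTwoLocal (normalizer (pCoreOf 2 (pResidualOf 2 C) : Set G)) := ⟨_, pCoreOf_isPGroup 2 _, e, rfl⟩
      exact hne ((h₁.1.2 _ l (n₁.trans (normalizer_le_normalizer_pCoreOf 2 _))).symm.trans
        (h₂.1.2 _ l (n₂.trans (normalizer_le_normalizer_pCoreOf 2 _))))
  have := pResidualOf_sup_of_isSylowIn ((isSylowIn_top T).of_le hTC le_top)
  rw [hE0, bot_sup_eq] at this
  exact this.symm

end Cfsg.Agent.S1833
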