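import Cfsg.Statements.S1693
import Cfsg.Agent.Lib.ONA
import Cfsg.Agent.Lib.MatChk
import Cfsg.Agent.Lib.AutSLBasic
import Cfsg.Agent.Lib.FormSpin
import Cfsg.Agent.Lib.LinearOrders

set_option autoImplicit false
open Cfsg

namespace Cfsg.Agent.S1693

open Cfsg.Agent.Lib Cfsg.Agent.Lib.PermNet Cfsg.Agent.Lib.Words Cfsg.Agent.Lib.PermGroup
  Cfsg.Agent.Lib.MatChk Matrix

set_option maxRecDepth 100000
set_option Elab.async false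

/-- The relators of the subgroup. -/
def K1 : List (List ℕ) :=
  [[0, 0], [2, 2], [4, 4], [6, 6], [8, 8], [10, 10], [0, 2, 0, 2, 0, 2], [0, 4, 0, 4], [0, 6, 0,
  6], [0, 8, 0, 8], [0, 10, 0, 10], [2, 4, 2, 4, 2, 4], [2, 6, 2, 6], [2, 8, 2, 8], [2, 10, 2,
  10], [4, 6, 4, 6, 4, 6, 4, 6, 4, 6, 4, 6, 4, 6, 4, 6], [4, 8, 4, 8], [4, 10, 4, 10], [6, 8, 6,
  8, 6, 8], [6, 10, 6, 10], [8, 10, 8, 10, 8, 10], [0, 10, 6, 4, 6, 4, 6, 4, 6, 4]]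

/-- The generators. -/
def I1 : List ℕ := [0, 1, 2, 3, 4, 5]

theorem b2 {X : Type*} [Group X] (z : ℕ → X) (hz : ∀ w ∈ K1, wval z w = 1) :
    (gp z [[0], [2], [4], [6], [10]]).relIndex (gp z [[0], [2], [4], [6], [8], [10]]) ≠ 0 ∧
    (gp z [[0], [2], [4], [6], [10]]).relIndex (gp z [[0], [2], [4], [6], [8], [10]]) ≤ 5586 :=
  tc_wrap I1 hz [[0], [2], [4], [6], [8], [10]] TCON2.bound _ _ (by decide +kernel)

theorem b3 {X : Type*} [Group X] (z : ℕ → X) (hz : ∀ w ∈ K1, wval z w = 1) :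
    (gp z [[0], [2], [4]]).relIndex (gp z [[0], [2], [4], [6], [10]]) ≠ 0 ∧
    (gp z [[0], [2], [4]]).relIndex (gp z [[0], [2], [4], [6], [10]]) ≤ 28 :=
  tc_wrap I1 hz [[0], [2], [4], [6], [10]] TCON3.bound _ _ (by decide +kernel)

theorem b4 {X : Type*} [Group X] (z : ℕ → X) (hz : ∀ w ∈ K1, wval z w = 1) :
    (gp z []).relIndex (gp z [[0], [2], [4]]) ≠ 0 ∧
    (gp z []).relIndex (gp z [[0], [2], [4]]) ≤ 24 :=
  tc_wrap I1 hz [[0], [2], [4]] TCON4.bound _ _ (by decide +kernel)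

theorem card_le {X : Type*} [Group X] (z : ℕ → X) (hz : ∀ w ∈ K1, wval z w = 1) :
    Nat.card (gp z (I1.map fun l => [2 * l])) ≠ 0 ∧
    Nat.card (gp z (I1.map fun l => [2 * l])) ≤ 3753792 :=
  (card_le_of_relIndex (gp_mono (by decide)) (b2 z hz)
    (card_le_of_relIndex (gp_mono (by decide)) (b3 z hz)
    (card_le_of_relIndex (gp_mono (by decide)) (b4 z hz)
    (card_gp_nil z))))

/-- Six symmetric matrices, their inverses, some products, and generators of point stabilisers. -/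
def ms : List Mat :=
  [[[1,0,0], [0,1,0], [0,0,1]],
   [[1,1,3], [1,5,6], [3,6,1]],
   [[1,0,1], [0,3,0], [1,0,6]],
   [[0,0,3], [0,3,0], [3,0,0]],
   [[0,1,1], [1,5,2], [1,2,5]],
   [[3,0,0], [0,4,0], [0,0,3]],
   [[1,0,0], [0,1,0], [0,0,1]],
   [[4,3,5], [3,6,4], [5,4,4]],
   [[4,0,4], [0,5,0], [4,0,3]],
   [[0,0,5], [0,5,0], [5,0,0]],
   [[0,4,4], [4,6,1], [4,1,6]],
   [[5,0,0], [0,2,0], [0,0,5]],
   [[4,3,5], [3,6,4], [5,4,4]],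
   [[4,0,4], [0,5,0], [4,0,3]],
   [[0,0,5], [0,5,0], [5,0,0]],
   [[0,4,4], [4,6,1], [4,1,6]],
   [[5,0,0], [0,2,0], [0,0,5]],
   [[1,1,3], [1,5,6], [3,6,1]],
   [[1,0,1], [0,3,0], [1,0,6]],
   [[0,0,3], [0,3,0], [3,0,0]],
   [[0,1,1], [1,5,2], [1,2,5]],
   [[3,0,0], [0,4,0], [0,0,3]],
   [[1,0,0], [0,3,1], [0,1,3]],
   [[1,6,3], [0,3,2], [0,4,3]],
   [[1,3,1], [0,4,1], [0,5,5]],
   [[1,0,0], [0,6,4], [0,6,3]]]

theorem hw : wf (arZ 7 3) ms = true := by decide +kernel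

/-- Every second letter is replaced by the letter of the inverse matrix. -/
def alt : List ℕ → List ℕ
  | i :: j :: w => i :: (j + 12) :: alt w
  | _ => []

/-- The word has even length and consists of the first six letters. -/
def okw : List ℕ → Bool
  | i :: j :: w => I1.contains (i / 2) && I1.contains (j / 2) && i % 2 == 0 && j % 2 == 0 && okw w
  | [_] => false
  | [] => true

theorem hrel : relsB (arZ 7 3) ms (List.range 12) (K1.map alt) [1, 2, 4] = true := by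
  decide +kernel

/-- The straight line program. -/
def st : List (ℕ × List ℕ × List ℕ) :=
  [(22, [], [18, 20, 20, 12, 18]), (23, [], [12, 19, 20, 14, 17, 16]), (24, [], [23, 22, 23, 22,
  22]), (25, [], [22, 23, 22, 22, 23])]

theorem hst : slp (arZ 7 3) ms st [12, 13, 14, 15, 16, 17, 18, 19, 20, 21] = true := by decide +kernel

def t0 : T :=
  (.nd (.nd (.nd (.nd (.nd (.nd (.nd (.nd (.nd .lf 1 0 12 .lf) 2 2 13 .lf) 3 1 16 (.nd (.nd .lf 4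
  2 18 .lf) 5 1 21 .lf)) 6 3 12 (.nd (.nd (.nd .lf 7 5 15 .lf) 8 2 15 .lf) 9 9 14 (.nd .lf 10 5
  19 .lf))) 11 6 19 (.nd (.nd (.nd (.nd .lf 12 9 14 .lf) 13 3 21 .lf) 14 5 20 (.nd (.nd .lf 15 6
  14 .lf) 16 2 12 .lf)) 17 9 17 (.nd (.nd (.nd .lf 18 9 19 .lf) 19 3 16 .lf) 20 5 14 (.nd .lf 21
  6 15 .lf)))) 22 8 19 (.nd (.nd (.nd (.nd (.nd .lf 23 5 14 .lf) 24 2 14 .lf) 25 3 21 (.nd (.nd
  .lf 26 5 19 .lf) 27 8 19 .lf)) 28 5 20 (.nd (.nd (.nd .lf 29 9 19 .lf) 30 6 19 .lf) 31 3 17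
  (.nd .lf 32 2 12 .lf))) 33 5 17 (.nd (.nd (.nd (.nd .lf 34 9 19 .lf) 35 6 20 .lf) 36 5 19 (.nd
  .lf 37 3 16 .lf)) 38 8 14 (.nd (.nd (.nd .lf 39 8 19 .lf) 40 2 19 .lf) 41 5 12 (.nd .lf 42 6 20
  .lf))))) 43 3 21 (.nd (.nd (.nd (.nd (.nd (.nd .lf 44 8 14 .lf) 45 5 14 .lf) 46 5 17 (.nd (.nd
  .lf 47 8 19 .lf) 48 2 19 .lf)) 49 2 21 (.nd (.nd (.nd .lf 50 1 13 .lf) 51 9 14 .lf) 52 10 13
  (.nd .lf 53 8 20 .lf))) 54 11 19 (.nd (.nd (.nd (.nd .lf 55 2 18 .lf) 56 1 15 .lf) 57 6 18 (.nd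
  (.nd .lf 58 6 18 .lf) 59 3 20 .lf)) 60 4 14 (.nd (.nd (.nd .lf 61 4 15 .lf) 62 4 21 .lf) 63 4
  17 (.nd .lf 64 9 18 .lf)))) 65 3 20 (.nd (.nd (.nd (.nd (.nd .lf 66 11 17 .lf) 67 12 19 .lf) 68
  2 21 (.nd (.nd .lf 69 7 14 .lf) 70 8 15 .lf)) 71 2 17 (.nd (.nd (.nd .lf 72 11 12 .lf) 73 5 14
  .lf) 74 7 19 (.nd .lf 75 10 12 .lf))) 76 3 21 (.nd (.nd (.nd (.nd .lf 77 7 15 .lf) 78 4 16 .lf)
  79 11 17 (.nd .lf 80 6 14 .lf)) 81 7 12 (.nd (.nd (.nd .lf 82 11 17 .lf) 83 3 20 .lf) 84 4 12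
  (.nd .lf 85 10 19 .lf)))))) 86 4 20 (.nd (.nd (.nd (.nd (.nd (.nd (.nd .lf 87 10 12 .lf) 88 12
  17 .lf) 89 2 16 (.nd (.nd .lf 90 6 20 .lf) 91 3 20 .lf)) 92 7 17 (.nd (.nd (.nd .lf 93 7 12
  .lf) 94 2 15 .lf) 95 4 14 (.nd .lf 96 5 12 .lf))) 97 4 17 (.nd (.nd (.nd (.nd .lf 98 2 16 .lf)
  99 8 20 .lf) 100 2 17 (.nd (.nd .lf 101 11 14 .lf) 102 9 19 .lf)) 103 2 18 (.nd (.nd (.nd .lf
  104 10 18 .lf) 105 7 20 .lf) 106 7 12 (.nd .lf 107 4 21 .lf)))) 108 11 17 (.nd (.nd (.nd (.nd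
  (.nd .lf 109 11 17 .lf) 110 3 20 .lf) 111 6 17 (.nd (.nd .lf 112 3 12 .lf) 113 4 19 .lf)) 114 6
  13 (.nd (.nd (.nd .lf 115 4 17 .lf) 116 6 13 .lf) 117 4 16 (.nd .lf 118 3 15 .lf))) 119 4 12
  (.nd (.nd (.nd (.nd .lf 120 12 19 .lf) 121 10 14 .lf) 122 2 12 (.nd .lf 123 4 20 .lf)) 124 6 15
  (.nd (.nd (.nd .lf 125 10 12 .lf) 126 4 17 .lf) 127 12 14 (.nd .lf 128 9 13 .lf))))) 129 2 16
  (.nd (.nd (.nd (.nd (.nd (.nd .lf 130 3 15 .lf) 131 7 19 .lf) 132 11 19 (.nd (.nd .lf 133 3 15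
  .lf) 134 4 19 .lf)) 135 7 17 (.nd (.nd (.nd .lf 136 5 15 .lf) 137 7 12 .lf) 138 4 21 (.nd .lf
  139 2 20 .lf))) 140 8 12 (.nd (.nd (.nd (.nd .lf 141 7 19 .lf) 142 2 20 .lf) 143 10 12 (.nd
  (.nd .lf 144 11 12 .lf) 145 3 21 .lf)) 146 5 19 (.nd (.nd (.nd .lf 147 1 14 .lf) 148 11 19 .lf)
  149 10 18 (.nd .lf 150 2 14 .lf)))) 151 3 21 (.nd (.nd (.nd (.nd (.nd .lf 152 8 15 .lf) 153 9
  19 .lf) 154 4 12 (.nd (.nd .lf 155 1 12 .lf) 156 11 12 .lf)) 157 9 13 (.nd (.nd (.nd .lf 158 7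
  19 .lf) 159 12 14 .lf) 160 3 18 (.nd .lf 161 7 15 .lf))) 162 11 19 (.nd (.nd (.nd (.nd .lf 163
  5 19 .lf) 164 3 19 .lf) 165 3 14 (.nd .lf 166 7 12 .lf)) 167 11 12 (.nd (.nd (.nd .lf 168 2 15
  .lf) 169 4 17 .lf) 170 2 14 (.nd .lf 171 6 18 .lf))))))) 172 3 12 (.nd (.nd (.nd (.nd (.nd (.nd
  (.nd (.nd .lf 173 4 19 .lf) 174 6 13 .lf) 175 2 16 (.nd (.nd .lf 176 4 12 .lf) 177 2 12 .lf))
  178 6 18 (.nd (.nd (.nd .lf 179 3 17 .lf) 180 5 13 .lf) 181 6 13 (.nd .lf 182 8 15 .lf))) 183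
  10 17 (.nd (.nd (.nd (.nd .lf 184 5 17 .lf) 185 3 21 .lf) 186 2 20 (.nd (.nd .lf 187 7 17 .lf)
  188 11 17 .lf)) 189 5 17 (.nd (.nd (.nd .lf 190 3 17 .lf) 191 10 17 .lf) 192 10 18 (.nd .lf 193
  6 15 .lf)))) 194 12 12 (.nd (.nd (.nd (.nd (.nd .lf 195 3 18 .lf) 196 2 21 .lf) 197 9 19 (.nd
  (.nd .lf 198 8 15 .lf) 199 2 13 .lf)) 200 1 18 (.nd (.nd (.nd .lf 201 10 18 .lf) 202 11 19 .lf)
  203 4 17 (.nd .lf 204 3 20 .lf))) 205 12 12 (.nd (.nd (.nd (.nd .lf 206 7 19 .lf) 207 9 18 .lf)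
  208 11 14 (.nd .lf 209 2 17 .lf)) 210 7 20 (.nd (.nd (.nd .lf 211 11 17 .lf) 212 7 12 .lf) 213
  3 15 (.nd .lf 214 4 21 .lf))))) 215 6 17 (.nd (.nd (.nd (.nd (.nd (.nd .lf 216 11 17 .lf) 217 3
  20 .lf) 218 7 18 (.nd (.nd .lf 219 4 19 .lf) 220 4 16 .lf)) 221 7 18 (.nd (.nd (.nd .lf 222 2
  20 .lf) 223 5 12 .lf) 224 1 20 (.nd .lf 225 6 18 .lf))) 226 4 19 (.nd (.nd (.nd (.nd .lf 227 4
  12 .lf) 228 6 18 .lf) 229 3 20 (.nd (.nd .lf 230 4 20 .lf) 231 8 12 .lf)) 232 11 12 (.nd (.nd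
  (.nd .lf 233 7 14 .lf) 234 3 16 .lf) 235 2 15 (.nd .lf 236 5 19 .lf)))) 237 10 12 (.nd (.nd
  (.nd (.nd (.nd .lf 238 4 18 .lf) 239 4 15 .lf) 240 12 14 (.nd (.nd .lf 241 6 17 .lf) 242 10 19
  .lf)) 243 10 12 (.nd (.nd (.nd .lf 244 2 21 .lf) 245 1 19 .lf) 246 10 18 (.nd .lf 247 3 16
  .lf))) 248 9 19 (.nd (.nd (.nd (.nd .lf 249 11 14 .lf) 250 2 19 .lf) 251 8 20 (.nd .lf 252 7 20
  .lf)) 253 5 12 (.nd (.nd (.nd .lf 254 3 19 .lf) 255 11 12 .lf) 256 11 12 (.nd .lf 257 3 14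
  .lf)))))) 258 7 12 (.nd (.nd (.nd (.nd (.nd (.nd (.nd .lf 259 2 21 .lf) 260 2 14 .lf) 261 3 17
  (.nd (.nd .lf 262 6 18 .lf) 263 4 12 .lf)) 264 6 18 (.nd (.nd (.nd .lf 265 5 18 .lf) 266 5 15
  .lf) 267 10 17 (.nd .lf 268 6 20 .lf))) 269 3 18 (.nd (.nd (.nd (.nd .lf 270 1 17 .lf) 271 10
  13 .lf) 272 12 14 (.nd (.nd .lf 273 4 12 .lf) 274 11 12 .lf)) 275 7 14 (.nd (.nd (.nd .lf 276 3
  18 .lf) 277 3 17 .lf) 278 9 18 (.nd .lf 279 12 19 .lf)))) 280 2 20 (.nd (.nd (.nd (.nd (.nd .lf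
  281 2 19 .lf) 282 3 12 .lf) 283 6 18 (.nd (.nd .lf 284 4 17 .lf) 285 6 18 .lf)) 286 4 14 (.nd
  (.nd (.nd .lf 287 8 20 .lf) 288 5 14 .lf) 289 2 20 (.nd .lf 290 11 17 .lf))) 291 10 17 (.nd
  (.nd (.nd (.nd .lf 292 3 16 .lf) 293 7 17 .lf) 294 3 12 (.nd .lf 295 3 21 .lf)) 296 11 19 (.nd
  (.nd (.nd .lf 297 8 17 .lf) 298 10 13 .lf) 299 9 14 (.nd .lf 300 2 19 .lf))))) 301 2 21 (.nd
  (.nd (.nd (.nd (.nd (.nd .lf 302 3 17 .lf) 303 4 12 .lf) 304 5 18 (.nd (.nd .lf 305 2 19 .lf)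
  306 6 18 .lf)) 307 6 13 (.nd (.nd (.nd .lf 308 4 15 .lf) 309 7 19 .lf) 310 2 13 (.nd .lf 311 12
  17 .lf))) 312 11 12 (.nd (.nd (.nd (.nd .lf 313 3 13 .lf) 314 9 18 .lf) 315 8 17 (.nd .lf 316 2
  15 .lf)) 317 10 17 (.nd (.nd (.nd .lf 318 7 17 .lf) 319 5 19 .lf) 320 11 17 (.nd .lf 321 3 21
  .lf)))) 322 7 20 (.nd (.nd (.nd (.nd (.nd .lf 323 3 19 .lf) 324 11 14 .lf) 325 7 12 (.nd (.nd
  .lf 326 5 14 .lf) 327 11 12 .lf)) 328 3 19 (.nd (.nd (.nd .lf 329 5 20 .lf) 330 6 20 .lf) 331 2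
  18 (.nd .lf 332 12 19 .lf))) 333 10 17 (.nd (.nd (.nd (.nd .lf 334 3 13 .lf) 335 10 18 .lf) 336
  2 20 (.nd .lf 337 3 12 .lf)) 338 4 17 (.nd (.nd (.nd .lf 339 4 19 .lf) 340 2 17 .lf) 341 6 18
  (.nd .lf 342 6 13 .lf))))))))

theorem tl0 : level (arZ 7 3) ms [12, 13, 14, 15, 16, 17, 18, 19, 20, 21] [] 1 t0 342 = true := by decide +kernel

def t1 : T :=
  (.nd (.nd (.nd (.nd (.nd (.nd (.nd (.nd (.nd .lf 7 10 23 .lf) 8 6 22 .lf) 9 13 23 (.nd (.nd .lf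
  10 10 23 .lf) 11 11 23 .lf)) 12 12 23 (.nd (.nd (.nd .lf 13 11 23 .lf) 14 10 23 .lf) 15 12 23
  (.nd .lf 16 5 22 .lf))) 17 12 23 (.nd (.nd (.nd (.nd .lf 18 12 23 .lf) 19 10 23 .lf) 20 11 23
  (.nd (.nd .lf 21 10 23 .lf) 22 14 23 .lf)) 23 15 23 (.nd (.nd (.nd .lf 24 14 22 .lf) 25 6 22
  .lf) 26 10 23 (.nd .lf 27 14 22 .lf)))) 28 9 23 (.nd (.nd (.nd (.nd (.nd .lf 29 13 23 .lf) 30
  12 23 .lf) 31 11 23 (.nd (.nd .lf 32 6 22 .lf) 33 11 23 .lf)) 34 11 23 (.nd (.nd (.nd .lf 35 11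
  23 .lf) 36 15 23 .lf) 37 5 22 (.nd .lf 38 15 23 .lf))) 39 13 23 (.nd (.nd (.nd (.nd .lf 40 13
  22 .lf) 41 10 23 .lf) 42 11 23 (.nd .lf 43 6 22 .lf)) 44 14 23 (.nd (.nd (.nd .lf 45 9 23 .lf)
  46 14 22 .lf) 47 14 23 (.nd .lf 48 14 22 .lf))))) 49 14 23 (.nd (.nd (.nd (.nd (.nd (.nd .lf 50
  3 22 .lf) 51 13 23 .lf) 52 14 23 (.nd (.nd .lf 53 12 23 .lf) 54 16 23 .lf)) 55 15 23 (.nd (.nd
  (.nd .lf 56 6 23 .lf) 57 13 22 .lf) 58 11 22 (.nd .lf 59 13 22 .lf))) 60 11 23 (.nd (.nd (.nd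
  (.nd .lf 61 12 23 .lf) 62 13 22 .lf) 63 7 22 (.nd .lf 64 16 23 .lf)) 65 8 23 (.nd (.nd (.nd .lf
  66 15 22 .lf) 67 16 22 .lf) 68 15 22 (.nd .lf 69 8 23 .lf)))) 70 12 22 (.nd (.nd (.nd (.nd (.nd
  .lf 71 5 22 .lf) 72 15 22 .lf) 73 11 23 (.nd (.nd .lf 74 13 22 .lf) 75 14 22 .lf)) 76 13 22
  (.nd (.nd (.nd .lf 77 11 23 .lf) 78 7 23 .lf) 79 15 22 (.nd .lf 80 10 23 .lf))) 81 15 23 (.nd
  (.nd (.nd (.nd .lf 82 15 22 .lf) 83 15 23 .lf) 84 8 22 (.nd .lf 85 17 22 .lf)) 86 8 23 (.nd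
  (.nd (.nd .lf 87 16 22 .lf) 88 17 22 .lf) 89 16 23 (.nd .lf 90 9 22 .lf)))))) 91 7 23 (.nd (.nd
  (.nd (.nd (.nd (.nd (.nd .lf 92 11 22 .lf) 93 11 22 .lf) 94 9 22 (.nd (.nd .lf 95 10 23 .lf) 96
  9 23 .lf)) 97 11 22 (.nd (.nd (.nd .lf 98 14 23 .lf) 99 13 23 .lf) 100 3 22 (.nd .lf 101 16 23
  .lf))) 102 12 23 (.nd (.nd (.nd (.nd .lf 103 14 23 .lf) 104 15 23 .lf) 105 11 23 (.nd .lf 106
  16 22 .lf)) 107 6 23 (.nd (.nd (.nd .lf 108 16 22 .lf) 109 14 22 .lf) 110 14 23 (.nd .lf 111 11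
  22 .lf)))) 112 7 22 (.nd (.nd (.nd (.nd (.nd .lf 113 11 23 .lf) 114 12 22 .lf) 115 11 23 (.nd
  (.nd .lf 116 12 22 .lf) 117 13 22 .lf)) 118 14 22 (.nd (.nd (.nd .lf 119 7 22 .lf) 120 17 22
  .lf) 121 17 22 (.nd .lf 122 15 22 .lf))) 123 9 23 (.nd (.nd (.nd (.nd .lf 124 9 22 .lf) 125 17
  23 .lf) 126 6 22 (.nd .lf 127 16 23 .lf)) 128 16 22 (.nd (.nd (.nd .lf 129 14 22 .lf) 130 9 23
  .lf) 131 8 23 (.nd .lf 132 16 22 .lf))))) 133 8 23 (.nd (.nd (.nd (.nd (.nd (.nd .lf 134 10 23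
  .lf) 135 10 22 .lf) 136 8 23 (.nd (.nd .lf 137 12 22 .lf) 138 11 22 .lf)) 139 10 22 (.nd (.nd
  (.nd .lf 140 12 22 .lf) 141 14 22 .lf) 142 4 22 (.nd .lf 143 14 22 .lf))) 144 14 22 (.nd (.nd
  (.nd (.nd .lf 145 12 22 .lf) 146 12 23 .lf) 147 5 23 (.nd .lf 148 15 23 .lf)) 149 15 23 (.nd
  (.nd (.nd .lf 150 13 23 .lf) 151 10 22 .lf) 152 10 22 (.nd .lf 153 15 23 .lf)))) 154 16 22 (.nd
  (.nd (.nd (.nd (.nd .lf 155 2 22 .lf) 156 15 22 .lf) 157 15 23 (.nd (.nd .lf 158 14 22 .lf) 159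
  16 22 .lf)) 160 16 22 (.nd (.nd (.nd .lf 161 11 23 .lf) 162 15 23 .lf) 163 14 23 (.nd .lf 164
  13 23 .lf))) 165 5 23 (.nd (.nd (.nd (.nd .lf 166 12 22 .lf) 167 13 23 .lf) 168 12 23 (.nd .lf
  169 8 22 .lf)) 170 7 23 (.nd (.nd (.nd .lf 171 13 22 .lf) 172 8 22 .lf) 173 12 23 (.nd .lf 174
  13 23 .lf))))))) 175 15 22 (.nd (.nd (.nd (.nd (.nd (.nd (.nd (.nd .lf 176 10 22 .lf) 177 8 23
  .lf) 178 13 23 (.nd (.nd .lf 179 8 22 .lf) 180 13 23 .lf)) 181 13 22 (.nd (.nd (.nd .lf 182 10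
  22 .lf) 183 14 22 .lf) 184 13 22 (.nd .lf 185 12 22 .lf))) 186 4 23 (.nd (.nd (.nd (.nd .lf 187
  12 22 .lf) 188 12 22 .lf) 189 15 22 (.nd .lf 190 1 23 .lf)) 191 14 22 (.nd (.nd (.nd .lf 192 15
  22 .lf) 193 13 22 .lf) 194 15 23 (.nd .lf 195 15 23 .lf)))) 196 13 23 (.nd (.nd (.nd (.nd (.nd
  .lf 197 13 23 .lf) 198 13 23 .lf) 199 15 23 (.nd (.nd .lf 200 2 22 .lf) 201 15 23 .lf)) 202 15
  23 (.nd (.nd (.nd .lf 203 7 22 .lf) 204 9 23 .lf) 205 15 22 (.nd .lf 206 7 23 .lf))) 207 17 23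
  (.nd (.nd (.nd (.nd .lf 208 16 22 .lf) 209 15 23 .lf) 210 10 23 (.nd .lf 211 15 22 .lf)) 212 16
  22 (.nd (.nd (.nd .lf 213 15 23 .lf) 214 7 23 .lf) 215 11 23 (.nd .lf 216 15 23 .lf))))) 217 8
  22 (.nd (.nd (.nd (.nd (.nd (.nd .lf 218 12 22 .lf) 219 9 23 .lf) 220 10 22 (.nd (.nd .lf 221
  11 22 .lf) 222 10 22 .lf)) 223 9 23 (.nd (.nd (.nd .lf 224 7 23 .lf) 225 12 22 .lf) 226 10 23
  (.nd .lf 227 12 22 .lf))) 228 13 22 (.nd (.nd (.nd (.nd .lf 229 14 22 .lf) 230 12 23 .lf) 231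
  11 22 (.nd .lf 232 15 22 .lf)) 233 14 22 (.nd (.nd (.nd .lf 234 13 22 .lf) 235 5 22 .lf) 236 12
  23 (.nd .lf 237 13 22 .lf)))) 238 8 22 (.nd (.nd (.nd (.nd (.nd .lf 239 9 23 .lf) 240 16 22
  .lf) 241 8 22 (.nd (.nd .lf 242 17 23 .lf) 243 17 22 .lf)) 244 16 22 (.nd (.nd (.nd .lf 245 6
  23 .lf) 246 16 23 .lf) 247 9 22 (.nd .lf 248 14 23 .lf))) 249 15 23 (.nd (.nd (.nd (.nd .lf 250
  14 23 .lf) 251 10 22 .lf) 252 12 23 (.nd .lf 253 14 23 .lf)) 254 4 23 (.nd (.nd (.nd .lf 255 14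
  23 .lf) 256 14 23 .lf) 257 12 23 (.nd .lf 258 12 22 .lf)))))) 259 15 23 (.nd (.nd (.nd (.nd
  (.nd (.nd (.nd .lf 260 8 23 .lf) 261 9 22 .lf) 262 13 23 (.nd (.nd .lf 263 9 22 .lf) 264 13 23
  .lf)) 265 14 22 (.nd (.nd (.nd .lf 266 14 22 .lf) 267 14 22 .lf) 268 14 22 (.nd .lf 269 15 23
  .lf))) 270 0 22 (.nd (.nd (.nd (.nd .lf 271 16 22 .lf) 272 14 23 .lf) 273 15 22 (.nd .lf 274 15
  22 .lf)) 275 15 22 (.nd (.nd (.nd .lf 276 16 22 .lf) 277 1 22 .lf) 278 16 23 (.nd .lf 279 15 22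
  .lf)))) 280 12 22 (.nd (.nd (.nd (.nd (.nd .lf 281 7 23 .lf) 282 9 22 .lf) 283 12 23 (.nd (.nd
  .lf 284 7 22 .lf) 285 14 22 .lf)) 286 13 23 (.nd (.nd (.nd .lf 287 11 22 .lf) 288 13 22 .lf)
  289 3 23 (.nd .lf 290 13 22 .lf))) 291 13 22 (.nd (.nd (.nd (.nd .lf 292 11 22 .lf) 293 12 22
  .lf) 294 6 23 (.nd .lf 295 10 22 .lf)) 296 14 23 (.nd (.nd (.nd .lf 297 9 22 .lf) 298 16 23
  .lf) 299 15 23 (.nd .lf 300 14 23 .lf))))) 301 14 23 (.nd (.nd (.nd (.nd (.nd (.nd .lf 302 9 22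
  .lf) 303 10 22 .lf) 304 14 23 (.nd (.nd .lf 305 7 23 .lf) 306 14 22 .lf)) 307 12 23 (.nd (.nd
  (.nd .lf 308 16 22 .lf) 309 15 22 .lf) 310 2 23 (.nd .lf 311 16 22 .lf))) 312 14 22 (.nd (.nd
  (.nd (.nd .lf 313 15 22 .lf) 314 16 23 .lf) 315 11 22 (.nd .lf 316 4 23 .lf)) 317 14 22 (.nd
  (.nd (.nd .lf 318 11 22 .lf) 319 12 22 .lf) 320 13 22 (.nd .lf 321 12 22 .lf)))) 322 12 23 (.nd
  (.nd (.nd (.nd (.nd .lf 323 5 23 .lf) 324 15 23 .lf) 325 11 22 (.nd (.nd .lf 326 13 23 .lf) 327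
  14 23 .lf)) 328 13 23 (.nd (.nd (.nd .lf 329 15 22 .lf) 330 14 22 .lf) 331 2 23 (.nd .lf 332 15
  23 .lf))) 333 13 22 (.nd (.nd (.nd (.nd .lf 334 14 23 .lf) 335 16 23 .lf) 336 11 23 (.nd .lf
  337 9 22 .lf)) 338 8 22 (.nd (.nd (.nd .lf 339 13 23 .lf) 340 6 23 .lf) 341 13 22 (.nd .lf 342
  13 23 .lf))))))))

theorem tl1 : level (arZ 7 3) ms [22, 23] [1] 270 t1 336 = true := by decide +kernel

def t2 : T :=
  (.nd (.nd (.nd (.nd (.nd (.nd .lf 42 3 25 .lf) 43 12 25 (.nd .lf 44 7 25 .lf)) 45 2 24 (.nd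
  (.nd .lf 46 4 25 .lf) 47 6 25 .lf)) 48 8 25 (.nd (.nd (.nd .lf 56 2 25 .lf) 57 11 25 .lf) 58 6
  25 (.nd (.nd .lf 59 8 25 .lf) 60 3 25 .lf))) 61 5 24 (.nd (.nd (.nd (.nd .lf 62 7 25 .lf) 119 1
  24 .lf) 120 10 25 (.nd (.nd .lf 121 5 25 .lf) 122 7 25 .lf)) 123 2 25 (.nd (.nd (.nd .lf 124 11
  25 .lf) 125 6 25 .lf) 182 7 25 (.nd (.nd .lf 183 9 25 .lf) 184 4 24 .lf)))) 185 6 25 (.nd (.nd
  (.nd (.nd (.nd .lf 186 1 25 .lf) 187 10 25 (.nd .lf 188 5 25 .lf)) 196 6 25 (.nd (.nd .lf 197 8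
  25 .lf) 198 10 25 .lf)) 199 5 25 (.nd (.nd (.nd .lf 200 0 24 .lf) 201 9 25 .lf) 202 4 25 (.nd
  (.nd .lf 259 5 25 .lf) 260 7 25 .lf))) 261 9 25 (.nd (.nd (.nd (.nd .lf 262 4 25 .lf) 263 6 25
  .lf) 264 8 25 (.nd (.nd .lf 265 3 24 .lf) 322 4 25 .lf)) 323 6 24 (.nd (.nd (.nd .lf 324 8 25
  .lf) 325 3 25 .lf) 326 5 25 (.nd (.nd .lf 327 7 25 .lf) 328 9 25 .lf)))))

theorem tl2 : level (arZ 7 3) ms [24, 25] [270, 1] 200 t2 49 = true := by decide +kernel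


/-- The meaning of the codes. -/
def sm : Sem (arZ 7 3) (ZMod 7) (Fin 3) := semZ 7 3 (by norm_num) (Equiv.refl _)

instance prime7 : Fact (Nat.Prime 7) := ⟨by norm_num⟩

/-- The special linear group. -/
abbrev S := SpecialLinearGroup (Fin 3) (ZMod 7)

/-- The projective special linear group. -/
abbrev PS := ProjectiveSpecialLinearGroup (Fin 3) (ZMod 7)

/-- The matrix of an element. -/
def ρ : S →* Matrix (Fin 3) (Fin 3) (ZMod 7) := SpecialLinearGroup.coeMonoidHom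

theorem ρ_inj : Function.Injective ρ := Subtype.val_injective

theorem rep_top : ∀ l ∈ List.range 12, sm.Rep ρ ms ⊤ l := fun l hl =>
  ⟨⟨sm.mat (gm ms l), by rw [gm_eq, det_fin_three]; revert l; decide +kernel⟩, trivial, rfl⟩

/-- The matrices as group elements. -/
noncomputable def g : ℕ → S := sm.el ρ ms ⊤

theorem ρ_g : ∀ l ∈ List.range 12, ρ (g l) = sm.mat (gm ms l) := sm.rho_el ρ rep_top

theorem gr_g : ∀ l ∈ I1, AutSLBasic.gr (g l) = g (l + 6) := fun l hl => by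
  have h1 : l < 6 := by revert l; decide
  have h2 : ρ (g (l + 6)) = sm.mat (gm ms (l + 6)) := ρ_g _ (List.mem_range.2 (by omega))
  have h3 : (g l)⁻¹ = g (l + 6) := inv_eq_of_mul_eq_one_right (ρ_inj (by
    rw [map_mul, ρ_g _ (List.mem_range.2 (by omega)), h2, map_one]
    exact sm.mul_eq_one hw ((by decide +kernel :
      ∀ l ∈ I1, eqB (arZ 7 3) ms [l, l + 6] [] 1 = true) l hl)))
  refine ρ_inj ?_
  change (ρ (g l)⁻¹)ᵀ = _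
  rw [h3, h2, gm_eq]
  exact (by decide +kernel : ∀ l ∈ I1, (sm.mat (ms.getD (l + 6) []))ᵀ = sm.mat (ms.getD (l + 6) []))
    l hl

/-- The graph automorphism of the projective group. -/
def τ : MulAut PS := GF4.quotCenterCongr AutSLBasic.gr

theorem τ_τ : τ * τ = 1 := MulEquiv.ext fun x => by
  obtain ⟨x, rfl⟩ := QuotientGroup.mk_surjective x
  exact congrArg QuotientGroup.mk (AutSLBasic.gr_gr x)

/-- The extension by the graph automorphism. -/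
abbrev X := PS ⋊[FormSpin.signHom τ τ_τ] ℤˣ

/-- The map from the special linear group. -/
def π : S →* X := SemidirectProduct.inl.comp (QuotientGroup.mk' _)

/-- The generators. -/
noncomputable def f (l : ℕ) : X := ⟨QuotientGroup.mk (g l), -1⟩

theorem f_mul {i j : ℕ} (hj : j ∈ I1) : f i * f j = π (g i * g (j + 6)) := by
  rw [← gr_g j hj]
  refine SemidirectProduct.ext ?_ (by simp [f, π])
  rw [SemidirectProduct.mul_left]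
  simp only [f, FormSpin.signHom_neg_one]
  rfl

theorem wval_f : ∀ w, okw w = true → wval f w = π (wval g (alt w))
  | [], _ => by simp [alt]
  | [_], h => by simp [okw] at h
  | i :: j :: w, h => by
    simp only [okw, Bool.and_eq_true, List.contains_iff_mem, beq_iff_eq] at h
    obtain ⟨⟨⟨⟨-, h2⟩, h3⟩, h4⟩, h5⟩ := h
    rw [alt, wval_cons, wval_cons, wval_cons, wval_cons, wval_f w h5, ← mul_assoc, ← mul_assoc,
      map_mul]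
    simp only [lval, h3, h4, show (j + 12) % 2 = 0 by omega, show (j + 12) / 2 = j / 2 + 6 by omega,
      if_true, f_mul h2]

theorem hf : ∀ w ∈ K1, wval f w = 1 := fun w hw' => by
  rw [wval_f w (List.all_eq_true.1 (by decide : K1.all okw = true) w hw')]
  exact (congrArg _ ((QuotientGroup.eq_one_iff _).2 (sm.rels_center hw ρ ρ_inj ρ_g hrel _
    (List.mem_map_of_mem hw')))).trans (map_one SemidirectProduct.inl)

theorem f_mem {l : ℕ} (hl : l ∈ I1) : f l ∈ gp f (I1.map fun l => [2 * l]) :=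
  wval_single f l ▸ mem_gp (List.mem_map_of_mem hl)

theorem card_S : Nat.card S = 5630688 := by
  have h := LinearOrders.card_SL_mul (F := ZMod 7) (n := Fin 3)
  rw [Matrix.card_GL_field, ZMod.card, Fin.prod_univ_three] at h
  exact Nat.eq_of_mul_eq_mul_right (show 0 < 7 - 1 by norm_num) (h.trans (by decide))

theorem card_PS : Nat.card PS = 1876896 := by
  have h := LinearOrders.card_PSL_mul (F := ZMod 7) (n := Fin 3)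
  rw [card_S, ZMod.card, Fintype.card_fin] at h
  exact Nat.eq_of_mul_eq_mul_right (show 0 < Nat.gcd 3 (7 - 1) by norm_num) (h.trans (by norm_num))

/-- The products of two generators. -/
def trip : List (ℕ × ℕ × ℕ) :=
  [(0, 1, 12), (0, 2, 13), (0, 3, 14), (0, 4, 15), (0, 5, 16), (1, 0, 17), (2, 0, 18), (3, 0, 19), (4, 0, 20), (5, 0, 21)]

theorem comap_top : (gp f (I1.map fun l => [2 * l])).comap π = ⊤ := by
  have h0 : ∀ t ∈ trip,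
      t.1 ∈ I1 ∧ t.2.1 ∈ I1 ∧ eqB (arZ 7 3) ms [t.1, t.2.1 + 6] [t.2.2] 1 = true := by decide +kernel
  have h1 : ∀ l ∈ [12, 13, 14, 15, 16, 17, 18, 19, 20, 21],
      sm.Rep ρ ms ((gp f (I1.map fun l => [2 * l])).comap π) l := fun l hl => by
    obtain ⟨t, ht, rfl⟩ := (List.mem_map (f := fun t : ℕ × ℕ × ℕ => t.2.2) (l := trip)).1 hl
    obtain ⟨a1, a2, a3⟩ := h0 t ht
    have b : ∀ l ∈ I1, l ∈ List.range 12 ∧ l + 6 ∈ List.range 12 := by decide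
    refine ⟨g t.1 * g (t.2.1 + 6), ?_, ?_⟩
    · rw [Subgroup.mem_comap, ← f_mul a2]
      exact mul_mem (f_mem a1) (f_mem a2)
    · rw [map_mul, ρ_g _ (b _ a1).1, ρ_g _ (b _ a2).2]
      simpa [Sem.wm] using sm.wm_eq_one hw a3
  have h := sm.rep_of_slp hw ρ st h1 hst
  refine Subgroup.eq_top_of_le_card _ (card_S.trans_le ?_)
  rw [← sm.fx_nil ρ (Subgroup.comap _ _)]
  exact (sm.le_card ρ hw (Sem.Rep.sub _ _ h (by decide)) tl0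
    (sm.le_card ρ hw (Sem.Rep.sub _ _ h (by decide)) tl1
    (sm.le_card ρ hw (Sem.Rep.sub _ _ h (by decide)) tl2
    (sm.one_le ρ _))))

theorem gp_top : gp f (I1.map fun l => [2 * l]) = ⊤ := by
  have h : ∀ x : X, x.right = 1 → x ∈ gp f (I1.map fun l => [2 * l]) := by
    rintro ⟨x, u⟩ (rfl : u = 1)
    obtain ⟨x, rfl⟩ := QuotientGroup.mk_surjective x
    exact (comap_top.ge (Subgroup.mem_top x) :)
  refine eq_top_iff.2 fun x _ => ?_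
  rcases Int.units_eq_one_or x.right with e | e
  · exact h x e
  · exact (mul_mem_cancel_right (f_mem (l := 0) (by decide))).1 (h _ (by simp [e, f]))

theorem final {H : Type} [Group H] (e : H ≃* X) :
    ∃ N : Subgroup H, N.Normal ∧ N.index = 2 ∧ Nonempty (N ≃* PS) := by
  refine ⟨(SemidirectProduct.rightHom.ker).comap (e : H →* X), inferInstance, ?_, ⟨?_⟩⟩
  · rw [Subgroup.index_comap_of_surjective (f := (e : H →* X)) _ e.surjective, Subgroup.index_ker,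
      MonoidHom.range_eq_top.2 SemidirectProduct.rightHom_surjective, Subgroup.card_top,
      Nat.card_eq_fintype_card, Fintype.card_units_int]
  · exact (FormMatrix.subEquiv e _ _ fun _ => Iff.rfl).trans
      ((MulEquiv.subgroupCongr SemidirectProduct.range_inl_eq_ker_rightHom.symm).trans
        (MonoidHom.ofInjective SemidirectProduct.inl_injective).symm)


/-- In the presented O'Nan group, the subgroup H generated by the images of a, …, f has a normal subgroup of index 2 isomorphic to PSL(3, 7). -/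
theorem result : ∃ N : Subgroup (((Subgroup.closure ({Cfsg.Spor.ON.a, Cfsg.Spor.ON.b, Cfsg.Spor.ON.c, Cfsg.Spor.ON.d, Cfsg.Spor.ON.e, Cfsg.Spor.ON.f} : Set (FreeGroup Cfsg.Spor.ON.Gen))).map (PresentedGroup.mk (Cfsg.Spor.coxRelators Cfsg.Spor.ON.edges ∪ {r | r ∈ Cfsg.Spor.ON.extra})))), N.Normal ∧ N.index = 2 ∧ Nonempty (N ≃* Matrix.ProjectiveSpecialLinearGroup (Fin 3) (ZMod 7)) := by
  rw [ONBase.map_closure [.g 0, .g 1, .g 2, .g 3, .g 4, .g 5] _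
    (by ext; simp only [E.eval, ONBase.gen, List.map_cons, List.map_nil, List.mem_cons,
      List.not_mem_nil, or_false, Set.mem_insert_iff, Set.mem_singleton_iff, Set.mem_ofPred_eq])]
  obtain ⟨e, -⟩ := PermModel.exists_hom_of_model (y := ONBase.y)
    (derive ONBase.I ONBase.hK K1 (by decide +kernel)) hf (fun z hz => card_le z hz)
    (ONA.card_hs.symm.trans (congrArg (fun A : Subgroup _ => Nat.card A)
      (ONA.gpY _ (by decide)))).le (by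
        rw [gp_top, Subgroup.card_top, SemidirectProduct.card, card_PS, Nat.card_eq_fintype_card,
          Fintype.card_units_int])
  exact final (e.trans ((MulEquiv.subgroupCongr gp_top).trans Subgroup.topEquiv))

end Cfsg.Agent.S1693
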