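import Cfsg.Statements.S1684
import Cfsg.Agent.Lib.Fi22A
import Cfsg.Agent.Lib.MatChk
import Cfsg.Agent.Lib.SUBasic
import Cfsg.Agent.Lib.AutUnit
import Cfsg.Agent.Lib.LinearOrders
import Cfsg.Agent.Lib.TCU62a
import Cfsg.Agent.Lib.TCU62b

set_option autoImplicit false
open Cfsg

namespace Cfsg.Agent.S1684

open Cfsg.Agent.Lib Cfsg.Agent.Lib.PermNet Cfsg.Agent.Lib.Words Cfsg.Agent.Lib.PermGroup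
  Cfsg.Agent.Lib.MatChk Cfsg.Agent.Lib.GF4 Matrix

open scoped commutatorElement

set_option maxRecDepth 100000
set_option Elab.async false

/-- The Coxeter relators on `a, c, d, e, f, g, h, i, t` and one more. -/
def K0 : List (List ℕ) :=
  [[0, 0], [2, 2], [4, 4], [6, 6], [8, 8], [10, 10], [12, 12], [14, 14], [16, 16], [0, 2, 0, 2],
  [0, 4, 0, 4], [0, 6, 0, 6], [0, 8, 0, 8], [0, 10, 0, 10], [0, 12, 0, 12], [0, 14, 0, 14], [0,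
  16, 0, 16], [2, 4, 2, 4, 2, 4], [2, 6, 2, 6], [2, 8, 2, 8], [2, 10, 2, 10], [2, 12, 2, 12], [2,
  14, 2, 14], [2, 16, 2, 16], [4, 6, 4, 6, 4, 6], [4, 8, 4, 8], [4, 10, 4, 10], [4, 12, 4, 12, 4,
  12], [4, 14, 4, 14], [4, 16, 4, 16], [6, 8, 6, 8, 6, 8], [6, 10, 6, 10], [6, 12, 6, 12], [6,
  14, 6, 14], [6, 16, 6, 16], [8, 10, 8, 10, 8, 10], [8, 12, 8, 12], [8, 14, 8, 14], [8, 16, 8,
  16, 8, 16], [10, 12, 10, 12], [10, 14, 10, 14], [10, 16, 10, 16], [12, 14, 12, 14, 12, 14],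
  [12, 16, 12, 16], [14, 16, 14, 16, 14, 16], [14, 12, 4, 6, 8, 10, 2, 14, 12, 4, 6, 8, 10, 2,
  14, 12, 4, 6, 8, 10, 2, 14, 12, 4, 6, 8, 10, 2, 14, 12, 4, 6, 8, 10, 2, 14, 12, 4, 6, 8, 10, 2,
  14, 12, 4, 6, 8, 10, 2, 14, 12, 4, 6, 8, 10, 2, 14, 12, 4, 6, 8, 10, 2]]

/-- All relators. -/
def K1 : List (List ℕ) := K0 ++
  [[4, 6, 8, 16, 14, 12, 14, 16, 8, 6, 4, 6, 8, 16, 14, 12, 14, 16, 8, 6, 4, 6, 8, 16, 14, 12,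
  14, 16, 8, 6], [16, 8, 6, 10, 8, 14, 16, 8, 6, 14, 10, 12, 14, 8, 16, 14, 8, 10, 6, 8, 16, 0,
  6, 8, 6, 10, 8, 6, 12, 14, 12], [16, 8, 6, 4, 10, 8, 16, 2, 6, 8, 10, 4, 6, 8, 16, 12, 4, 2, 6,
  4, 8, 6, 10, 8, 12, 4, 2, 6, 4, 12], [16, 8, 14, 12, 4, 16, 14, 6, 8, 16, 12, 14, 4, 6, 8, 16,
  12, 4, 6, 8, 14, 12, 4, 6]]

/-- The generators. -/
def I1 : List ℕ := [0, 1, 2, 3, 4, 5, 6, 7, 8]

theorem b1 {X : Type*} [Group X] (z : ℕ → X) (hz : ∀ w ∈ K1, wval z w = 1) :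
    (gp z [[0], [2], [4], [6], [8], [10], [12], [14]]).relIndex (gp z [[0], [2], [4], [6], [8], [10], [12], [14], [16]]) ≠ 0 ∧
    (gp z [[0], [2], [4], [6], [8], [10], [12], [14]]).relIndex (gp z [[0], [2], [4], [6], [8], [10], [12], [14], [16]]) ≤ 6336 :=
  tc_wrap I1 hz [[0], [2], [4], [6], [8], [10], [12], [14], [16]] TCU62a.bound _ _ (by decide +kernel)

theorem b2 {X : Type*} [Group X] (z : ℕ → X) (hz : ∀ w ∈ K1, wval z w = 1) :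
    (gp z [[14], [12], [4], [6], [8], [10], [2]]).relIndex (gp z [[0], [2], [4], [6], [8], [10], [12], [14]]) ≠ 0 ∧
    (gp z [[14], [12], [4], [6], [8], [10], [2]]).relIndex (gp z [[0], [2], [4], [6], [8], [10], [12], [14]]) ≤ 2 :=
  tc_wrap I1 hz [[0], [2], [4], [6], [8], [10], [12], [14]] TCU62b.bound _ _ (by decide +kernel)

theorem b3 {X : Type*} [Group X] (z : ℕ → X) (hz : ∀ w ∈ K1, wval z w = 1) :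
    (gp z [[14], [12], [4], [6], [8], [2]]).relIndex (gp z [[14], [12], [4], [6], [8], [10], [2]]) ≠ 0 ∧
    (gp z [[14], [12], [4], [6], [8], [2]]).relIndex (gp z [[14], [12], [4], [6], [8], [10], [2]]) ≤ 28 :=
  tc_wrap I1 hz [[14], [12], [4], [6], [8], [10], [2]] TCFi22S.bound _ _ (by decide +kernel)

theorem b4 {X : Type*} [Group X] (z : ℕ → X) (hz : ∀ w ∈ K1, wval z w = 1) :
    (gp z [[12], [4], [6], [8], [2]]).relIndex (gp z [[14], [12], [4], [6], [8], [2]]) ≠ 0 ∧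
    (gp z [[12], [4], [6], [8], [2]]).relIndex (gp z [[14], [12], [4], [6], [8], [2]]) ≤ 27 :=
  tc_wrap I1 hz [[14], [12], [4], [6], [8], [2]] TCFiE6.bound _ _ (by decide +kernel)

theorem b5 {X : Type*} [Group X] (z : ℕ → X) (hz : ∀ w ∈ K1, wval z w = 1) :
    (gp z [[12], [4], [6], [8]]).relIndex (gp z [[12], [4], [6], [8], [2]]) ≠ 0 ∧
    (gp z [[12], [4], [6], [8]]).relIndex (gp z [[12], [4], [6], [8], [2]]) ≤ 16 :=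
  tc_wrap I1 hz [[12], [4], [6], [8], [2]] TCFiD5.bound _ _ (by decide +kernel)

theorem b6 {X : Type*} [Group X] (z : ℕ → X) (hz : ∀ w ∈ K1, wval z w = 1) :
    (gp z []).relIndex (gp z [[12], [4], [6], [8]]) ≠ 0 ∧
    (gp z []).relIndex (gp z [[12], [4], [6], [8]]) ≤ 120 :=
  tc_wrap I1 hz [[12], [4], [6], [8]] TCFiA4.bound _ _ (by decide +kernel)

theorem card_le {X : Type*} [Group X] (z : ℕ → X) (hz : ∀ w ∈ K1, wval z w = 1) :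
    Nat.card (gp z (I1.map fun l => [2 * l])) ≠ 0 ∧
    Nat.card (gp z (I1.map fun l => [2 * l])) ≤ 18393661440 :=
  (card_le_of_relIndex (gp_mono (by decide)) (b1 z hz)
    (card_le_of_relIndex (gp_mono (by decide)) (b2 z hz)
    (card_le_of_relIndex (gp_mono (by decide)) (b3 z hz)
    (card_le_of_relIndex (gp_mono (by decide)) (b4 z hz)
    (card_le_of_relIndex (gp_mono (by decide)) (b5 z hz)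
    (card_le_of_relIndex (gp_mono (by decide)) (b6 z hz)
    (card_gp_nil z)))))))

theorem ab_triv {A : Type*} [CommGroup A] (z : ℕ → A) (hz : ∀ w ∈ K0, wval z w = 1) :
    ∀ l ∈ I1, l ≠ 0 → z l = 1 := by
  have e2 := DoubleCover.eq_of_braid I1 hz 1 2 (by decide +kernel)
  have e3 := DoubleCover.eq_of_braid I1 hz 2 3 (by decide +kernel)
  have e4 := DoubleCover.eq_of_braid I1 hz 3 4 (by decide +kernel)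
  have e5 := DoubleCover.eq_of_braid I1 hz 4 5 (by decide +kernel)
  have e6 := DoubleCover.eq_of_braid I1 hz 2 6 (by decide +kernel)
  have e7 := DoubleCover.eq_of_braid I1 hz 6 7 (by decide +kernel)
  have e8 := DoubleCover.eq_of_braid I1 hz 4 8 (by decide +kernel)
  have h0 : z 1 ^ 2 = 1 := by
    simpa [wval, lval, sq] using derive_one I1 hz [2, 2] (by decide +kernel)
  have h1 := derive_one I1 hz (rep 9 [14, 12, 4, 6, 8, 10, 2]) (by decide +kernel)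
  rw [wval_rep] at h1
  have h2 : wval z [14, 12, 4, 6, 8, 10, 2] = (z 1 ^ 2) ^ 3 * z 1 := by
    simp [wval, lval, ← e7, ← e6, ← e5, ← e4, ← e3, ← e2, pow_succ, mul_assoc]
  rw [h2, h0, one_pow, one_mul, show 9 = 2 * 4 + 1 from rfl, pow_succ, pow_mul, h0, one_pow,
    one_mul] at h1
  intro l hl h
  simp only [I1, List.mem_cons, List.not_mem_nil, or_false] at hl
  rcases hl with rfl | rfl | rfl | rfl | rfl | rfl | rfl | rfl | rfl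
  · exact absurd rfl h
  all_goals simp only [← e8, ← e7, ← e6, ← e5, ← e4, ← e3, ← e2, h1]

theorem perfect_of {G : Type*} [Group G] {z : ℕ → G} (hz : ∀ w ∈ K0, wval z w = 1)
    (ht : gp z (I1.map fun l => [2 * l]) = ⊤)
    (h0 : (∀ l ∈ I1, l ≠ 0 → Abelianization.of (z l) = 1) → Abelianization.of (z 0) = 1) :
    commutator G = ⊤ := by
  have h := ab_triv (fun i => Abelianization.of (z i)) fun w hw => by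
    rw [← map_wval, hz w hw, map_one]
  rw [eq_top_iff, ← ht, ← Abelianization.ker_of]
  refine gp_le.2 fun w hw => ?_
  obtain ⟨l, hl, rfl⟩ := List.mem_map.1 hw
  rw [wval_single]
  by_cases h1 : l = 0
  · exact h1 ▸ h0 h
  · exact h l hl h1

theorem hom_of_bound {G X : Type*} [Group G] [Group X] {y : ℕ → G} {f : ℕ → X}
    {K : List (List ℕ)} (hy : ∀ w ∈ K, wval y w = 1) (hf : ∀ w ∈ K, wval f w = 1)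
    {ls : List (List ℕ)} {T : ℕ}
    (hub : ∀ z : ℕ → G × X, (∀ w ∈ K, wval z w = 1) →
      Nat.card (gp z ls) ≠ 0 ∧ Nat.card (gp z ls) ≤ T)
    (h1 : gp y ls = ⊤) (h2 : T ≤ Nat.card G) :
    ∃ α : G →* X, ∀ w ∈ ls, α (wval y w) = wval f w := by
  let z : ℕ → G × X := fun i => (y i, f i)
  have p1 : ∀ w, (wval z w).1 = wval y w := fun w => map_wval (MonoidHom.fst G X) z w
  have p2 : ∀ w, (wval z w).2 = wval f w := fun w => map_wval (MonoidHom.snd G X) z w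
  have hb := hub z fun w hw => Prod.ext (by rw [p1, hy w hw]; rfl) (by rw [p2, hf w hw]; rfl)
  have : Finite (gp z ls) := Nat.finite_of_card_ne_zero hb.1
  let p : gp z ls →* G := (MonoidHom.fst G X).comp (Subgroup.subtype _)
  have hs : Function.Surjective p := by
    rw [← MonoidHom.range_eq_top, MonoidHom.range_comp, Subgroup.range_subtype, map_gp]
    exact h1
  have hp : Function.Bijective p := (Nat.bijective_iff_surjective_and_card _).2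
    ⟨hs, le_antisymm (hb.2.trans h2) (Nat.card_le_card_of_surjective _ hs)⟩
  refine ⟨((MonoidHom.snd G X).comp (Subgroup.subtype _)).comp
    (MulEquiv.ofBijective p hp).symm.toMonoidHom,
    fun w hw => ?_⟩
  have : (MulEquiv.ofBijective p hp).symm (wval y w) = ⟨wval z w, mem_gp hw⟩ := by
    rw [MulEquiv.symm_apply_eq]
    exact (p1 w).symm
  exact (congrArg (fun x : gp z ls => x.1.2) this).trans (p2 w)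

theorem nonsplit {G S : Type*} [Group G] [Group S] (α : G →* S) (hα : Function.Surjective α)
    (hk : Nat.card α.ker = 2) (hS : Subgroup.center S = ⊥) (hp : commutator G = ⊤) :
    IsNonsplitDoubleCover G S := by
  obtain ⟨z, hz, hu⟩ := (Nat.card_eq_two_iff' (1 : α.ker)).1 hk
  have hker : α.ker = Subgroup.center G := by
    refine le_antisymm (fun g hg => Subgroup.mem_center_iff.2 fun x => ?_) fun g hg => ?_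
    · by_cases h : g = 1
      · simp [h]
      · have h1 := hu ⟨g, hg⟩ fun e => h (congrArg Subtype.val e)
        have h2 := hu ⟨_, α.normal_ker.conj_mem g hg x⟩ fun e => h (by
          simpa using congrArg Subtype.val e)
        exact mul_inv_eq_iff_eq_mul.1 (congrArg Subtype.val (h2.trans h1.symm))
    · refine (hS.le (Subgroup.mem_center_iff.2 fun x => ?_) :)
      obtain ⟨x, rfl⟩ := hα x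
      rw [← map_mul, ← map_mul, Subgroup.mem_center_iff.1 hg x]
  refine ⟨hker ▸ hk, ⟨(QuotientGroup.quotientMulEquivOfEq hker.symm).trans
    (QuotientGroup.quotientKerEquivOfSurjective α hα)⟩, fun L hL => ?_⟩
  have hn : commutator G ≤ L := by
    rw [commutator_def, Subgroup.commutator_le]
    intro a _ b _
    obtain ⟨⟨⟨c, hc⟩, ⟨l, hl⟩⟩, rfl⟩ := hL.2 a
    obtain ⟨⟨⟨d, hd⟩, ⟨m, hm⟩⟩, rfl⟩ := hL.2 b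
    have hc := Subgroup.mem_center_iff.1 hc
    have hd := Subgroup.mem_center_iff.1 hd
    have : ⁅c * l, d * m⁆ = ⁅l, m⁆ := by
      simp only [commutatorElement_def, _root_.mul_inv_rev]
      calc c * l * (d * m) * (l⁻¹ * c⁻¹) * (m⁻¹ * d⁻¹)
          = (c * (l * (d * m) * l⁻¹) * c⁻¹) * (m⁻¹ * d⁻¹) := by group
        _ = l * (d * m) * l⁻¹ * (m⁻¹ * d⁻¹) := by rw [← hc]; group
        _ = l * (d * (m * l⁻¹ * m⁻¹) * d⁻¹) := by group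
        _ = l * m * l⁻¹ * m⁻¹ := by rw [← hd]; group
    exact this ▸ L.mul_mem (L.mul_mem (L.mul_mem hl hm) (L.inv_mem hl)) (L.inv_mem hm)
  have : z.1 ∈ Subgroup.center G ⊓ L := ⟨hker ▸ z.2, hn (hp ▸ Subgroup.mem_top _)⟩
  rw [hL.disjoint.eq_bot] at this
  exact hz (Subtype.ext this)

/-- The matrices. -/
def ms : List Mat :=
  [[[1,0,0,0,0,0], [0,1,0,0,0,0], [0,0,1,0,0,0], [0,0,0,1,0,0], [0,0,0,0,1,0], [0,0,0,0,0,1]],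
   [[1,0,0,0,0,0], [0,0,2,0,3,2], [0,3,0,0,2,1], [0,0,0,1,0,0], [0,2,3,0,0,3], [0,3,1,0,2,0]],
   [[0,1,2,3,1,1], [1,0,2,3,1,1], [3,3,0,2,3,3], [2,2,3,0,2,2], [1,1,2,3,0,1], [1,1,2,3,1,0]],
   [[0,0,0,3,2,1], [0,1,0,0,0,0], [0,0,1,0,0,0], [2,0,0,0,3,2], [3,0,0,2,0,3], [1,0,0,3,2,0]],
   [[0,2,3,1,2,1], [3,0,2,3,1,3], [2,3,0,2,3,2], [1,2,3,0,2,1], [3,1,2,3,0,3], [1,2,3,1,2,0]],
   [[0,3,1,3,0,0], [2,0,2,1,0,0], [1,3,0,3,0,0], [2,1,2,0,0,0], [0,0,0,0,1,0], [0,0,0,0,0,1]],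
   [[1,0,0,0,0,0], [0,0,2,0,1,3], [0,3,0,0,3,2], [0,0,0,1,0,0], [0,1,2,0,0,3], [0,2,3,0,2,0]],
   [[1,0,0,0,0,0], [0,0,3,3,2,0], [0,2,0,1,3,0], [0,2,1,0,3,0], [0,3,2,2,0,0], [0,0,0,0,0,1]],
   [[0,1,2,3,0,0], [1,0,2,3,0,0], [3,3,0,2,0,0], [2,2,3,0,0,0], [0,0,0,0,1,0], [0,0,0,0,0,1]],
   [[0,1,2,2,2,1], [1,0,2,2,2,1], [3,3,0,1,1,3], [3,3,1,0,1,3], [3,3,1,1,0,3], [1,1,2,2,2,0]],
   [[0,1,2,1,3,2], [1,0,2,1,3,2], [3,3,0,3,2,1], [1,1,2,0,3,2], [2,2,3,2,1,0], [3,3,1,3,0,1]],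
   [[1,0,2,1,1,3], [0,1,2,1,1,3], [3,3,1,1,0,3], [1,1,1,0,3,3], [1,1,0,2,1,1], [2,2,2,2,1,0]],
   [[0,1,2,3,0,0], [1,0,2,3,0,0], [3,3,0,2,0,0], [2,2,3,0,0,0], [0,0,0,0,0,3], [0,0,0,0,2,0]],
   [[0,1,3,2,2,2], [1,0,3,2,2,2], [2,2,1,3,0,3], [3,3,2,0,1,1], [3,3,0,1,1,1], [3,3,2,1,1,0]],
   [[0,1,2,3,0,0], [1,0,2,3,0,0], [3,3,0,2,0,0], [2,2,3,0,0,0], [0,0,0,0,1,0], [0,0,0,0,0,1]],
   [[0,1,3,0,2,0], [1,0,3,0,2,0], [2,2,1,3,0,3], [0,0,2,0,1,1], [3,3,0,1,1,1], [0,0,2,1,1,0]],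
   [[1,0,0,0,0,0], [0,1,0,0,0,0], [0,0,0,3,3,3], [0,0,2,0,1,1], [0,0,2,1,0,1], [0,0,2,1,1,0]],
   [[1,0,2,2,3,3], [0,1,2,2,3,3], [3,3,1,0,0,0], [3,3,0,1,0,0], [2,2,0,0,1,0], [2,2,0,0,0,1]],
   [[1,0,0,0,0,0], [0,1,0,0,0,0], [0,0,0,3,1,2], [0,0,2,0,2,3], [0,0,2,1,2,0], [0,0,2,1,0,3]],
   [[3,2,2,2,2,0], [2,3,2,2,2,0], [0,0,2,2,0,3], [1,1,0,3,1,1], [1,1,3,0,1,1], [3,3,3,3,1,0]],
   [[1,0,0,0,0,0], [0,1,0,0,0,0], [0,0,0,3,3,3], [0,0,2,0,1,1], [0,0,1,3,3,0], [0,0,3,2,0,2]],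
   [[1,0,0,0,0,0], [0,1,0,0,0,0], [0,0,0,3,1,2], [0,0,2,0,2,3], [0,0,1,3,0,2], [0,0,3,2,3,0]]]

theorem hw : wf (ar4 6) ms = true := by decide +kernel

theorem hrel0 : relsB (ar4 6) ms I1 K0 [1] = true := by decide +kernel

theorem hrel : relsB (ar4 6) ms I1 K1 [1, 2, 3] = true := by decide +kernel

/-- The straight line program. -/
def st : List (ℕ × List ℕ × List ℕ) :=
  [(9, [], [1, 3, 1, 4, 3]), (10, [], [1, 5, 4, 3, 8, 4, 7, 7, 5, 4, 6, 1]), (11, [], [1, 3, 2,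
  1, 7, 8, 6, 3, 2, 1, 3, 7]), (12, [], [9, 10, 9]), (13, [], [2, 10, 11, 10, 2]), (14, [], [10,
  9, 10]), (15, [], [2, 9, 2, 2, 9, 11, 2]), (16, [], [11, 2, 11]), (17, [], [2, 9, 2, 10, 11,
  10, 11, 2, 9, 2]), (18, [], [16, 12, 14]), (19, [], [15, 14]), (20, [], [18, 18]), (21, [],
  [19, 18, 19, 18, 18, 19, 18, 18, 19, 19])]

theorem hst : slp (ar4 6) ms st I1 = true := by decide +kernel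

def t0 : T :=
  (.nd (.nd (.nd (.nd (.nd (.nd (.nd (.nd (.nd (.nd (.nd (.nd .lf 5 0 1 .lf) 6 4 3 .lf) 7 3 4
  (.nd .lf 9 7 7 .lf)) 10 6 7 (.nd (.nd .lf 11 10 7 .lf) 13 8 5 (.nd .lf 14 7 8 .lf))) 15 6 4
  (.nd (.nd (.nd .lf 17 8 7 .lf) 18 11 1 (.nd .lf 19 11 7 .lf)) 20 6 6 (.nd (.nd .lf 24 13 7 .lf)
  28 9 8 (.nd .lf 33 11 7 .lf)))) 34 8 7 (.nd (.nd (.nd (.nd .lf 35 9 7 .lf) 36 11 8 (.nd .lf 40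
  4 8 .lf)) 44 13 7 (.nd (.nd .lf 49 11 1 .lf) 50 9 3 (.nd .lf 51 8 8 .lf))) 52 13 7 (.nd (.nd
  (.nd .lf 56 11 8 .lf) 60 10 8 (.nd .lf 65 13 7 .lf)) 66 8 7 (.nd (.nd .lf 67 7 7 .lf) 68 10 4
  (.nd .lf 72 11 8 .lf))))) 76 7 3 (.nd (.nd (.nd (.nd (.nd .lf 80 10 8 .lf) 85 6 7 (.nd .lf 86
  10 7 .lf)) 87 10 7 (.nd (.nd .lf 89 11 7 .lf) 90 12 3 (.nd .lf 91 9 7 .lf))) 93 10 1 (.nd (.nd
  (.nd .lf 94 11 3 .lf) 95 3 8 (.nd .lf 96 8 6 .lf)) 101 10 7 (.nd (.nd .lf 102 8 7 .lf) 103 9 2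
  (.nd .lf 105 3 6 .lf)))) 106 4 6 (.nd (.nd (.nd (.nd .lf 107 10 8 .lf) 109 13 7 (.nd .lf 110 10
  7 .lf)) 111 7 4 (.nd (.nd .lf 112 5 3 .lf) 117 15 8 (.nd .lf 118 12 8 .lf))) 119 9 4 (.nd (.nd
  (.nd .lf 121 9 8 .lf) 122 7 4 (.nd .lf 123 7 2 .lf)) 125 7 7 (.nd (.nd .lf 126 7 7 .lf) 127 8 7
  (.nd .lf 129 9 7 .lf)))))) 130 13 3 (.nd (.nd (.nd (.nd (.nd (.nd (.nd .lf 131 12 7 .lf) 132 3
  6 .lf) 136 10 7 (.nd .lf 140 11 8 .lf)) 144 9 7 (.nd (.nd .lf 149 6 2 .lf) 150 7 5 (.nd .lf 151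
  9 8 .lf))) 153 11 4 (.nd (.nd (.nd .lf 154 13 3 .lf) 155 14 2 (.nd .lf 157 3 5 .lf)) 158 9 1
  (.nd (.nd .lf 159 3 3 .lf) 160 6 4 (.nd .lf 165 9 8 .lf)))) 166 12 6 (.nd (.nd (.nd (.nd .lf
  167 11 6 .lf) 169 8 2 (.nd .lf 170 6 8 .lf)) 171 10 3 (.nd (.nd .lf 173 9 7 .lf) 174 9 7 (.nd
  .lf 175 14 7 .lf))) 176 12 3 (.nd (.nd (.nd .lf 181 7 7 .lf) 182 9 7 (.nd .lf 183 12 7 .lf))
  185 9 7 (.nd (.nd .lf 186 8 7 .lf) 187 6 7 (.nd .lf 189 10 8 .lf))))) 190 9 6 (.nd (.nd (.nd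
  (.nd (.nd .lf 191 8 6 .lf) 193 10 7 (.nd .lf 194 7 7 .lf)) 195 11 3 (.nd (.nd .lf 196 9 1 .lf)
  200 7 6 (.nd .lf 204 8 7 .lf))) 208 12 6 (.nd (.nd (.nd .lf 213 8 5 .lf) 214 10 8 (.nd .lf 215
  7 5 .lf)) 217 8 7 (.nd (.nd .lf 218 7 7 .lf) 219 9 7 (.nd .lf 221 4 8 .lf)))) 222 9 2 (.nd (.nd
  (.nd (.nd .lf 223 10 1 .lf) 224 7 8 (.nd .lf 229 9 7 .lf)) 230 9 7 (.nd (.nd .lf 231 9 7 .lf)
  233 7 2 (.nd .lf 234 2 4 .lf))) 235 1 5 (.nd (.nd (.nd .lf 237 12 3 .lf) 238 9 4 (.nd .lf 239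
  13 3 .lf)) 240 4 6 (.nd (.nd .lf 245 14 3 .lf) 246 9 7 (.nd .lf 247 9 7 .lf))))))) 249 7 6 (.nd
  (.nd (.nd (.nd (.nd (.nd (.nd (.nd .lf 250 5 6 .lf) 251 10 6 .lf) 253 10 7 (.nd .lf 254 10 2
  .lf)) 255 10 7 (.nd (.nd .lf 257 8 6 .lf) 258 6 6 (.nd .lf 259 11 6 .lf))) 260 8 8 (.nd (.nd
  (.nd .lf 264 10 2 .lf) 268 5 7 (.nd .lf 272 9 6 .lf)) 277 8 8 (.nd (.nd .lf 278 9 4 .lf) 279 7
  5 (.nd .lf 281 8 7 .lf)))) 282 4 7 (.nd (.nd (.nd (.nd .lf 283 9 7 .lf) 285 8 4 (.nd .lf 286 8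
  2 .lf)) 287 8 8 (.nd (.nd .lf 288 10 6 .lf) 293 5 7 (.nd .lf 294 10 7 .lf))) 295 11 7 (.nd (.nd
  (.nd .lf 297 5 5 .lf) 298 5 4 (.nd .lf 299 5 2 .lf)) 301 10 6 (.nd (.nd .lf 302 6 8 .lf) 303 13
  1 (.nd .lf 304 5 3 .lf))))) 309 10 7 (.nd (.nd (.nd (.nd (.nd .lf 310 8 8 .lf) 311 11 4 (.nd
  .lf 313 9 8 .lf)) 314 6 4 (.nd (.nd .lf 315 10 3 .lf) 317 8 7 (.nd .lf 318 9 2 .lf))) 319 12 1
  (.nd (.nd (.nd .lf 320 12 5 .lf) 325 6 8 (.nd .lf 326 3 1 .lf)) 327 4 3 (.nd (.nd .lf 329 8 2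
  .lf) 330 6 7 (.nd .lf 331 12 8 .lf)))) 333 6 6 (.nd (.nd (.nd (.nd .lf 334 8 8 .lf) 335 11 8
  (.nd .lf 337 9 7 .lf)) 338 7 7 (.nd (.nd .lf 339 11 7 .lf) 340 8 6 (.nd .lf 344 12 4 .lf))) 348
  5 4 (.nd (.nd (.nd .lf 353 11 4 .lf) 354 9 8 (.nd .lf 355 6 8 .lf)) 356 12 8 (.nd (.nd .lf 360
  8 8 .lf) 364 10 7 (.nd .lf 369 9 8 .lf)))))) 370 10 4 (.nd (.nd (.nd (.nd (.nd (.nd (.nd .lf
  371 9 8 .lf) 372 10 8 .lf) 376 5 7 (.nd .lf 380 13 8 .lf)) 384 9 7 (.nd (.nd .lf 389 6 8 .lf)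
  390 6 8 (.nd .lf 391 7 2 .lf))) 393 10 6 (.nd (.nd (.nd .lf 394 11 6 .lf) 395 5 6 (.nd .lf 397
  5 8 .lf)) 398 6 2 (.nd (.nd .lf 399 7 4 .lf) 401 11 2 (.nd .lf 402 12 8 .lf)))) 403 10 6 (.nd
  (.nd (.nd (.nd .lf 404 7 7 .lf) 408 9 6 (.nd .lf 412 11 5 .lf)) 417 10 8 (.nd (.nd .lf 418 11 3
  .lf) 419 8 4 (.nd .lf 420 10 7 .lf))) 424 4 1 (.nd (.nd (.nd .lf 428 9 8 .lf) 433 7 4 (.nd .lf
  434 7 1 .lf)) 435 6 5 (.nd (.nd .lf 436 9 8 .lf) 440 8 6 (.nd .lf 444 11 7 .lf))))) 448 5 8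
  (.nd (.nd (.nd (.nd (.nd .lf 453 7 3 .lf) 454 8 4 (.nd .lf 455 4 1 .lf)) 457 12 7 (.nd (.nd .lf
  458 10 7 .lf) 459 9 7 (.nd .lf 461 7 6 .lf))) 462 9 6 (.nd (.nd (.nd .lf 463 7 6 .lf) 465 11 1
  (.nd .lf 466 11 8 .lf)) 467 12 8 (.nd (.nd .lf 468 12 8 .lf) 472 7 8 (.nd .lf 476 7 8 .lf))))
  481 6 7 (.nd (.nd (.nd (.nd .lf 482 4 7 .lf) 483 8 7 (.nd .lf 484 9 6 .lf)) 488 8 8 (.nd (.nd
  .lf 492 7 6 .lf) 497 6 8 (.nd .lf 498 5 8 .lf))) 499 9 5 (.nd (.nd (.nd .lf 500 5 7 .lf) 504 7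
  6 (.nd .lf 508 6 6 .lf)) 513 11 7 (.nd (.nd .lf 514 12 7 .lf) 515 4 7 (.nd .lf 516 5 6
  .lf)))))))) 520 10 8 (.nd (.nd (.nd (.nd (.nd (.nd (.nd (.nd (.nd .lf 524 6 6 .lf) 528 9 8 .lf)
  533 8 7 (.nd .lf 534 8 7 .lf)) 535 7 7 (.nd (.nd .lf 537 13 8 .lf) 538 12 7 (.nd .lf 539 6 7
  .lf))) 541 12 3 (.nd (.nd (.nd .lf 542 7 8 .lf) 543 6 4 (.nd .lf 544 11 5 .lf)) 549 10 7 (.nd
  (.nd .lf 550 8 7 .lf) 551 8 2 (.nd .lf 553 5 3 .lf)))) 554 6 8 (.nd (.nd (.nd (.nd .lf 555 9 4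
  .lf) 557 11 6 (.nd .lf 558 12 3 .lf)) 559 4 6 (.nd (.nd .lf 560 6 3 .lf) 565 13 2 (.nd .lf 566
  12 6 .lf))) 567 6 6 (.nd (.nd (.nd .lf 569 9 3 .lf) 570 7 8 (.nd .lf 571 8 2 .lf)) 573 7 7 (.nd
  (.nd .lf 574 7 7 .lf) 575 5 7 (.nd .lf 576 5 6 .lf))))) 581 5 4 (.nd (.nd (.nd (.nd (.nd .lf
  582 3 3 .lf) 583 7 3 (.nd .lf 585 6 7 .lf)) 586 9 7 (.nd (.nd .lf 587 8 7 .lf) 589 7 8 (.nd .lf
  590 10 1 .lf))) 591 10 5 (.nd (.nd (.nd .lf 593 9 7 .lf) 594 8 7 (.nd .lf 595 7 7 .lf)) 596 10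
  4 (.nd (.nd .lf 600 5 6 .lf) 604 7 8 (.nd .lf 609 8 7 .lf)))) 610 9 7 (.nd (.nd (.nd (.nd .lf
  611 5 7 .lf) 612 7 8 (.nd .lf 616 12 6 .lf)) 620 5 7 (.nd (.nd .lf 625 6 6 .lf) 626 8 6 (.nd
  .lf 627 4 6 .lf))) 628 5 7 (.nd (.nd (.nd .lf 632 7 6 .lf) 636 8 8 (.nd .lf 640 12 1 .lf)) 645
  7 8 (.nd (.nd .lf 646 6 4 .lf) 647 8 8 (.nd .lf 649 8 8 .lf)))))) 650 6 8 (.nd (.nd (.nd (.nd
  (.nd (.nd (.nd .lf 651 9 1 .lf) 653 6 7 .lf) 654 6 7 (.nd .lf 655 6 7 .lf)) 657 9 8 (.nd (.nd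
  .lf 658 9 8 .lf) 659 10 4 (.nd .lf 660 9 5 .lf))) 664 10 7 (.nd (.nd (.nd .lf 668 7 6 .lf) 673
  9 4 (.nd .lf 674 9 2 .lf)) 675 9 8 (.nd (.nd .lf 676 9 7 .lf) 680 4 5 (.nd .lf 684 12 2 .lf))))
  689 6 8 (.nd (.nd (.nd (.nd .lf 690 13 6 .lf) 691 5 8 (.nd .lf 692 10 6 .lf)) 696 10 8 (.nd
  (.nd .lf 700 8 7 .lf) 704 13 7 (.nd .lf 709 7 4 .lf))) 710 5 8 (.nd (.nd (.nd .lf 711 4 3 .lf)
  713 7 2 (.nd .lf 714 8 7 .lf)) 715 10 8 (.nd (.nd .lf 717 9 6 .lf) 718 10 4 (.nd .lf 719 9 8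
  .lf))))) 721 6 7 (.nd (.nd (.nd (.nd (.nd .lf 722 9 7 .lf) 723 7 7 (.nd .lf 724 9 8 .lf)) 728
  13 6 (.nd (.nd .lf 732 4 4 .lf) 737 8 6 (.nd .lf 738 7 6 .lf))) 739 8 3 (.nd (.nd (.nd .lf 740
  11 5 .lf) 744 7 6 (.nd .lf 748 13 7 .lf)) 753 8 4 (.nd (.nd .lf 754 8 8 .lf) 755 13 2 (.nd .lf
  756 13 7 .lf)))) 760 6 7 (.nd (.nd (.nd (.nd .lf 764 10 1 .lf) 769 10 7 (.nd .lf 770 13 6 .lf))
  771 10 6 (.nd (.nd .lf 772 4 2 .lf) 776 9 6 (.nd .lf 780 12 8 .lf))) 784 8 7 (.nd (.nd (.nd .lf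
  789 7 2 .lf) 790 5 8 (.nd .lf 791 11 3 .lf)) 793 10 6 (.nd (.nd .lf 794 13 6 .lf) 795 10 6 (.nd
  .lf 797 8 2 .lf))))))) 798 7 1 (.nd (.nd (.nd (.nd (.nd (.nd (.nd (.nd .lf 799 5 3 .lf) 800 3 8
  .lf) 805 8 4 (.nd .lf 806 12 3 .lf)) 807 11 8 (.nd (.nd .lf 809 5 2 .lf) 810 8 1 (.nd .lf 811 6
  8 .lf))) 813 10 7 (.nd (.nd (.nd .lf 814 11 7 .lf) 815 10 7 (.nd .lf 816 9 6 .lf)) 821 10 7
  (.nd (.nd .lf 822 11 7 .lf) 823 10 7 (.nd .lf 825 4 7 .lf)))) 826 10 7 (.nd (.nd (.nd (.nd .lf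
  827 4 7 .lf) 829 9 4 (.nd .lf 830 9 3 .lf)) 831 10 8 (.nd (.nd .lf 832 11 7 .lf) 837 7 6 (.nd
  .lf 838 3 6 .lf))) 839 8 6 (.nd (.nd (.nd .lf 841 8 3 .lf) 842 7 4 (.nd .lf 843 9 8 .lf)) 845 8
  7 (.nd (.nd .lf 846 3 7 .lf) 847 2 7 (.nd .lf 849 13 2 .lf))))) 850 8 4 (.nd (.nd (.nd (.nd
  (.nd .lf 851 8 8 .lf) 852 6 5 (.nd .lf 856 9 7 .lf)) 860 8 4 (.nd (.nd .lf 865 7 8 .lf) 866 8 2
  (.nd .lf 867 11 1 .lf))) 868 8 7 (.nd (.nd (.nd .lf 872 7 2 .lf) 876 9 6 (.nd .lf 881 8 8 .lf))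
  882 10 5 (.nd (.nd .lf 883 5 2 .lf) 884 11 6 (.nd .lf 888 11 1 .lf)))) 892 11 6 (.nd (.nd (.nd
  (.nd .lf 896 9 6 .lf) 901 10 1 (.nd .lf 902 7 1 .lf)) 903 8 1 (.nd (.nd .lf 905 7 7 .lf) 906 9
  7 (.nd .lf 907 5 7 .lf))) 909 10 1 (.nd (.nd (.nd .lf 910 10 3 .lf) 911 11 8 (.nd .lf 913 8 6
  .lf)) 914 10 6 (.nd (.nd .lf 915 8 6 .lf) 916 4 8 (.nd .lf 920 11 7 .lf)))))) 924 9 4 (.nd (.nd
  (.nd (.nd (.nd (.nd (.nd .lf 929 1 7 .lf) 930 5 7 .lf) 931 4 7 (.nd .lf 932 9 8 .lf)) 936 4 6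
  (.nd (.nd .lf 940 11 7 .lf) 945 5 8 (.nd .lf 946 8 8 .lf))) 947 7 1 (.nd (.nd (.nd .lf 948 9 7
  .lf) 952 9 8 (.nd .lf 956 12 6 .lf)) 960 12 7 (.nd (.nd .lf 965 6 8 .lf) 966 6 8 (.nd .lf 967 4
  2 .lf)))) 969 12 8 (.nd (.nd (.nd (.nd .lf 970 9 8 .lf) 971 8 4 (.nd .lf 973 5 4 .lf)) 974 2 8
  (.nd (.nd .lf 975 8 8 .lf) 977 9 8 (.nd .lf 978 10 8 .lf))) 979 13 6 (.nd (.nd (.nd .lf 980 6 7
  .lf) 984 12 7 (.nd .lf 988 8 8 .lf)) 993 12 4 (.nd (.nd .lf 994 11 8 .lf) 995 5 8 (.nd .lf 996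
  9 6 .lf))))) 1000 7 3 (.nd (.nd (.nd (.nd (.nd .lf 1004 12 8 .lf) 1009 5 4 (.nd .lf 1010 9 1
  .lf)) 1011 9 2 (.nd (.nd .lf 1012 12 8 .lf) 1016 9 8 (.nd .lf 1020 6 7 .lf))) 1025 11 6 (.nd
  (.nd (.nd .lf 1026 12 6 .lf) 1027 11 6 (.nd .lf 1028 9 1 .lf)) 1032 6 7 (.nd (.nd .lf 1036 11 3
  .lf) 1040 7 6 (.nd .lf 1045 12 8 .lf)))) 1046 4 4 (.nd (.nd (.nd (.nd .lf 1047 12 3 .lf) 1049 9
  8 (.nd .lf 1050 12 6 .lf)) 1051 11 6 (.nd (.nd .lf 1053 5 1 .lf) 1054 6 2 (.nd .lf 1055 6 8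
  .lf))) 1056 2 7 (.nd (.nd (.nd .lf 1061 11 4 .lf) 1062 11 2 (.nd .lf 1063 6 8 .lf)) 1065 10 6
  (.nd (.nd .lf 1066 7 6 .lf) 1067 7 6 (.nd .lf 1069 11 6 .lf))))))))) 1070 12 7 (.nd (.nd (.nd
  (.nd (.nd (.nd (.nd (.nd (.nd (.nd .lf 1071 9 7 .lf) 1072 6 1 .lf) 1077 9 7 (.nd .lf 1078 12 7
  .lf)) 1079 9 7 (.nd (.nd .lf 1081 7 5 .lf) 1082 11 4 (.nd .lf 1083 5 3 .lf))) 1085 10 4 (.nd
  (.nd (.nd .lf 1086 6 2 .lf) 1087 7 8 (.nd .lf 1088 8 7 .lf)) 1093 8 3 (.nd (.nd .lf 1094 8 5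
  .lf) 1095 7 1 (.nd .lf 1097 7 2 .lf)))) 1098 12 4 (.nd (.nd (.nd (.nd .lf 1099 8 8 .lf) 1101 11
  3 (.nd .lf 1102 6 4 .lf)) 1103 3 8 (.nd (.nd .lf 1105 10 2 .lf) 1106 11 4 (.nd .lf 1107 9 8
  .lf))) 1108 5 7 (.nd (.nd (.nd .lf 1112 10 7 .lf) 1116 9 4 (.nd .lf 1121 6 3 .lf)) 1122 11 8
  (.nd (.nd .lf 1123 12 2 .lf) 1124 5 6 (.nd .lf 1128 8 4 .lf))))) 1132 12 6 (.nd (.nd (.nd (.nd
  (.nd .lf 1137 5 2 .lf) 1138 3 1 (.nd .lf 1139 8 1 .lf)) 1140 10 6 (.nd (.nd .lf 1144 8 2 .lf)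
  1148 6 7 (.nd .lf 1152 10 8 .lf))) 1157 5 3 (.nd (.nd (.nd .lf 1158 8 4 .lf) 1159 5 2 (.nd .lf
  1161 8 6 .lf)) 1162 6 6 (.nd (.nd .lf 1163 8 6 .lf) 1165 13 4 (.nd .lf 1166 11 3 .lf)))) 1167
  12 4 (.nd (.nd (.nd (.nd .lf 1169 7 7 .lf) 1170 5 7 (.nd .lf 1171 9 7 .lf)) 1172 7 4 (.nd (.nd
  .lf 1176 10 6 .lf) 1180 4 5 (.nd .lf 1185 4 8 .lf))) 1186 6 5 (.nd (.nd (.nd .lf 1187 3 4 .lf)
  1188 10 2 (.nd .lf 1192 7 4 .lf)) 1196 8 7 (.nd (.nd .lf 1201 10 6 .lf) 1202 7 6 (.nd .lf 1203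
  8 6 .lf)))))) 1204 12 6 (.nd (.nd (.nd (.nd (.nd (.nd (.nd .lf 1208 10 7 .lf) 1212 9 2 .lf)
  1216 13 7 (.nd .lf 1221 5 6 .lf)) 1222 9 6 (.nd (.nd .lf 1223 11 4 .lf) 1225 7 8 (.nd .lf 1226
  8 8 .lf))) 1227 9 2 (.nd (.nd (.nd .lf 1229 4 7 .lf) 1230 3 7 (.nd .lf 1231 11 7 .lf)) 1233 6 8
  (.nd (.nd .lf 1234 7 8 .lf) 1235 10 2 (.nd .lf 1236 5 3 .lf)))) 1240 13 7 (.nd (.nd (.nd (.nd
  .lf 1244 7 3 .lf) 1249 9 2 (.nd .lf 1250 12 3 .lf)) 1251 8 5 (.nd (.nd .lf 1252 8 7 .lf) 1256 6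
  2 (.nd .lf 1260 13 8 .lf))) 1265 8 8 (.nd (.nd (.nd .lf 1266 6 3 .lf) 1267 4 1 (.nd .lf 1268 13
  8 .lf)) 1272 12 3 (.nd (.nd .lf 1276 7 6 .lf) 1280 13 7 (.nd .lf 1285 6 3 .lf))))) 1286 7 8
  (.nd (.nd (.nd (.nd (.nd .lf 1287 8 4 .lf) 1289 8 4 (.nd .lf 1290 10 3 .lf)) 1291 10 8 (.nd
  (.nd .lf 1293 7 7 .lf) 1294 7 7 (.nd .lf 1295 8 7 .lf))) 1297 9 4 (.nd (.nd (.nd .lf 1298 11 3
  .lf) 1299 13 7 (.nd .lf 1300 5 8 .lf)) 1304 11 7 (.nd (.nd .lf 1308 7 6 .lf) 1313 10 8 (.nd .lf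
  1314 8 8 .lf)))) 1315 9 1 (.nd (.nd (.nd (.nd .lf 1316 8 7 .lf) 1320 4 5 (.nd .lf 1324 15 4
  .lf)) 1329 11 3 (.nd (.nd .lf 1330 6 8 .lf) 1331 7 4 (.nd .lf 1332 11 6 .lf))) 1336 12 5 (.nd
  (.nd (.nd .lf 1340 9 3 .lf) 1345 12 5 (.nd .lf 1346 10 7 .lf)) 1347 11 6 (.nd (.nd .lf 1348 11
  2 .lf) 1352 11 7 (.nd .lf 1356 11 4 .lf))))))) 1360 8 7 (.nd (.nd (.nd (.nd (.nd (.nd (.nd (.nd
  .lf 1365 8 8 .lf) 1366 9 2 .lf) 1367 11 3 (.nd .lf 1369 12 8 .lf)) 1370 14 3 (.nd (.nd .lf 1371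
  13 6 .lf) 1373 5 3 (.nd .lf 1374 7 4 .lf))) 1375 3 4 (.nd (.nd (.nd .lf 1376 6 6 .lf) 1381 12 5
  (.nd .lf 1382 9 4 .lf)) 1383 10 8 (.nd (.nd .lf 1385 6 6 .lf) 1386 4 6 (.nd .lf 1387 8 6
  .lf)))) 1389 12 7 (.nd (.nd (.nd (.nd .lf 1390 10 7 .lf) 1391 11 7 (.nd .lf 1392 6 8 .lf)) 1397
  12 4 (.nd (.nd .lf 1398 12 3 .lf) 1399 13 7 (.nd .lf 1401 7 7 .lf))) 1402 8 7 (.nd (.nd (.nd
  .lf 1403 4 7 .lf) 1405 11 3 (.nd .lf 1406 10 4 .lf)) 1407 11 8 (.nd (.nd .lf 1409 7 7 .lf) 1410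
  12 7 (.nd .lf 1411 11 7 .lf))))) 1412 5 6 (.nd (.nd (.nd (.nd (.nd .lf 1416 11 3 .lf) 1420 10 6
  (.nd .lf 1424 10 8 .lf)) 1429 5 7 (.nd (.nd .lf 1430 7 7 .lf) 1431 7 7 (.nd .lf 1433 7 7 .lf)))
  1434 12 7 (.nd (.nd (.nd .lf 1435 13 5 .lf) 1437 5 8 (.nd .lf 1438 12 2 .lf)) 1439 6 8 (.nd
  (.nd .lf 1440 9 8 .lf) 1445 10 3 (.nd .lf 1446 12 7 .lf)))) 1447 9 7 (.nd (.nd (.nd (.nd .lf
  1449 8 8 .lf) 1450 5 4 (.nd .lf 1451 7 8 .lf)) 1453 7 6 (.nd (.nd .lf 1454 12 2 .lf) 1455 11 4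
  (.nd .lf 1456 6 4 .lf))) 1461 7 6 (.nd (.nd (.nd .lf 1462 12 2 .lf) 1463 13 8 (.nd .lf 1465 10
  4 .lf)) 1466 10 1 (.nd (.nd .lf 1467 8 8 .lf) 1469 9 7 (.nd .lf 1470 9 7 .lf)))))) 1471 8 7
  (.nd (.nd (.nd (.nd (.nd (.nd (.nd .lf 1473 11 2 .lf) 1474 7 6 .lf) 1475 13 8 (.nd .lf 1476 6 3
  .lf)) 1480 7 7 (.nd (.nd .lf 1484 8 8 .lf) 1488 8 7 (.nd .lf 1493 10 6 .lf))) 1494 11 4 (.nd
  (.nd (.nd .lf 1495 8 8 .lf) 1497 11 6 (.nd .lf 1498 7 6 .lf)) 1499 11 7 (.nd (.nd .lf 1501 7 4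
  .lf) 1502 9 8 (.nd .lf 1503 12 5 .lf)))) 1504 7 7 (.nd (.nd (.nd (.nd .lf 1509 9 8 .lf) 1510 10
  8 (.nd .lf 1511 10 3 .lf)) 1513 8 4 (.nd (.nd .lf 1514 4 8 .lf) 1515 5 3 (.nd .lf 1517 13 7
  .lf))) 1518 5 7 (.nd (.nd (.nd .lf 1519 13 3 .lf) 1520 5 6 (.nd .lf 1525 11 7 .lf)) 1526 5 7
  (.nd (.nd .lf 1527 9 7 .lf) 1529 7 6 (.nd .lf 1530 6 8 .lf))))) 1531 9 6 (.nd (.nd (.nd (.nd
  (.nd .lf 1533 12 4 .lf) 1534 9 8 (.nd .lf 1535 9 7 .lf)) 1536 10 7 (.nd (.nd .lf 1541 9 3 .lf)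
  1542 7 5 (.nd .lf 1543 7 8 .lf))) 1545 6 6 (.nd (.nd (.nd .lf 1546 11 6 .lf) 1547 12 6 (.nd .lf
  1549 8 8 .lf)) 1550 7 4 (.nd (.nd .lf 1551 7 2 .lf) 1553 9 6 (.nd .lf 1554 10 2 .lf)))) 1555 11
  8 (.nd (.nd (.nd (.nd .lf 1556 7 7 .lf) 1560 10 6 (.nd .lf 1564 7 8 .lf)) 1569 5 8 (.nd (.nd
  .lf 1570 10 8 .lf) 1571 10 2 (.nd .lf 1572 9 2 .lf))) 1576 6 3 (.nd (.nd (.nd .lf 1580 12 7
  .lf) 1585 4 5 (.nd .lf 1586 6 4 .lf)) 1587 6 1 (.nd (.nd .lf 1588 12 6 .lf) 1592 4 6 (.nd .lf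
  1596 8 7 .lf)))))))) 1601 11 4 (.nd (.nd (.nd (.nd (.nd (.nd (.nd (.nd (.nd .lf 1602 12 8 .lf)
  1603 8 3 .lf) 1604 6 4 (.nd .lf 1608 11 7 .lf)) 1612 6 6 (.nd (.nd .lf 1616 12 3 .lf) 1621 10 8
  (.nd .lf 1622 6 8 .lf))) 1623 5 8 (.nd (.nd (.nd .lf 1625 11 4 .lf) 1626 10 8 (.nd .lf 1627 8 3
  .lf)) 1629 7 8 (.nd (.nd .lf 1630 2 2 .lf) 1631 5 3 (.nd .lf 1632 7 7 .lf)))) 1637 9 2 (.nd
  (.nd (.nd (.nd .lf 1638 7 6 .lf) 1639 11 8 (.nd .lf 1641 8 5 .lf)) 1642 11 4 (.nd (.nd .lf 1643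
  8 8 .lf) 1645 11 6 (.nd .lf 1646 10 6 .lf))) 1647 8 6 (.nd (.nd (.nd .lf 1648 7 8 .lf) 1653 11
  7 (.nd .lf 1654 8 7 .lf)) 1655 8 7 (.nd (.nd .lf 1657 9 2 .lf) 1658 7 8 (.nd .lf 1659 8 8
  .lf))))) 1661 10 6 (.nd (.nd (.nd (.nd (.nd .lf 1662 8 6 .lf) 1663 10 8 (.nd .lf 1665 8 6 .lf))
  1666 10 6 (.nd (.nd .lf 1667 12 7 .lf) 1668 12 5 (.nd .lf 1672 11 6 .lf))) 1676 5 7 (.nd (.nd
  (.nd .lf 1680 12 4 .lf) 1685 9 8 (.nd .lf 1686 8 5 .lf)) 1687 9 2 (.nd (.nd .lf 1689 6 7 .lf)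
  1690 10 7 (.nd .lf 1691 12 7 .lf)))) 1693 7 2 (.nd (.nd (.nd (.nd .lf 1694 7 8 .lf) 1695 6 4
  (.nd .lf 1696 6 6 .lf)) 1701 9 7 (.nd (.nd .lf 1702 10 7 .lf) 1703 4 7 (.nd .lf 1705 6 4 .lf)))
  1706 6 2 (.nd (.nd (.nd .lf 1707 7 5 .lf) 1709 6 4 (.nd .lf 1710 14 3 .lf)) 1711 12 8 (.nd (.nd
  .lf 1712 3 2 .lf) 1717 8 4 (.nd .lf 1718 12 3 .lf)))))) 1719 12 8 (.nd (.nd (.nd (.nd (.nd (.nd
  (.nd .lf 1721 6 8 .lf) 1722 9 2 .lf) 1723 8 4 (.nd .lf 1725 10 2 .lf)) 1726 13 3 (.nd (.nd .lf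
  1727 9 7 .lf) 1729 13 5 (.nd .lf 1730 10 7 .lf))) 1731 9 8 (.nd (.nd (.nd .lf 1732 8 8 .lf)
  1736 8 7 (.nd .lf 1740 10 8 .lf)) 1744 5 7 (.nd (.nd .lf 1749 7 6 .lf) 1750 5 6 (.nd .lf 1751 7
  6 .lf)))) 1753 13 3 (.nd (.nd (.nd (.nd .lf 1754 12 6 .lf) 1755 11 8 (.nd .lf 1757 6 3 .lf))
  1758 7 4 (.nd (.nd .lf 1759 3 2 .lf) 1760 9 2 (.nd .lf 1765 13 6 .lf))) 1766 9 8 (.nd (.nd (.nd
  .lf 1767 10 6 .lf) 1769 7 8 (.nd .lf 1770 6 2 .lf)) 1771 10 3 (.nd (.nd .lf 1773 11 7 .lf) 1774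
  8 7 (.nd .lf 1775 9 7 .lf))))) 1776 7 4 (.nd (.nd (.nd (.nd (.nd .lf 1781 11 8 .lf) 1782 10 6
  (.nd .lf 1783 11 6 .lf)) 1785 6 7 (.nd (.nd .lf 1786 8 7 .lf) 1787 4 7 (.nd .lf 1789 12 1
  .lf))) 1790 10 8 (.nd (.nd (.nd .lf 1791 13 3 .lf) 1792 11 2 (.nd .lf 1797 2 6 .lf)) 1798 4 8
  (.nd (.nd .lf 1799 5 6 .lf) 1801 9 7 (.nd .lf 1802 10 2 .lf)))) 1803 12 3 (.nd (.nd (.nd (.nd
  .lf 1805 10 8 .lf) 1806 9 6 (.nd .lf 1807 10 6 .lf)) 1809 8 7 (.nd (.nd .lf 1810 7 7 .lf) 1811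
  11 7 (.nd .lf 1812 10 4 .lf))) 1816 9 2 (.nd (.nd (.nd .lf 1820 9 2 .lf) 1825 7 3 (.nd .lf 1826
  8 8 .lf)) 1827 5 4 (.nd (.nd .lf 1828 9 8 .lf) 1832 4 8 (.nd .lf 1836 7 7 .lf))))))) 1841 11 2
  (.nd (.nd (.nd (.nd (.nd (.nd (.nd (.nd .lf 1842 9 8 .lf) 1843 10 3 .lf) 1844 11 7 (.nd .lf
  1848 5 7 .lf)) 1852 10 6 (.nd (.nd .lf 1857 7 7 .lf) 1858 10 2 (.nd .lf 1859 9 7 .lf))) 1860 10
  4 (.nd (.nd (.nd .lf 1864 11 6 .lf) 1868 7 7 (.nd .lf 1872 12 2 .lf)) 1877 10 8 (.nd (.nd .lf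
  1878 8 4 .lf) 1879 6 8 (.nd .lf 1881 7 7 .lf)))) 1882 8 7 (.nd (.nd (.nd (.nd .lf 1883 9 7 .lf)
  1885 8 2 (.nd .lf 1886 9 4 .lf)) 1887 3 8 (.nd (.nd .lf 1888 8 3 .lf) 1893 8 7 (.nd .lf 1894 8
  7 .lf))) 1895 7 7 (.nd (.nd (.nd .lf 1897 3 4 .lf) 1898 2 5 (.nd .lf 1899 10 2 .lf)) 1901 7 8
  (.nd (.nd .lf 1902 12 2 .lf) 1903 13 2 (.nd .lf 1904 5 6 .lf))))) 1909 7 7 (.nd (.nd (.nd (.nd
  (.nd .lf 1910 8 7 .lf) 1911 11 2 (.nd .lf 1913 7 6 .lf)) 1914 11 6 (.nd (.nd .lf 1915 11 4 .lf)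
  1917 11 7 (.nd .lf 1918 9 7 .lf))) 1919 10 1 (.nd (.nd (.nd .lf 1921 9 2 .lf) 1922 7 2 (.nd .lf
  1923 8 8 .lf)) 1924 1 3 (.nd (.nd .lf 1928 8 7 .lf) 1932 7 4 (.nd .lf 1936 9 7 .lf)))) 1941 10
  6 (.nd (.nd (.nd (.nd .lf 1942 9 6 .lf) 1943 7 6 (.nd .lf 1945 11 7 .lf)) 1946 5 2 (.nd (.nd
  .lf 1947 8 7 .lf) 1949 3 6 (.nd .lf 1950 9 6 .lf))) 1951 5 8 (.nd (.nd (.nd .lf 1952 10 7 .lf)
  1957 11 8 (.nd .lf 1958 10 6 .lf)) 1959 7 6 (.nd (.nd .lf 1961 10 8 .lf) 1962 4 4 (.nd .lf 1963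
  8 8 .lf)))))) 1965 11 7 (.nd (.nd (.nd (.nd (.nd (.nd (.nd .lf 1966 7 7 .lf) 1967 6 7 .lf) 1968
  10 5 (.nd .lf 1973 9 7 .lf)) 1974 5 7 (.nd (.nd .lf 1975 6 7 .lf) 1977 5 8 (.nd .lf 1978 6 5
  .lf))) 1979 10 8 (.nd (.nd (.nd .lf 1981 8 8 .lf) 1982 13 6 (.nd .lf 1983 10 6 .lf)) 1985 6 7
  (.nd (.nd .lf 1986 13 7 .lf) 1987 7 7 (.nd .lf 1988 7 2 .lf)))) 1992 11 6 (.nd (.nd (.nd (.nd
  .lf 1996 8 8 .lf) 2000 6 6 (.nd .lf 2005 6 7 .lf)) 2006 4 7 (.nd (.nd .lf 2007 9 7 .lf) 2009 6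
  7 (.nd .lf 2010 11 7 .lf))) 2011 11 2 (.nd (.nd (.nd .lf 2013 6 8 .lf) 2014 11 8 (.nd .lf 2015
  10 2 .lf)) 2016 9 6 (.nd (.nd .lf 2021 11 7 .lf) 2022 11 1 (.nd .lf 2023 9 7 .lf))))) 2025 9 6
  (.nd (.nd (.nd (.nd (.nd .lf 2026 2 6 .lf) 2027 3 6 (.nd .lf 2029 6 2 .lf)) 2030 13 2 (.nd (.nd
  .lf 2031 9 7 .lf) 2032 4 4 (.nd .lf 2037 6 2 .lf))) 2038 13 2 (.nd (.nd (.nd .lf 2039 11 8 .lf)
  2041 9 3 (.nd .lf 2042 11 8 .lf)) 2043 8 3 (.nd (.nd .lf 2045 10 7 .lf) 2046 8 7 (.nd .lf 2047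
  8 7 .lf)))) 2049 11 6 (.nd (.nd (.nd (.nd .lf 2050 7 8 .lf) 2051 12 2 (.nd .lf 2052 9 3 .lf))
  2056 9 7 (.nd (.nd .lf 2060 8 6 .lf) 2064 10 1 (.nd .lf 2069 7 8 .lf))) 2070 8 4 (.nd (.nd (.nd
  .lf 2071 8 6 .lf) 2073 9 7 (.nd .lf 2074 7 8 .lf)) 2075 12 4 (.nd (.nd .lf 2077 3 3 .lf) 2078 5
  1 (.nd .lf 2079 9 4 .lf)))))))))) 2080 3 7 (.nd (.nd (.nd (.nd (.nd (.nd (.nd (.nd (.nd (.nd
  (.nd .lf 2085 8 6 .lf) 2086 11 1 .lf) 2087 12 2 (.nd .lf 2089 12 3 .lf)) 2090 10 5 (.nd (.nd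
  .lf 2091 6 8 .lf) 2093 9 6 (.nd .lf 2094 5 6 .lf))) 2095 10 6 (.nd (.nd (.nd .lf 2096 4 8 .lf)
  2101 7 7 (.nd .lf 2102 5 7 .lf)) 2103 10 7 (.nd (.nd .lf 2105 6 8 .lf) 2106 11 4 (.nd .lf 2107
  9 2 .lf)))) 2109 7 6 (.nd (.nd (.nd (.nd .lf 2110 12 6 .lf) 2111 11 6 (.nd .lf 2112 11 7 .lf))
  2117 9 2 (.nd (.nd .lf 2118 8 2 .lf) 2119 5 8 (.nd .lf 2121 11 6 .lf))) 2122 7 6 (.nd (.nd (.nd
  .lf 2123 11 8 .lf) 2125 9 8 (.nd .lf 2126 7 8 .lf)) 2127 4 8 (.nd (.nd .lf 2129 10 1 .lf) 2130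
  8 6 (.nd .lf 2131 12 3 .lf))))) 2132 5 7 (.nd (.nd (.nd (.nd (.nd .lf 2136 11 7 .lf) 2140 10 3
  (.nd .lf 2145 10 2 .lf)) 2146 6 8 (.nd (.nd .lf 2147 9 8 .lf) 2148 11 3 (.nd .lf 2152 5 4
  .lf))) 2156 13 2 (.nd (.nd (.nd .lf 2161 6 1 .lf) 2162 5 5 (.nd .lf 2163 8 3 .lf)) 2164 13 2
  (.nd (.nd .lf 2168 8 6 .lf) 2172 12 7 (.nd .lf 2176 8 8 .lf)))) 2181 3 2 (.nd (.nd (.nd (.nd
  .lf 2182 9 3 .lf) 2183 6 1 (.nd .lf 2185 11 1 .lf)) 2186 12 3 (.nd (.nd .lf 2187 8 7 .lf) 2189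
  10 8 (.nd .lf 2190 9 6 .lf))) 2191 10 4 (.nd (.nd (.nd .lf 2193 10 7 .lf) 2194 11 7 (.nd .lf
  2195 5 7 .lf)) 2196 6 6 (.nd (.nd .lf 2200 10 8 .lf) 2204 4 2 (.nd .lf 2209 5 8 .lf)))))) 2210
  8 2 (.nd (.nd (.nd (.nd (.nd (.nd (.nd .lf 2211 9 4 .lf) 2212 11 4 .lf) 2216 9 2 (.nd .lf 2220
  8 7 .lf)) 2225 10 8 (.nd (.nd .lf 2226 6 8 .lf) 2227 9 4 (.nd .lf 2228 10 6 .lf))) 2232 5 7
  (.nd (.nd (.nd .lf 2236 12 4 .lf) 2240 6 6 (.nd .lf 2245 10 4 .lf)) 2246 9 8 (.nd (.nd .lf 2247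
  13 5 .lf) 2249 11 2 (.nd .lf 2250 11 3 .lf)))) 2251 12 4 (.nd (.nd (.nd (.nd .lf 2253 6 7 .lf)
  2254 4 7 (.nd .lf 2255 6 7 .lf)) 2257 12 6 (.nd (.nd .lf 2258 10 8 .lf) 2259 11 6 (.nd .lf 2260
  11 8 .lf))) 2264 6 7 (.nd (.nd (.nd .lf 2268 8 4 .lf) 2273 7 6 (.nd .lf 2274 9 6 .lf)) 2275 5 6
  (.nd (.nd .lf 2276 6 7 .lf) 2280 5 1 (.nd .lf 2284 6 8 .lf))))) 2289 5 4 (.nd (.nd (.nd (.nd
  (.nd .lf 2290 4 2 .lf) 2291 4 3 (.nd .lf 2292 6 8 .lf)) 2296 8 2 (.nd (.nd .lf 2300 7 7 .lf)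
  2304 9 2 (.nd .lf 2309 12 4 .lf))) 2310 10 8 (.nd (.nd (.nd .lf 2311 9 8 .lf) 2313 9 6 (.nd .lf
  2314 8 6 .lf)) 2315 10 8 (.nd (.nd .lf 2317 10 7 .lf) 2318 7 7 (.nd .lf 2319 8 7 .lf)))) 2321
  10 6 (.nd (.nd (.nd (.nd .lf 2322 11 2 .lf) 2323 13 8 (.nd .lf 2324 12 8 .lf)) 2328 9 7 (.nd
  (.nd .lf 2332 5 8 .lf) 2337 9 3 (.nd .lf 2338 8 8 .lf))) 2339 7 2 (.nd (.nd (.nd .lf 2340 9 7
  .lf) 2344 10 1 (.nd .lf 2348 9 2 .lf)) 2353 1 6 (.nd (.nd .lf 2354 3 8 .lf) 2355 4 6 (.nd .lf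
  2356 9 2 .lf))))))) 2360 5 6 (.nd (.nd (.nd (.nd (.nd (.nd (.nd (.nd .lf 2364 10 7 .lf) 2369 11
  7 .lf) 2370 10 7 (.nd .lf 2371 13 7 .lf)) 2372 6 6 (.nd (.nd .lf 2376 11 2 .lf) 2380 9 6 (.nd
  .lf 2384 10 7 .lf))) 2389 10 8 (.nd (.nd (.nd .lf 2390 8 4 .lf) 2391 6 8 (.nd .lf 2393 13 8
  .lf)) 2394 10 8 (.nd (.nd .lf 2395 13 4 .lf) 2397 2 4 (.nd .lf 2398 3 5 .lf)))) 2399 11 1 (.nd
  (.nd (.nd (.nd .lf 2400 6 3 .lf) 2405 12 6 (.nd .lf 2406 10 6 .lf)) 2407 11 1 (.nd (.nd .lf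
  2409 9 1 .lf) 2410 10 3 (.nd .lf 2411 4 8 .lf))) 2413 13 7 (.nd (.nd (.nd .lf 2414 8 7 .lf)
  2415 9 7 (.nd .lf 2416 9 4 .lf)) 2421 11 7 (.nd (.nd .lf 2422 10 7 .lf) 2423 11 7 (.nd .lf 2425
  5 7 .lf))))) 2426 9 7 (.nd (.nd (.nd (.nd (.nd .lf 2427 11 7 .lf) 2429 9 6 (.nd .lf 2430 9 6
  .lf)) 2431 8 6 (.nd (.nd .lf 2433 9 7 .lf) 2434 7 7 (.nd .lf 2435 12 7 .lf))) 2436 11 3 (.nd
  (.nd (.nd .lf 2440 10 6 .lf) 2444 7 4 (.nd .lf 2448 9 6 .lf)) 2453 10 7 (.nd (.nd .lf 2454 7 7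
  .lf) 2455 7 7 (.nd .lf 2457 11 2 .lf)))) 2458 7 7 (.nd (.nd (.nd (.nd .lf 2459 10 7 .lf) 2461 9
  2 (.nd .lf 2462 5 4 .lf)) 2463 9 8 (.nd (.nd .lf 2464 10 8 .lf) 2469 9 7 (.nd .lf 2470 12 7
  .lf))) 2471 9 7 (.nd (.nd (.nd .lf 2473 4 6 .lf) 2474 10 4 (.nd .lf 2475 4 8 .lf)) 2477 9 7
  (.nd (.nd .lf 2478 7 3 .lf) 2479 12 7 (.nd .lf 2480 2 3 .lf)))))) 2485 13 2 (.nd (.nd (.nd (.nd
  (.nd (.nd (.nd .lf 2486 7 3 .lf) 2487 14 2 .lf) 2489 5 8 (.nd .lf 2490 8 2 .lf)) 2491 8 8 (.nd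
  (.nd .lf 2493 10 7 .lf) 2494 9 7 (.nd .lf 2495 6 7 .lf))) 2497 8 3 (.nd (.nd (.nd .lf 2498 7 4
  .lf) 2499 11 8 (.nd .lf 2500 3 4 .lf)) 2504 5 7 (.nd (.nd .lf 2508 6 8 .lf) 2512 10 7 (.nd .lf
  2517 8 6 .lf)))) 2518 4 6 (.nd (.nd (.nd (.nd .lf 2519 9 6 .lf) 2521 6 3 (.nd .lf 2522 9 7
  .lf)) 2523 9 7 (.nd (.nd .lf 2525 8 6 .lf) 2526 3 6 (.nd .lf 2527 2 6 .lf))) 2528 9 7 (.nd (.nd
  (.nd .lf 2533 11 8 .lf) 2534 9 6 (.nd .lf 2535 9 6 .lf)) 2537 5 8 (.nd (.nd .lf 2538 10 2 .lf)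
  2539 11 1 (.nd .lf 2541 8 7 .lf))))) 2542 9 7 (.nd (.nd (.nd (.nd (.nd .lf 2543 9 7 .lf) 2544 8
  1 (.nd .lf 2549 6 7 .lf)) 2550 7 7 (.nd (.nd .lf 2551 9 7 .lf) 2553 7 5 (.nd .lf 2554 11 8
  .lf))) 2555 8 5 (.nd (.nd (.nd .lf 2557 12 8 .lf) 2558 10 8 (.nd .lf 2559 10 6 .lf)) 2560 11 7
  (.nd (.nd .lf 2565 6 1 .lf) 2566 7 2 (.nd .lf 2567 5 8 .lf)))) 2569 8 4 (.nd (.nd (.nd (.nd .lf
  2570 8 3 .lf) 2571 11 8 (.nd .lf 2573 6 5 .lf)) 2574 10 4 (.nd (.nd .lf 2575 6 3 .lf) 2577 9 4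
  (.nd .lf 2578 11 3 .lf))) 2579 10 8 (.nd (.nd (.nd .lf 2580 3 7 .lf) 2584 11 7 (.nd .lf 2588 10
  8 .lf)) 2593 11 2 (.nd (.nd .lf 2594 5 4 .lf) 2595 13 3 (.nd .lf 2596 9 6 .lf)))))))) 2600 5 1
  (.nd (.nd (.nd (.nd (.nd (.nd (.nd (.nd (.nd .lf 2604 11 6 .lf) 2609 9 1 .lf) 2610 6 2 (.nd .lf
  2611 6 3 .lf)) 2612 13 6 (.nd (.nd .lf 2616 10 3 .lf) 2620 8 7 (.nd .lf 2625 13 6 .lf))) 2626
  11 8 (.nd (.nd (.nd .lf 2627 9 6 .lf) 2628 8 1 (.nd .lf 2632 10 7 .lf)) 2636 9 1 (.nd (.nd .lf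
  2640 9 6 .lf) 2645 5 3 (.nd .lf 2646 12 8 .lf)))) 2647 11 8 (.nd (.nd (.nd (.nd .lf 2649 13 6
  .lf) 2650 11 8 (.nd .lf 2651 11 6 .lf)) 2653 7 8 (.nd (.nd .lf 2654 9 5 .lf) 2655 6 1 (.nd .lf
  2656 4 7 .lf))) 2661 12 3 (.nd (.nd (.nd .lf 2662 7 4 .lf) 2663 9 8 (.nd .lf 2665 6 6 .lf))
  2666 4 6 (.nd (.nd .lf 2667 9 8 .lf) 2669 11 7 (.nd .lf 2670 11 2 .lf))))) 2671 11 7 (.nd (.nd
  (.nd (.nd (.nd .lf 2672 7 8 .lf) 2677 13 7 (.nd .lf 2678 11 7 .lf)) 2679 7 7 (.nd (.nd .lf 2681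
  12 3 .lf) 2682 5 4 (.nd .lf 2683 4 8 .lf))) 2685 7 3 (.nd (.nd (.nd .lf 2686 8 4 .lf) 2687 8 8
  (.nd .lf 2689 9 7 .lf)) 2690 12 7 (.nd (.nd .lf 2691 12 7 .lf) 2692 5 6 (.nd .lf 2696 11 2
  .lf)))) 2700 11 7 (.nd (.nd (.nd (.nd .lf 2704 10 7 .lf) 2709 5 8 (.nd .lf 2710 7 5 .lf)) 2711
  4 4 (.nd (.nd .lf 2713 11 7 .lf) 2714 10 7 (.nd .lf 2715 14 7 .lf))) 2717 6 3 (.nd (.nd (.nd
  .lf 2718 9 4 .lf) 2719 6 2 (.nd .lf 2720 6 4 .lf)) 2725 7 7 (.nd (.nd .lf 2726 9 7 .lf) 2727 7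
  7 (.nd .lf 2729 9 2 .lf)))))) 2730 6 2 (.nd (.nd (.nd (.nd (.nd (.nd (.nd .lf 2731 7 2 .lf)
  2733 11 6 .lf) 2734 10 6 (.nd .lf 2735 14 8 .lf)) 2736 8 4 (.nd (.nd .lf 2741 11 6 .lf) 2742 12
  6 (.nd .lf 2743 12 8 .lf))) 2745 12 4 (.nd (.nd (.nd .lf 2746 12 3 .lf) 2747 11 4 (.nd .lf 2749
  8 6 .lf)) 2750 10 6 (.nd (.nd .lf 2751 6 6 .lf) 2753 11 6 (.nd .lf 2754 11 6 .lf)))) 2755 12 8
  (.nd (.nd (.nd (.nd .lf 2756 6 3 .lf) 2760 7 6 (.nd .lf 2764 13 3 .lf)) 2768 8 7 (.nd (.nd .lf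
  2773 10 1 .lf) 2774 11 3 (.nd .lf 2775 7 5 .lf))) 2777 11 6 (.nd (.nd (.nd .lf 2778 7 6 .lf)
  2779 12 6 (.nd .lf 2781 4 4 .lf)) 2782 8 2 (.nd (.nd .lf 2783 10 1 .lf) 2784 4 3 (.nd .lf 2789
  10 8 .lf))))) 2790 9 8 (.nd (.nd (.nd (.nd (.nd .lf 2791 12 2 .lf) 2793 7 8 (.nd .lf 2794 7 3
  .lf)) 2795 5 1 (.nd (.nd .lf 2797 11 7 .lf) 2798 7 7 (.nd .lf 2799 10 7 .lf))) 2800 7 8 (.nd
  (.nd (.nd .lf 2805 11 7 .lf) 2806 9 7 (.nd .lf 2807 10 2 .lf)) 2809 3 7 (.nd (.nd .lf 2810 4 7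
  .lf) 2811 12 7 (.nd .lf 2813 11 8 .lf)))) 2814 10 8 (.nd (.nd (.nd (.nd .lf 2815 9 4 .lf) 2816
  12 7 (.nd .lf 2821 3 2 .lf)) 2822 6 8 (.nd (.nd .lf 2823 7 4 .lf) 2825 11 8 (.nd .lf 2826 9 7
  .lf))) 2827 7 7 (.nd (.nd (.nd .lf 2829 10 8 .lf) 2830 8 8 (.nd .lf 2831 9 2 .lf)) 2833 8 7
  (.nd (.nd .lf 2834 8 7 .lf) 2835 6 7 (.nd .lf 2836 10 2 .lf))))))) 2840 14 6 (.nd (.nd (.nd
  (.nd (.nd (.nd (.nd (.nd .lf 2844 4 3 .lf) 2849 7 4 .lf) 2850 9 6 (.nd .lf 2851 8 6 .lf)) 2852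
  9 8 (.nd (.nd .lf 2856 7 6 .lf) 2860 10 7 (.nd .lf 2865 12 5 .lf))) 2866 7 8 (.nd (.nd (.nd .lf
  2867 8 4 .lf) 2868 14 7 (.nd .lf 2872 5 7 .lf)) 2876 10 8 (.nd (.nd .lf 2881 13 7 .lf) 2882 13
  3 (.nd .lf 2883 12 7 .lf)))) 2884 8 2 (.nd (.nd (.nd (.nd .lf 2888 8 8 .lf) 2892 6 7 (.nd .lf
  2896 7 7 .lf)) 2901 9 3 (.nd (.nd .lf 2902 8 5 .lf) 2903 6 8 (.nd .lf 2905 13 7 .lf))) 2906 11
  7 (.nd (.nd (.nd .lf 2907 10 7 .lf) 2909 6 6 (.nd .lf 2910 8 6 .lf)) 2911 6 6 (.nd (.nd .lf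
  2912 9 4 .lf) 2917 7 7 (.nd .lf 2918 10 7 .lf))))) 2919 7 7 (.nd (.nd (.nd (.nd (.nd .lf 2921 5
  5 .lf) 2922 3 5 (.nd .lf 2923 5 5 .lf)) 2925 13 2 (.nd (.nd .lf 2926 13 3 .lf) 2927 14 6 (.nd
  .lf 2928 7 8 .lf))) 2933 13 2 (.nd (.nd (.nd .lf 2934 11 6 .lf) 2935 12 6 (.nd .lf 2937 8 8
  .lf)) 2938 11 8 (.nd (.nd .lf 2939 11 8 .lf) 2941 10 3 (.nd .lf 2942 9 7 .lf)))) 2943 8 2 (.nd
  (.nd (.nd (.nd .lf 2945 8 6 .lf) 2946 13 6 (.nd .lf 2947 14 8 .lf)) 2948 2 2 (.nd (.nd .lf 2952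
  8 7 .lf) 2956 9 5 (.nd .lf 2960 7 7 .lf))) 2965 10 4 (.nd (.nd (.nd .lf 2966 10 2 .lf) 2967 10
  8 (.nd .lf 2969 8 6 .lf)) 2970 13 6 (.nd (.nd .lf 2971 12 6 .lf) 2973 8 8 (.nd .lf 2974 9 8
  .lf)))))) 2975 5 8 (.nd (.nd (.nd (.nd (.nd (.nd (.nd .lf 2976 10 7 .lf) 2981 9 8 .lf) 2982 7 8
  (.nd .lf 2983 8 2 .lf)) 2985 5 8 (.nd (.nd .lf 2986 6 2 .lf) 2987 8 8 (.nd .lf 2989 6 7 .lf)))
  2990 11 8 (.nd (.nd (.nd .lf 2991 12 7 .lf) 2992 9 6 (.nd .lf 2997 6 7 .lf)) 2998 11 7 (.nd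
  (.nd .lf 2999 12 7 .lf) 3001 7 8 (.nd .lf 3002 7 6 .lf)))) 3003 7 6 (.nd (.nd (.nd (.nd .lf
  3005 8 8 .lf) 3006 8 7 (.nd .lf 3007 11 4 .lf)) 3009 10 7 (.nd (.nd .lf 3010 6 7 .lf) 3011 10 7
  (.nd .lf 3012 7 6 .lf))) 3016 12 5 (.nd (.nd (.nd .lf 3020 7 6 .lf) 3024 9 2 (.nd .lf 3029 7 7
  .lf)) 3030 6 7 (.nd (.nd .lf 3031 9 7 .lf) 3033 12 2 (.nd .lf 3034 6 7 .lf))))) 3035 14 8 (.nd
  (.nd (.nd (.nd (.nd .lf 3037 8 4 .lf) 3038 6 8 (.nd .lf 3039 11 4 .lf)) 3040 10 3 (.nd (.nd .lf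
  3045 6 7 .lf) 3046 9 2 (.nd .lf 3047 9 7 .lf))) 3049 7 4 (.nd (.nd (.nd .lf 3050 7 8 .lf) 3051
  4 2 (.nd .lf 3053 12 6 .lf)) 3054 6 6 (.nd (.nd .lf 3055 10 6 .lf) 3056 4 4 (.nd .lf 3061 12 1
  .lf)))) 3062 6 6 (.nd (.nd (.nd (.nd .lf 3063 14 3 .lf) 3065 8 2 (.nd .lf 3066 11 4 .lf)) 3067
  8 4 (.nd (.nd .lf 3069 7 7 .lf) 3070 8 7 (.nd .lf 3071 6 7 .lf))) 3073 12 8 (.nd (.nd (.nd .lf
  3074 13 6 .lf) 3075 7 6 (.nd .lf 3076 6 4 .lf)) 3080 9 7 (.nd (.nd .lf 3084 11 1 .lf) 3088 8 7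
  (.nd .lf 3093 9 8 .lf))))))))) 3094 9 8 (.nd (.nd (.nd (.nd (.nd (.nd (.nd (.nd (.nd (.nd .lf
  3095 10 1 .lf) 3097 10 8 .lf) 3098 13 7 (.nd .lf 3099 5 6 .lf)) 3101 11 5 (.nd (.nd .lf 3102 6
  8 .lf) 3103 9 4 (.nd .lf 3104 6 7 .lf))) 3109 9 4 (.nd (.nd (.nd .lf 3110 9 3 .lf) 3111 11 8
  (.nd .lf 3113 4 2 .lf)) 3114 7 8 (.nd (.nd .lf 3115 6 4 .lf) 3117 12 2 (.nd .lf 3118 11 7
  .lf)))) 3119 5 7 (.nd (.nd (.nd (.nd .lf 3120 5 6 .lf) 3125 10 7 (.nd .lf 3126 11 7 .lf)) 3127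
  3 7 (.nd (.nd .lf 3129 8 6 .lf) 3130 8 6 (.nd .lf 3131 7 5 .lf))) 3133 8 7 (.nd (.nd (.nd .lf
  3134 12 3 .lf) 3135 12 5 (.nd .lf 3136 4 7 .lf)) 3141 6 6 (.nd (.nd .lf 3142 4 6 .lf) 3143 6 6
  (.nd .lf 3145 13 5 .lf))))) 3146 10 4 (.nd (.nd (.nd (.nd (.nd .lf 3147 11 8 .lf) 3149 8 6 (.nd
  .lf 3150 9 6 .lf)) 3151 5 6 (.nd (.nd .lf 3153 10 3 .lf) 3154 9 8 (.nd .lf 3155 10 8 .lf)))
  3156 5 7 (.nd (.nd (.nd .lf 3160 4 7 .lf) 3164 6 8 (.nd .lf 3169 9 4 .lf)) 3170 10 8 (.nd (.nd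
  .lf 3171 12 5 .lf) 3172 12 4 (.nd .lf 3176 9 2 .lf)))) 3180 6 6 (.nd (.nd (.nd (.nd .lf 3185 5
  3 .lf) 3186 7 3 (.nd .lf 3187 5 4 .lf)) 3188 6 6 (.nd (.nd .lf 3192 10 4 .lf) 3196 9 7 (.nd .lf
  3200 11 8 .lf))) 3205 6 8 (.nd (.nd (.nd .lf 3206 5 2 .lf) 3207 7 8 (.nd .lf 3209 9 7 .lf))
  3210 13 7 (.nd (.nd .lf 3211 10 2 .lf) 3213 11 3 (.nd .lf 3214 11 1 .lf)))))) 3215 9 8 (.nd
  (.nd (.nd (.nd (.nd (.nd (.nd .lf 3217 10 7 .lf) 3218 10 7 .lf) 3219 7 7 (.nd .lf 3220 10 8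
  .lf)) 3224 13 1 (.nd (.nd .lf 3228 8 3 .lf) 3233 6 6 (.nd .lf 3234 6 4 .lf))) 3235 8 6 (.nd
  (.nd (.nd .lf 3236 10 3 .lf) 3240 3 6 (.nd .lf 3244 9 7 .lf)) 3249 7 8 (.nd (.nd .lf 3250 10 8
  .lf) 3251 6 8 (.nd .lf 3252 11 2 .lf)))) 3256 9 7 (.nd (.nd (.nd (.nd .lf 3260 11 3 .lf) 3264
  12 7 (.nd .lf 3269 8 4 .lf)) 3270 6 8 (.nd (.nd .lf 3271 5 2 .lf) 3273 10 8 (.nd .lf 3274 9 8
  .lf))) 3275 9 3 (.nd (.nd (.nd .lf 3277 6 7 .lf) 3278 7 7 (.nd .lf 3279 8 7 .lf)) 3281 11 4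
  (.nd (.nd .lf 3282 10 8 .lf) 3283 10 3 (.nd .lf 3284 8 4 .lf))))) 3288 12 7 (.nd (.nd (.nd (.nd
  (.nd .lf 3292 5 6 .lf) 3297 9 1 (.nd .lf 3298 10 3 .lf)) 3299 9 8 (.nd (.nd .lf 3300 6 7 .lf)
  3304 6 5 (.nd .lf 3308 12 8 .lf))) 3313 7 4 (.nd (.nd (.nd .lf 3314 7 8 .lf) 3315 10 4 (.nd .lf
  3316 12 7 .lf)) 3320 9 8 (.nd (.nd .lf 3324 9 2 .lf) 3328 10 7 (.nd .lf 3333 9 6 .lf)))) 3334 8
  6 (.nd (.nd (.nd (.nd .lf 3335 6 6 .lf) 3337 11 4 (.nd .lf 3338 7 2 .lf)) 3339 6 8 (.nd (.nd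
  .lf 3341 3 7 .lf) 3342 9 7 (.nd .lf 3343 5 7 .lf))) 3345 10 4 (.nd (.nd (.nd .lf 3346 12 2 .lf)
  3347 7 8 (.nd .lf 3348 4 8 .lf)) 3352 12 7 (.nd (.nd .lf 3356 5 2 .lf) 3361 8 1 (.nd .lf 3362 6
  8 .lf))))))) 3363 10 3 (.nd (.nd (.nd (.nd (.nd (.nd (.nd (.nd .lf 3364 6 7 .lf) 3368 8 2 .lf)
  3372 12 6 (.nd .lf 3377 4 2 .lf)) 3378 7 1 (.nd (.nd .lf 3379 7 8 .lf) 3380 12 6 (.nd .lf 3384
  11 8 .lf))) 3388 7 6 (.nd (.nd (.nd .lf 3393 12 6 .lf) 3394 12 8 (.nd .lf 3395 12 7 .lf)) 3396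
  7 4 (.nd (.nd .lf 3400 7 6 .lf) 3404 10 2 (.nd .lf 3408 4 7 .lf)))) 3413 6 8 (.nd (.nd (.nd
  (.nd .lf 3414 9 1 .lf) 3415 10 2 (.nd .lf 3417 14 6 .lf)) 3418 12 6 (.nd (.nd .lf 3419 8 6 .lf)
  3421 6 1 (.nd .lf 3422 2 2 .lf))) 3423 7 2 (.nd (.nd (.nd .lf 3424 5 5 .lf) 3429 11 2 (.nd .lf
  3430 12 4 .lf)) 3431 8 8 (.nd (.nd .lf 3433 9 3 .lf) 3434 9 5 (.nd .lf 3435 6 2 .lf))))) 3437
  12 7 (.nd (.nd (.nd (.nd (.nd .lf 3438 12 7 .lf) 3439 8 7 (.nd .lf 3440 8 6 .lf)) 3445 12 7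
  (.nd (.nd .lf 3446 12 8 .lf) 3447 10 7 (.nd .lf 3449 9 7 .lf))) 3450 2 7 (.nd (.nd (.nd .lf
  3451 3 7 .lf) 3453 8 2 (.nd .lf 3454 11 4 .lf)) 3455 9 8 (.nd (.nd .lf 3457 10 7 .lf) 3458 9 7
  (.nd .lf 3459 13 7 .lf)))) 3460 8 4 (.nd (.nd (.nd (.nd .lf 3464 8 2 .lf) 3468 10 8 (.nd .lf
  3472 9 2 .lf)) 3477 2 7 (.nd (.nd .lf 3478 6 7 .lf) 3479 5 7 (.nd .lf 3481 10 7 .lf))) 3482 11
  7 (.nd (.nd (.nd .lf 3483 13 7 .lf) 3485 9 8 (.nd .lf 3486 8 6 .lf)) 3487 9 6 (.nd (.nd .lf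
  3488 3 8 .lf) 3493 8 6 (.nd .lf 3494 6 6 .lf)))))) 3495 10 6 (.nd (.nd (.nd (.nd (.nd (.nd (.nd
  .lf 3497 6 8 .lf) 3498 9 3 .lf) 3499 6 1 (.nd .lf 3501 10 6 .lf)) 3502 13 6 (.nd (.nd .lf 3503
  13 8 .lf) 3504 3 5 (.nd .lf 3509 12 6 .lf))) 3510 11 6 (.nd (.nd (.nd .lf 3511 13 8 .lf) 3513 9
  2 (.nd .lf 3514 9 3 .lf)) 3515 10 8 (.nd (.nd .lf 3517 7 7 .lf) 3518 5 7 (.nd .lf 3519 7 7
  .lf)))) 3521 12 6 (.nd (.nd (.nd (.nd .lf 3522 8 6 .lf) 3523 11 6 (.nd .lf 3524 7 1 .lf)) 3528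
  6 7 (.nd (.nd .lf 3532 10 8 .lf) 3536 9 6 (.nd .lf 3541 11 2 .lf))) 3542 10 8 (.nd (.nd (.nd
  .lf 3543 4 8 .lf) 3545 12 6 (.nd .lf 3546 10 6 .lf)) 3547 11 2 (.nd (.nd .lf 3549 7 8 .lf) 3550
  7 8 (.nd .lf 3551 3 2 .lf))))) 3552 5 7 (.nd (.nd (.nd (.nd (.nd .lf 3557 5 8 .lf) 3558 8 8
  (.nd .lf 3559 9 2 .lf)) 3561 6 6 (.nd (.nd .lf 3562 8 8 .lf) 3563 10 6 (.nd .lf 3565 10 7
  .lf))) 3566 10 7 (.nd (.nd (.nd .lf 3567 11 1 .lf) 3568 8 3 (.nd .lf 3573 10 7 .lf)) 3574 6 7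
  (.nd (.nd .lf 3575 11 7 .lf) 3577 4 4 (.nd .lf 3578 3 8 .lf)))) 3579 9 8 (.nd (.nd (.nd (.nd
  .lf 3581 8 8 .lf) 3582 7 8 (.nd .lf 3583 8 2 .lf)) 3584 7 7 (.nd (.nd .lf 3589 10 2 .lf) 3590 8
  3 (.nd .lf 3591 9 8 .lf))) 3593 9 6 (.nd (.nd (.nd .lf 3594 12 1 .lf) 3595 12 8 (.nd .lf 3597 8
  3 .lf)) 3598 9 8 (.nd (.nd .lf 3599 6 4 .lf) 3601 8 6 (.nd .lf 3602 7 6 .lf)))))))) 3603 9 8
  (.nd (.nd (.nd (.nd (.nd (.nd (.nd (.nd (.nd .lf 3604 4 7 .lf) 3608 7 7 .lf) 3612 3 8 (.nd .lf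
  3617 9 8 .lf)) 3618 8 6 (.nd (.nd .lf 3619 9 6 .lf) 3620 11 8 (.nd .lf 3624 10 6 .lf))) 3628 9
  2 (.nd (.nd (.nd .lf 3633 1 1 .lf) 3634 5 3 (.nd .lf 3635 4 4 .lf)) 3636 9 2 (.nd (.nd .lf 3640
  11 4 .lf) 3644 10 7 (.nd .lf 3649 7 8 .lf)))) 3650 10 8 (.nd (.nd (.nd (.nd .lf 3651 7 2 .lf)
  3652 4 3 (.nd .lf 3656 9 7 .lf)) 3660 7 3 (.nd (.nd .lf 3664 12 1 .lf) 3669 6 6 (.nd .lf 3670
  10 6 .lf))) 3671 12 4 (.nd (.nd (.nd .lf 3673 9 7 .lf) 3674 8 7 (.nd .lf 3675 7 2 .lf)) 3677 4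
  6 (.nd (.nd .lf 3678 3 6 .lf) 3679 11 6 (.nd .lf 3680 8 7 .lf))))) 3685 8 6 (.nd (.nd (.nd (.nd
  (.nd .lf 3686 8 6 .lf) 3687 9 6 (.nd .lf 3689 9 2 .lf)) 3690 10 4 (.nd (.nd .lf 3691 2 8 .lf)
  3693 7 7 (.nd .lf 3694 8 7 .lf))) 3695 7 7 (.nd (.nd (.nd .lf 3696 9 8 .lf) 3701 5 7 (.nd .lf
  3702 8 7 .lf)) 3703 7 7 (.nd (.nd .lf 3705 11 8 .lf) 3706 9 8 (.nd .lf 3707 5 8 .lf)))) 3709 11
  6 (.nd (.nd (.nd (.nd .lf 3710 9 6 .lf) 3711 10 2 (.nd .lf 3713 13 4 .lf)) 3714 9 7 (.nd (.nd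
  .lf 3715 8 7 .lf) 3716 11 5 (.nd .lf 3720 10 6 .lf))) 3724 9 7 (.nd (.nd (.nd .lf 3728 11 6
  .lf) 3733 4 8 (.nd .lf 3734 7 5 .lf)) 3735 9 8 (.nd (.nd .lf 3737 9 7 .lf) 3738 7 7 (.nd .lf
  3739 6 7 .lf)))))) 3741 9 1 (.nd (.nd (.nd (.nd (.nd (.nd (.nd .lf 3742 5 8 .lf) 3743 9 3 .lf)
  3744 8 2 (.nd .lf 3749 11 7 .lf)) 3750 8 7 (.nd (.nd .lf 3751 7 7 .lf) 3753 2 5 (.nd .lf 3754 8
  2 .lf))) 3755 4 3 (.nd (.nd (.nd .lf 3757 13 4 .lf) 3758 11 2 (.nd .lf 3759 6 8 .lf)) 3760 2 6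
  (.nd (.nd .lf 3765 11 7 .lf) 3766 13 2 (.nd .lf 3767 8 7 .lf)))) 3769 11 6 (.nd (.nd (.nd (.nd
  .lf 3770 8 6 .lf) 3771 8 6 (.nd .lf 3773 10 8 .lf)) 3774 11 7 (.nd (.nd .lf 3775 10 7 .lf) 3777
  12 2 (.nd .lf 3778 13 7 .lf))) 3779 9 7 (.nd (.nd (.nd .lf 3780 5 6 .lf) 3784 11 7 (.nd .lf
  3788 10 6 .lf)) 3792 6 7 (.nd (.nd .lf 3797 8 4 .lf) 3798 12 8 (.nd .lf 3799 9 2 .lf))))) 3801
  12 2 (.nd (.nd (.nd (.nd (.nd .lf 3802 15 2 .lf) 3803 9 8 (.nd .lf 3805 8 1 .lf)) 3806 1 4 (.nd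
  (.nd .lf 3807 2 5 .lf) 3808 7 8 (.nd .lf 3813 11 6 .lf))) 3814 11 2 (.nd (.nd (.nd .lf 3815 11
  4 .lf) 3817 5 8 (.nd .lf 3818 10 1 .lf)) 3819 9 2 (.nd (.nd .lf 3821 8 7 .lf) 3822 11 7 (.nd
  .lf 3823 7 7 .lf)))) 3824 8 2 (.nd (.nd (.nd (.nd .lf 3829 8 7 .lf) 3830 11 7 (.nd .lf 3831 9 7
  .lf)) 3833 7 7 (.nd (.nd .lf 3834 3 7 .lf) 3835 8 7 (.nd .lf 3837 10 6 .lf))) 3838 10 6 (.nd
  (.nd (.nd .lf 3839 10 6 .lf) 3840 11 7 (.nd .lf 3845 4 3 .lf)) 3846 4 2 (.nd (.nd .lf 3847 8 4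
  .lf) 3849 7 7 (.nd .lf 3850 10 1 .lf))))))) 3851 11 2 (.nd (.nd (.nd (.nd (.nd (.nd (.nd (.nd
  .lf 3853 7 8 .lf) 3854 10 4 .lf) 3855 8 6 (.nd .lf 3857 6 7 .lf)) 3858 11 7 (.nd (.nd .lf 3859
  10 7 .lf) 3860 6 6 (.nd .lf 3864 13 6 .lf))) 3868 8 3 (.nd (.nd (.nd .lf 3873 10 2 .lf) 3874 5
  4 (.nd .lf 3875 9 3 .lf)) 3876 10 6 (.nd (.nd .lf 3880 5 8 .lf) 3884 9 7 (.nd .lf 3889 11 3
  .lf)))) 3890 11 5 (.nd (.nd (.nd (.nd .lf 3891 7 8 .lf) 3892 11 6 (.nd .lf 3896 9 7 .lf)) 3900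
  11 1 (.nd (.nd .lf 3905 12 5 .lf) 3906 9 6 (.nd .lf 3907 9 6 .lf))) 3908 11 3 (.nd (.nd (.nd
  .lf 3912 12 8 .lf) 3916 7 7 (.nd .lf 3920 11 8 .lf)) 3925 5 2 (.nd (.nd .lf 3926 9 8 .lf) 3927
  10 8 (.nd .lf 3929 10 7 .lf))))) 3930 9 7 (.nd (.nd (.nd (.nd (.nd .lf 3931 7 7 .lf) 3933 10 2
  (.nd .lf 3934 7 4 .lf)) 3935 6 8 (.nd (.nd .lf 3936 6 6 .lf) 3941 10 7 (.nd .lf 3942 6 7 .lf)))
  3943 10 7 (.nd (.nd (.nd .lf 3945 5 2 .lf) 3946 6 5 (.nd .lf 3947 7 3 .lf)) 3949 12 8 (.nd (.nd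
  .lf 3950 11 8 .lf) 3951 7 3 (.nd .lf 3952 4 4 .lf)))) 3957 10 4 (.nd (.nd (.nd (.nd .lf 3958 11
  8 .lf) 3959 9 3 (.nd .lf 3961 12 4 .lf)) 3962 8 8 (.nd (.nd .lf 3963 7 8 .lf) 3965 9 1 (.nd .lf
  3966 7 7 .lf))) 3967 11 3 (.nd (.nd (.nd .lf 3969 7 4 .lf) 3970 13 3 (.nd .lf 3971 11 8 .lf))
  3972 5 1 (.nd (.nd .lf 3976 10 7 .lf) 3980 8 6 (.nd .lf 3984 11 7 .lf)))))) 3989 6 8 (.nd (.nd
  (.nd (.nd (.nd (.nd (.nd .lf 3990 7 6 .lf) 3991 6 4 .lf) 3993 7 4 (.nd .lf 3994 13 3 .lf)) 3995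
  11 5 (.nd (.nd .lf 3997 4 1 .lf) 3998 10 3 (.nd .lf 3999 5 2 .lf))) 4000 7 7 (.nd (.nd (.nd .lf
  4005 12 1 .lf) 4006 11 8 (.nd .lf 4007 9 6 .lf)) 4009 9 8 (.nd (.nd .lf 4010 5 8 .lf) 4011 10 4
  (.nd .lf 4013 7 6 .lf)))) 4014 11 6 (.nd (.nd (.nd (.nd .lf 4015 11 4 .lf) 4016 8 5 (.nd .lf
  4021 7 7 .lf)) 4022 9 7 (.nd (.nd .lf 4023 11 7 .lf) 4025 9 8 (.nd .lf 4026 10 3 .lf))) 4027 9
  4 (.nd (.nd (.nd .lf 4029 11 6 .lf) 4030 12 8 (.nd .lf 4031 6 6 .lf)) 4033 10 7 (.nd (.nd .lf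
  4034 9 7 .lf) 4035 10 7 (.nd .lf 4036 9 4 .lf))))) 4040 7 6 (.nd (.nd (.nd (.nd (.nd .lf 4044
  13 2 .lf) 4048 8 6 (.nd .lf 4053 6 7 .lf)) 4054 8 7 (.nd (.nd .lf 4055 6 7 .lf) 4057 10 7 (.nd
  .lf 4058 9 6 .lf))) 4059 10 6 (.nd (.nd (.nd .lf 4061 9 4 .lf) 4062 8 8 (.nd .lf 4063 12 5
  .lf)) 4064 6 2 (.nd (.nd .lf 4069 10 2 .lf) 4070 10 3 (.nd .lf 4071 11 7 .lf)))) 4073 6 4 (.nd
  (.nd (.nd (.nd .lf 4074 5 1 .lf) 4075 5 3 (.nd .lf 4077 14 3 .lf)) 4078 11 7 (.nd (.nd .lf 4079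
  10 8 .lf) 4080 4 2 (.nd .lf 4085 14 3 .lf))) 4086 11 6 (.nd (.nd (.nd .lf 4087 10 8 .lf) 4089 7
  6 (.nd .lf 4090 5 6 .lf)) 4091 9 6 (.nd (.nd .lf 4093 11 7 .lf) 4094 9 7 (.nd .lf 4095 10 7
  .lf)))))))))))

theorem tl0 : level (ar4 6) ms [1, 2, 3, 4, 5, 6, 7, 8] [] 5 t0 2079 = true := by decide +kernel

def t1 : T :=
  (.nd (.nd (.nd (.nd (.nd (.nd (.nd (.nd (.nd (.nd .lf 80 3 11 .lf) 85 7 2 .lf) 90 8 2 (.nd .lf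
  95 1 10 .lf)) 96 4 10 (.nd (.nd .lf 101 6 11 .lf) 106 6 11 (.nd .lf 111 4 10 .lf))) 112 8 2
  (.nd (.nd (.nd .lf 117 8 2 .lf) 122 7 2 (.nd .lf 127 8 2 .lf)) 144 7 2 (.nd (.nd .lf 149 8 2
  .lf) 154 7 11 (.nd .lf 159 7 11 .lf)))) 160 7 2 (.nd (.nd (.nd (.nd (.nd .lf 165 8 11 .lf) 170
  8 11 .lf) 175 7 2 (.nd .lf 176 9 11 .lf)) 181 5 11 (.nd (.nd .lf 186 7 10 .lf) 191 9 11 (.nd
  .lf 208 7 9 .lf))) 213 9 10 (.nd (.nd (.nd .lf 218 9 9 .lf) 223 9 9 (.nd .lf 224 8 2 .lf)) 229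
  5 9 (.nd (.nd .lf 234 1 9 .lf) 239 7 2 (.nd .lf 240 9 11 .lf))))) 245 7 2 (.nd (.nd (.nd (.nd
  (.nd (.nd .lf 250 8 11 .lf) 255 9 11 .lf) 272 5 11 (.nd .lf 277 9 10 .lf)) 282 7 11 (.nd (.nd
  .lf 287 7 10 .lf) 288 6 11 (.nd .lf 293 6 2 .lf))) 298 2 9 (.nd (.nd (.nd .lf 303 7 11 .lf) 304
  9 9 (.nd .lf 309 7 9 .lf)) 314 7 10 (.nd (.nd .lf 319 9 10 .lf) 320 8 2 (.nd .lf 325 5 10
  .lf)))) 330 7 2 (.nd (.nd (.nd (.nd (.nd .lf 335 5 11 .lf) 384 8 11 .lf) 389 8 11 (.nd .lf 394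
  6 9 .lf)) 399 4 9 (.nd (.nd .lf 448 7 9 .lf) 453 8 10 (.nd .lf 458 8 10 .lf))) 463 7 9 (.nd
  (.nd (.nd .lf 528 5 9 .lf) 533 7 9 (.nd .lf 538 8 9 .lf)) 543 3 9 (.nd (.nd .lf 544 3 10 .lf)
  549 5 11 (.nd .lf 554 7 11 .lf)))))) 559 5 10 (.nd (.nd (.nd (.nd (.nd (.nd (.nd .lf 560 7 2
  .lf) 565 7 2 .lf) 570 6 10 (.nd .lf 575 6 10 .lf)) 576 2 11 (.nd (.nd .lf 581 8 9 .lf) 586 8 11
  (.nd .lf 591 2 10 .lf))) 640 7 11 (.nd (.nd (.nd .lf 645 6 2 .lf) 650 7 10 (.nd .lf 655 6 2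
  .lf)) 704 8 9 (.nd (.nd .lf 709 6 10 .lf) 714 7 9 (.nd .lf 719 7 9 .lf)))) 784 7 10 (.nd (.nd
  (.nd (.nd (.nd .lf 789 7 11 .lf) 794 6 11 .lf) 799 7 10 (.nd .lf 800 5 10 .lf)) 805 8 10 (.nd
  (.nd .lf 810 7 10 .lf) 815 6 10 (.nd .lf 816 8 11 .lf))) 821 5 2 (.nd (.nd (.nd .lf 826 7 2
  .lf) 831 9 11 (.nd .lf 832 6 10 .lf)) 837 4 11 (.nd (.nd .lf 842 6 11 .lf) 847 4 10 (.nd .lf
  896 7 2 .lf))))) 901 8 11 (.nd (.nd (.nd (.nd (.nd (.nd .lf 906 8 11 .lf) 911 7 2 .lf) 960 8 11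
  (.nd .lf 965 8 10 .lf)) 970 6 2 (.nd (.nd .lf 975 4 2 .lf) 1040 6 11 (.nd .lf 1045 6 9 .lf)))
  1050 7 10 (.nd (.nd (.nd .lf 1055 6 11 .lf) 1056 5 2 (.nd .lf 1061 7 11 .lf)) 1066 5 2 (.nd
  (.nd .lf 1071 7 11 .lf) 1072 10 10 (.nd .lf 1077 9 11 .lf)))) 1082 9 10 (.nd (.nd (.nd (.nd
  (.nd .lf 1087 9 10 .lf) 1088 6 11 .lf) 1093 7 2 (.nd .lf 1098 8 10 .lf)) 1103 5 2 (.nd (.nd .lf
  1152 7 9 .lf) 1157 9 10 (.nd .lf 1162 9 10 .lf))) 1167 8 10 (.nd (.nd (.nd .lf 1216 8 10 .lf)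
  1221 9 10 (.nd .lf 1226 9 10 .lf)) 1231 9 10 (.nd (.nd .lf 1280 10 9 .lf) 1285 10 11 (.nd .lf
  1290 10 10 .lf))))))) 1295 8 10 (.nd (.nd (.nd (.nd (.nd (.nd (.nd (.nd .lf 1360 6 9 .lf) 1365
  7 10 .lf) 1370 6 11 (.nd .lf 1375 2 2 .lf)) 1376 6 9 (.nd (.nd .lf 1381 6 9 .lf) 1386 7 10 (.nd
  .lf 1391 7 11 .lf))) 1392 9 11 (.nd (.nd (.nd .lf 1397 9 2 .lf) 1402 7 2 (.nd .lf 1407 9 2
  .lf)) 1424 5 10 (.nd (.nd .lf 1429 5 11 .lf) 1434 6 9 (.nd .lf 1439 3 10 .lf)))) 1440 9 2 (.nd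
  (.nd (.nd (.nd (.nd .lf 1445 8 9 .lf) 1450 8 2 .lf) 1455 8 2 (.nd .lf 1456 7 11 .lf)) 1461 3 9
  (.nd (.nd .lf 1466 3 9 .lf) 1471 7 11 (.nd .lf 1488 9 10 .lf))) 1493 7 11 (.nd (.nd (.nd .lf
  1498 5 10 .lf) 1503 9 10 (.nd .lf 1504 6 11 .lf)) 1509 4 2 (.nd (.nd .lf 1514 2 2 .lf) 1519 7
  10 (.nd .lf 1520 4 10 .lf))))) 1525 9 10 (.nd (.nd (.nd (.nd (.nd (.nd .lf 1530 8 10 .lf) 1535
  6 10 .lf) 1536 5 11 (.nd .lf 1541 6 2 .lf)) 1546 5 10 (.nd (.nd .lf 1551 3 11 .lf) 1616 6 9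
  (.nd .lf 1621 5 10 .lf))) 1626 6 9 (.nd (.nd (.nd .lf 1631 5 11 .lf) 1632 8 11 (.nd .lf 1637 6
  10 .lf)) 1642 6 11 (.nd (.nd .lf 1647 8 10 .lf) 1648 8 11 (.nd .lf 1653 7 11 .lf)))) 1658 3 11
  (.nd (.nd (.nd (.nd (.nd .lf 1663 5 10 .lf) 1680 4 11 .lf) 1685 4 10 (.nd .lf 1690 7 11 .lf))
  1695 7 11 (.nd (.nd .lf 1696 6 10 .lf) 1701 6 10 (.nd .lf 1706 6 11 .lf))) 1711 6 11 (.nd (.nd
  (.nd .lf 1712 5 10 .lf) 1717 5 11 (.nd .lf 1722 5 11 .lf)) 1727 5 10 (.nd (.nd .lf 1744 5 2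
  .lf) 1749 7 9 (.nd .lf 1754 8 9 .lf)))))) 1759 1 2 (.nd (.nd (.nd (.nd (.nd (.nd (.nd .lf 1760
  4 10 .lf) 1765 4 11 .lf) 1770 6 11 (.nd .lf 1775 6 10 .lf)) 1776 9 11 (.nd (.nd .lf 1781 7 11
  .lf) 1786 5 10 (.nd .lf 1791 7 10 .lf))) 1792 7 2 (.nd (.nd (.nd .lf 1797 9 11 .lf) 1802 9 2
  (.nd .lf 1807 7 11 .lf)) 1872 6 2 (.nd (.nd .lf 1877 6 2 .lf) 1882 8 2 (.nd .lf 1887 8 2
  .lf)))) 1888 8 11 (.nd (.nd (.nd (.nd (.nd .lf 1893 8 9 .lf) 1898 8 9 .lf) 1903 8 11 (.nd .lf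
  1904 7 9 .lf)) 1909 7 9 (.nd (.nd .lf 1914 6 9 .lf) 1919 6 9 (.nd .lf 1936 6 2 .lf))) 1941 4 2
  (.nd (.nd (.nd .lf 1946 5 9 .lf) 1951 7 9 (.nd .lf 1952 6 10 .lf)) 1957 4 11 (.nd (.nd .lf 1962
  7 10 .lf) 1967 7 10 (.nd .lf 1968 9 9 .lf))))) 1973 9 11 (.nd (.nd (.nd (.nd (.nd (.nd .lf 1978
  9 11 .lf) 1983 9 2 .lf) 2000 6 10 (.nd .lf 2005 8 11 .lf)) 2010 7 9 (.nd (.nd .lf 2015 5 9 .lf)
  2016 8 2 (.nd .lf 2021 8 9 .lf))) 2026 8 2 (.nd (.nd (.nd .lf 2031 8 2 .lf) 2032 7 11 (.nd .lf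
  2037 3 2 .lf)) 2042 3 2 (.nd (.nd .lf 2047 7 11 .lf) 2064 9 11 (.nd .lf 2069 7 10 .lf)))) 2074
  5 11 (.nd (.nd (.nd (.nd .lf 2079 9 11 .lf) 2080 5 11 (.nd .lf 2085 7 10 .lf)) 2090 3 10 (.nd
  (.nd .lf 2095 8 11 .lf) 2096 7 11 (.nd .lf 2101 7 11 .lf))) 2106 5 9 (.nd (.nd (.nd .lf 2111 5
  9 .lf) 2112 8 2 (.nd .lf 2117 2 10 .lf)) 2122 6 10 (.nd (.nd .lf 2127 8 10 .lf) 2176 7 10 (.nd
  .lf 2181 7 11 .lf)))))))) 2186 7 10 (.nd (.nd (.nd (.nd (.nd (.nd (.nd (.nd (.nd .lf 2191 7 11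
  .lf) 2240 8 10 .lf) 2245 7 9 (.nd .lf 2250 7 9 .lf)) 2255 8 10 (.nd (.nd .lf 2304 7 11 .lf)
  2309 5 11 (.nd .lf 2314 6 11 .lf))) 2319 8 11 (.nd (.nd (.nd .lf 2384 9 2 .lf) 2389 6 11 (.nd
  .lf 2394 6 10 .lf)) 2399 9 2 (.nd (.nd .lf 2400 3 11 .lf) 2405 6 2 (.nd .lf 2410 5 10 .lf))))
  2415 6 2 (.nd (.nd (.nd (.nd (.nd .lf 2416 4 2 .lf) 2421 6 2 .lf) 2426 7 2 (.nd .lf 2431 7 9
  .lf)) 2448 8 9 (.nd (.nd .lf 2453 6 11 .lf) 2458 2 11 (.nd .lf 2463 8 11 .lf))) 2464 7 11 (.nd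
  (.nd (.nd .lf 2469 5 2 .lf) 2474 5 2 (.nd .lf 2479 8 11 .lf)) 2480 0 2 (.nd (.nd .lf 2485 8 9
  .lf) 2490 8 2 (.nd .lf 2495 4 11 .lf))))) 2512 5 10 (.nd (.nd (.nd (.nd (.nd (.nd .lf 2517 5 11
  .lf) 2522 6 2 .lf) 2527 6 2 (.nd .lf 2528 6 11 .lf)) 2533 9 11 (.nd (.nd .lf 2538 8 11 .lf)
  2543 4 11 (.nd .lf 2544 7 11 .lf))) 2549 4 10 (.nd (.nd (.nd .lf 2554 7 11 .lf) 2559 6 11 (.nd
  .lf 2560 8 9 .lf)) 2565 4 9 (.nd (.nd .lf 2570 8 11 .lf) 2575 8 9 (.nd .lf 2640 7 2 .lf))))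
  2645 4 9 (.nd (.nd (.nd (.nd (.nd .lf 2650 5 2 .lf) 2655 6 9 .lf) 2656 9 11 (.nd .lf 2661 9 10
  .lf)) 2666 9 11 (.nd (.nd .lf 2671 10 11 .lf) 2672 8 11 (.nd .lf 2677 6 11 .lf))) 2682 6 10
  (.nd (.nd (.nd .lf 2687 8 10 .lf) 2704 7 11 (.nd .lf 2709 9 2 .lf)) 2714 9 10 (.nd (.nd .lf
  2719 5 10 .lf) 2720 6 10 (.nd .lf 2725 7 11 .lf)))))) 2730 7 11 (.nd (.nd (.nd (.nd (.nd (.nd
  (.nd .lf 2735 7 10 .lf) 2736 7 9 .lf) 2741 8 9 (.nd .lf 2746 5 10 .lf)) 2751 5 11 (.nd (.nd .lf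
  2768 8 11 .lf) 2773 8 9 (.nd .lf 2778 8 9 .lf))) 2783 9 9 (.nd (.nd (.nd .lf 2784 5 11 .lf)
  2789 7 11 (.nd .lf 2794 7 2 .lf)) 2799 7 9 (.nd (.nd .lf 2800 4 10 .lf) 2805 6 11 (.nd .lf 2810
  6 2 .lf)))) 2815 6 2 (.nd (.nd (.nd (.nd (.nd .lf 2816 7 11 .lf) 2821 8 10 .lf) 2826 7 10 (.nd
  .lf 2831 8 10 .lf)) 2896 7 9 (.nd (.nd .lf 2901 8 10 .lf) 2906 9 10 (.nd .lf 2911 5 9 .lf)))
  2912 7 10 (.nd (.nd (.nd .lf 2917 7 9 .lf) 2922 7 10 (.nd .lf 2927 8 9 .lf)) 2928 7 2 (.nd (.nd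
  .lf 2933 8 2 .lf) 2938 7 2 (.nd .lf 2943 6 11 .lf))))) 2960 6 10 (.nd (.nd (.nd (.nd (.nd (.nd
  .lf 2965 6 2 .lf) 2970 7 11 .lf) 2975 6 10 (.nd .lf 2976 9 9 .lf)) 2981 9 10 (.nd (.nd .lf 2986
  9 10 .lf) 2991 9 2 (.nd .lf 2992 7 11 .lf))) 2997 4 9 (.nd (.nd (.nd .lf 3002 2 9 .lf) 3007 6
  11 (.nd .lf 3024 8 2 .lf)) 3029 8 11 (.nd (.nd .lf 3034 4 2 .lf) 3039 8 2 (.nd .lf 3040 7 10
  .lf)))) 3045 5 9 (.nd (.nd (.nd (.nd .lf 3050 5 9 .lf) 3055 8 11 (.nd .lf 3056 3 2 .lf)) 3061 7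
  9 (.nd (.nd .lf 3066 7 2 .lf) 3071 5 11 (.nd .lf 3088 4 11 .lf))) 3093 8 9 (.nd (.nd (.nd .lf
  3098 8 11 .lf) 3103 4 10 (.nd .lf 3104 4 10 .lf)) 3109 6 11 (.nd (.nd .lf 3114 6 11 .lf) 3119 4
  10 (.nd .lf 3120 7 2 .lf))))))) 3125 7 2 (.nd (.nd (.nd (.nd (.nd (.nd (.nd (.nd .lf 3130 5 2
  .lf) 3135 5 2 .lf) 3136 3 10 (.nd .lf 3141 8 9 .lf)) 3146 7 9 (.nd (.nd .lf 3151 1 11 .lf) 3200
  7 2 (.nd .lf 3205 6 2 .lf))) 3210 7 2 (.nd (.nd (.nd .lf 3215 6 2 .lf) 3264 5 11 (.nd .lf 3269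
  3 10 .lf)) 3274 6 9 (.nd (.nd .lf 3279 6 9 .lf) 3328 7 9 (.nd .lf 3333 5 10 .lf)))) 3338 7 2
  (.nd (.nd (.nd (.nd (.nd .lf 3343 7 10 .lf) 3408 6 11 .lf) 3413 6 10 (.nd .lf 3418 6 11 .lf))
  3423 6 10 (.nd (.nd .lf 3424 10 10 .lf) 3429 8 11 (.nd .lf 3434 10 11 .lf))) 3439 10 11 (.nd
  (.nd (.nd .lf 3440 6 9 .lf) 3445 8 9 (.nd .lf 3450 6 9 .lf)) 3455 8 9 (.nd (.nd .lf 3472 8 2
  .lf) 3477 6 2 (.nd .lf 3482 8 10 .lf))))) 3487 4 2 (.nd (.nd (.nd (.nd (.nd (.nd .lf 3488 3 11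
  .lf) 3493 7 10 .lf) 3498 5 10 (.nd .lf 3503 5 11 .lf)) 3504 8 9 (.nd (.nd .lf 3509 7 9 .lf)
  3514 8 9 (.nd .lf 3519 8 9 .lf))) 3536 8 11 (.nd (.nd (.nd .lf 3541 8 2 .lf) 3546 6 10 (.nd .lf
  3551 9 11 .lf)) 3552 5 9 (.nd (.nd .lf 3557 7 9 .lf) 3562 5 9 (.nd .lf 3567 7 9 .lf)))) 3568 3
  2 (.nd (.nd (.nd (.nd (.nd .lf 3573 7 11 .lf) 3578 7 10 .lf) 3583 7 2 (.nd .lf 3584 5 2 .lf))
  3589 8 2 (.nd (.nd .lf 3594 7 2 .lf) 3599 3 2 (.nd .lf 3664 10 10 .lf))) 3669 10 11 (.nd (.nd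
  (.nd .lf 3674 10 10 .lf) 3679 10 10 (.nd .lf 3680 7 11 .lf)) 3685 7 11 (.nd (.nd .lf 3690 7 11
  .lf) 3695 3 9 (.nd .lf 3696 8 2 .lf)))))) 3701 8 2 (.nd (.nd (.nd (.nd (.nd (.nd (.nd .lf 3706
  10 2 .lf) 3711 6 2 .lf) 3728 7 9 (.nd .lf 3733 4 9 .lf)) 3738 7 2 (.nd (.nd .lf 3743 6 9 .lf)
  3744 8 2 (.nd .lf 3749 8 10 .lf))) 3754 9 2 (.nd (.nd (.nd .lf 3759 8 2 .lf) 3760 7 11 (.nd .lf
  3765 7 11 .lf)) 3770 7 10 (.nd (.nd .lf 3775 7 10 .lf) 3792 8 2 (.nd .lf 3797 8 9 .lf)))) 3802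
  8 10 (.nd (.nd (.nd (.nd (.nd .lf 3807 8 2 .lf) 3808 9 11 .lf) 3813 9 11 (.nd .lf 3818 8 11
  .lf)) 3823 9 11 (.nd (.nd .lf 3824 4 11 .lf) 3829 7 10 (.nd .lf 3834 4 10 .lf))) 3839 7 10 (.nd
  (.nd (.nd .lf 3840 5 10 .lf) 3845 5 11 (.nd .lf 3850 5 11 .lf)) 3855 5 10 (.nd (.nd .lf 3920 6
  9 .lf) 3925 4 11 (.nd .lf 3930 6 9 .lf))))) 3935 6 10 (.nd (.nd (.nd (.nd (.nd (.nd .lf 3936 6
  11 .lf) 3941 9 9 .lf) 3946 9 9 (.nd .lf 3951 6 10 .lf)) 3952 7 11 (.nd (.nd .lf 3957 7 10 .lf)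
  3962 8 11 (.nd .lf 3967 8 11 .lf))) 3984 9 10 (.nd (.nd (.nd .lf 3989 8 9 .lf) 3994 6 11 (.nd
  .lf 3999 8 10 .lf)) 4000 6 9 (.nd (.nd .lf 4005 8 9 .lf) 4010 10 9 (.nd .lf 4015 8 9 .lf))))
  4016 4 11 (.nd (.nd (.nd (.nd .lf 4021 6 10 .lf) 4026 6 10 (.nd .lf 4031 4 11 .lf)) 4048 8 9
  (.nd (.nd .lf 4053 6 11 .lf) 4058 8 11 (.nd .lf 4063 4 9 .lf))) 4064 4 11 (.nd (.nd (.nd .lf
  4069 6 10 .lf) 4074 6 10 (.nd .lf 4079 4 11 .lf)) 4080 7 9 (.nd (.nd .lf 4085 6 11 .lf) 4090 7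
  9 (.nd .lf 4095 6 11 .lf)))))))))

theorem tl1 : level (ar4 6) ms [2, 9, 10, 11] [5] 2480 t1 540 = true := by decide +kernel

def t2 : T :=
  (.nd (.nd (.nd (.nd (.nd (.nd (.nd (.nd .lf 49 4 16 .lf) 52 5 15 .lf) 91 5 16 (.nd .lf 94 6 17
  .lf)) 129 4 16 (.nd (.nd .lf 132 5 16 .lf) 235 3 13 (.nd .lf 238 5 17 .lf))) 257 4 14 (.nd (.nd
  (.nd .lf 260 3 14 .lf) 353 4 12 (.nd .lf 356 5 13 .lf)) 433 2 13 (.nd (.nd .lf 436 3 12 .lf)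
  465 4 17 (.nd .lf 468 4 12 .lf)))) 555 5 16 (.nd (.nd (.nd (.nd .lf 558 2 14 .lf) 587 4 17 (.nd
  .lf 590 5 17 .lf)) 657 3 16 (.nd (.nd .lf 660 4 16 .lf) 753 4 17 (.nd .lf 756 1 13 .lf))) 795 4
  13 (.nd (.nd (.nd .lf 798 5 16 .lf) 881 5 17 (.nd .lf 884 4 17 .lf)) 929 4 13 (.nd (.nd .lf 932
  2 12 .lf) 971 3 14 (.nd .lf 974 5 14 .lf))))) 1051 5 17 (.nd (.nd (.nd (.nd (.nd .lf 1054 5 13
  .lf) 1137 5 16 (.nd .lf 1140 4 16 .lf)) 1185 5 14 (.nd (.nd .lf 1188 2 14 .lf) 1227 1 17 (.nd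
  .lf 1230 4 13 .lf))) 1313 5 12 (.nd (.nd (.nd .lf 1316 5 16 .lf) 1345 3 15 (.nd .lf 1348 5 14
  .lf)) 1435 4 14 (.nd (.nd .lf 1438 4 12 .lf) 1531 4 12 (.nd .lf 1534 5 16 .lf)))) 1547 5 17
  (.nd (.nd (.nd (.nd .lf 1550 4 17 .lf) 1643 4 14 (.nd .lf 1646 4 14 .lf)) 1723 5 14 (.nd (.nd
  .lf 1726 5 17 .lf) 1755 3 17 (.nd .lf 1758 3 13 .lf))) 1841 6 17 (.nd (.nd (.nd .lf 1844 4 16
  .lf) 1883 4 13 (.nd .lf 1886 3 16 .lf)) 1921 4 17 (.nd (.nd .lf 1924 3 17 .lf) 2027 4 16 (.nd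
  .lf 2030 3 16 .lf)))))) 2049 2 17 (.nd (.nd (.nd (.nd (.nd (.nd .lf 2052 3 12 .lf) 2145 3 13
  (.nd .lf 2148 5 17 .lf)) 2225 4 14 (.nd (.nd .lf 2228 3 14 .lf) 2257 6 17 (.nd .lf 2260 3 17
  .lf))) 2353 5 16 (.nd (.nd (.nd .lf 2356 3 16 .lf) 2395 5 17 (.nd .lf 2398 3 17 .lf)) 2433 3 13
  (.nd (.nd .lf 2436 4 16 .lf) 2539 5 17 (.nd .lf 2542 5 16 .lf)))) 2577 3 15 (.nd (.nd (.nd (.nd
  .lf 2580 4 12 .lf) 2683 5 14 (.nd .lf 2686 4 14 .lf)) 2731 4 13 (.nd (.nd .lf 2734 5 13 .lf)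
  2753 6 17 (.nd .lf 2756 4 13 .lf))) 2849 3 16 (.nd (.nd (.nd .lf 2852 4 16 .lf) 2881 4 17 (.nd
  .lf 2884 3 17 .lf)) 2971 4 15 (.nd (.nd .lf 2974 4 14 .lf) 3067 4 17 (.nd .lf 3070 5 17
  .lf))))) 3115 4 17 (.nd (.nd (.nd (.nd (.nd .lf 3118 2 12 .lf) 3147 4 16 (.nd .lf 3150 4 16
  .lf)) 3217 5 17 (.nd (.nd .lf 3220 5 16 .lf) 3313 4 16 (.nd .lf 3316 3 14 .lf))) 3345 3 14 (.nd
  (.nd (.nd .lf 3348 4 14 .lf) 3451 3 13 (.nd .lf 3454 2 15 .lf)) 3499 4 17 (.nd (.nd .lf 3502 5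
  17 .lf) 3521 5 13 (.nd .lf 3524 4 16 .lf)))) 3633 0 12 (.nd (.nd (.nd (.nd .lf 3636 5 17 .lf)
  3675 2 16 (.nd .lf 3678 5 16 .lf)) 3713 5 16 (.nd (.nd .lf 3716 5 17 .lf) 3819 5 16 (.nd .lf
  3822 4 15 .lf))) 3851 5 17 (.nd (.nd (.nd .lf 3854 4 13 .lf) 3947 4 12 (.nd .lf 3950 4 12 .lf))
  4027 4 17 (.nd (.nd .lf 4030 6 13 .lf) 4059 4 15 (.nd .lf 4062 5 14 .lf)))))))

theorem tl2 : level (ar4 6) ms [12, 13, 14, 15, 16, 17] [2480, 5] 3633 t2 128 = true := by decide +kernel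

def t3 : T :=
  (.nd (.nd (.nd (.nd (.nd (.nd .lf 107 6 18 .lf) 222 5 18 .lf) 318 5 18 (.nd .lf 337 2 18 .lf))
  395 5 18 (.nd (.nd .lf 484 5 19 .lf) 539 6 18 (.nd .lf 628 4 18 .lf))) 846 4 18 (.nd (.nd (.nd
  .lf 916 3 19 .lf) 1102 3 18 (.nd .lf 1172 7 18 .lf)) 1454 4 18 (.nd (.nd .lf 1473 3 18 .lf)
  1899 8 19 (.nd .lf 2014 4 19 .lf)))) 2110 4 19 (.nd (.nd (.nd (.nd .lf 2129 6 18 .lf) 2187 4 19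
  (.nd .lf 2276 5 19 .lf)) 2411 5 19 (.nd (.nd .lf 2526 2 19 .lf) 2593 7 18 (.nd .lf 2811 5 19
  .lf))) 2990 3 19 (.nd (.nd (.nd .lf 3009 5 19 .lf) 3099 6 19 (.nd .lf 3188 6 18 .lf)) 3361 1 19
  (.nd (.nd .lf 3579 6 19 .lf) 3691 6 18 (.nd .lf 3806 0 18 .lf)))))

theorem tl3 : level (ar4 6) ms [18, 19] [3633, 2480, 5] 3806 t3 32 = true := by decide +kernel

def t4 : T :=
  (.nd (.nd (.nd .lf 868 2 20 .lf) 1124 2 21 (.nd .lf 1412 2 20 .lf)) 1556 1 21 (.nd (.nd .lf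
  2948 0 20 .lf) 3860 1 20 .lf))

theorem tl4 : level (ar4 6) ms [20, 21] [3806, 3633, 2480, 5] 2948 t4 6 = true := by decide +kernel


/-- The meaning of the codes. -/
def sm : Sem (ar4 6) K4 (Fin 6) := sem4 6 (Equiv.refl _)

/-- The special unitary group. -/
abbrev X := SU 6 K4 2

/-- The matrix of an element. -/
def ρ : X →* Matrix (Fin 6) (Fin 6) K4 := SpecialLinearGroup.coeMonoidHom.comp (Subgroup.subtype _)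

theorem ρ_inj : Function.Injective ρ := fun _ _ h => Subtype.ext (Subtype.ext h)

theorem rep_top : ∀ l ∈ I1, sm.Rep ρ ms ⊤ l := fun l hl => by
  have h1 := congrArg det (sm.mul_eq_one hw ((by decide +kernel :
    ∀ l ∈ I1, eqB (ar4 6) ms [l, l] [] 1 = true) l hl))
  rw [det_mul, det_one] at h1
  refine ⟨⟨⟨sm.mat (gm ms l), (by decide : ∀ x : K4, x * x = 1 → x = 1) _ h1⟩,
    SUBasic.mem_SU_of K4.card_eq_sq _ ?_⟩, trivial, rfl⟩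
  change ∀ i j, ∑ k, sm.mat (gm ms l) k i * sm.mat (gm ms l) k j ^ 2 = _
  rw [gm_eq]
  exact (by decide +kernel : ∀ l ∈ I1, ∀ i j, ∑ k, sm.mat (ms.getD l []) k i *
    sm.mat (ms.getD l []) k j ^ 2 = if i = j then 1 else 0) l hl

/-- The generators in the special unitary group. -/
noncomputable def g : ℕ → X := sm.el ρ ms ⊤

theorem ρ_g : ∀ l ∈ I1, ρ (g l) = sm.mat (gm ms l) := sm.rho_el ρ rep_top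

theorem card_X : Nat.card X = 27590492160 :=
  Nat.eq_of_mul_eq_mul_left (by norm_num)
    ((SUBasic.card_SU K4.card_eq_sq (n := 6) (by norm_num)).trans (by decide +kernel))

theorem gp_g : gp g (I1.map fun l => [2 * l]) = ⊤ := by
  have h := sm.rep_of_slp hw ρ st (sm.rep_gp ρ ρ_g) hst
  refine Subgroup.eq_top_of_le_card _ (card_X.trans_le ?_)
  rw [← sm.fx_nil ρ (gp _ _)]
  exact (sm.le_card ρ hw (Sem.Rep.sub _ _ h (by decide)) tl0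
    (sm.le_card ρ hw (Sem.Rep.sub _ _ h (by decide)) tl1
    (sm.le_card ρ hw (Sem.Rep.sub _ _ h (by decide)) tl2
    (sm.le_card ρ hw (Sem.Rep.sub _ _ h (by decide)) tl3
    (sm.le_card ρ hw (Sem.Rep.sub _ _ h (by decide)) tl4
    (sm.one_le ρ _))))))

theorem g_zero : g 0 = 1 := ρ_inj (by
  rw [ρ_g 0 (by decide), map_one]
  simpa [Sem.wm] using sm.wm_eq_one hw (u := [0]) (v := []) (by decide +kernel))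

theorem center_PSU : Subgroup.center (PSU 6 K4 2) = ⊥ :=
  haveI : Group.IsPerfect X := ⟨perfect_of (sm.rels_one hw ρ ρ_inj ρ_g hrel0) gp_g
    fun _ => by rw [g_zero, map_one]⟩
  Group.IsPerfect.center_quotient_center_eq_bot X

theorem card_center {F : Type} [Field F] [Fintype F] [CharP F 2] (hF : Fintype.card F = 2 ^ 2) :
    Nat.card (Subgroup.center (SU 6 F 2)) ≤ 3 := by
  have h := AutUnit.ug_hermB hF (n := 6) (by norm_num) (by norm_num)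
  let φ := (FormMatrix.suEquiv hF 6).trans (MulEquiv.subgroupCongr (h.XX_eq 2).symm)
  have h1 := AutRoot.card_center h.good
  rw [← AutLift.map_center φ, Subgroup.card_map_of_injective φ.injective] at h1
  refine h1.trans_le ((Finite.card_subtype_le _).trans_eq ?_)
  rw [LinearOrders.card_units, hF]
  rfl

theorem card_PSU : 9196830720 ≤ Nat.card (PSU 6 K4 2) := by
  have : CharP K4 2 := CharTwo.of_one_ne_zero_of_two_eq_zero (by decide) (by decide)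
  have h := (Subgroup.center X).index_mul_card
  rw [card_X] at h
  exact Nat.le_of_mul_le_mul_right (h.ge.trans (Nat.mul_le_mul_left _ (card_center K4.card_eq_sq)))
    (show 0 < 3 by norm_num)

/-- The generators in the projective group. -/
noncomputable def f (l : ℕ) : PSU 6 K4 2 := QuotientGroup.mk' _ (g l)

theorem hf : ∀ w ∈ K1, wval f w = 1 := fun w hw' =>
  (map_wval (QuotientGroup.mk' _) g w).symm.trans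
    ((QuotientGroup.eq_one_iff _).2 (sm.rels_center hw ρ ρ_inj ρ_g hrel w hw'))

theorem gp_f : gp f (I1.map fun l => [2 * l]) = ⊤ :=
  (map_gp (QuotientGroup.mk' _) _).symm.trans (by
    rw [gp_g, Subgroup.map_top_of_surjective _ (QuotientGroup.mk'_surjective _)])

/-- The new generators. -/
def ws : List (List ℕ) := [[0], [4], [6], [8], [10], [12], [14], [16], [18, 0, 4, 8, 14, 6, 4, 8, 14, 6, 14, 8, 4, 6]]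

/-- The old generators in terms of the new ones. -/
def vs : List (List ℕ) := [[0], [2], [4], [6], [8], [10], [12], [14], [16, 4, 2, 6, 12, 4, 12, 6, 2, 4, 12, 6, 2, 0]]

/-- The relations to be checked. -/
def prs : List (List ℕ × List ℕ) := (Fi22A.hs.getD 8 [], [18]) ::
  (K1.map (fun w => (subst ws w, [])) ++ Fi22A.hs.zip (vs.map (subst ws)))

theorem chk0 : RelsOn Fi22A.nets 3510 12 prs 0 4 :=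
  relsOn_of_B _ _ _ _ _ 4 _ (by decide +kernel) (by decide +kernel)

theorem chk1 : RelsOn Fi22A.nets 3510 12 prs 4 8 :=
  relsOn_of_B _ _ _ _ _ 4 _ (by decide +kernel) (by decide +kernel)

theorem chk2 : RelsOn Fi22A.nets 3510 12 prs 8 12 :=
  relsOn_of_B _ _ _ _ _ 4 _ (by decide +kernel) (by decide +kernel)

theorem hY : ∀ r ∈ prs, wval Fi22A.Y r.1 = wval Fi22A.Y r.2 := fun r hr =>
  (injective_iff_map_eq_one Fi22A.phi).2 (fun _ => Fi22A.phi_eq_one) (by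
    rw [map_wval' Fi22A.hphi, map_wval' Fi22A.hphi]
    exact wval_eq_of_relsOn (K := 12) Fi22A.hv (by norm_num) (chk0.trans (chk1.trans chk2)) r hr)

/-- The subgroup. -/
abbrev H := gp Fi22A.Y Fi22A.hs

theorem z_mem (i : ℕ) : wval Fi22A.Y (ws.getD i []) ∈ H := by
  refine wval_mem fun l hl => ?_
  have h : ∀ w ∈ [] :: ws, ∀ l ∈ w, l / 2 = 9 ∨ [2 * (l / 2)] ∈ Fi22A.hs := by decide
  have h1 : ws.getD i [] ∈ [] :: ws := by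
    rcases lt_or_ge i ws.length with h | h
    · rw [List.getD_eq_getElem _ _ h]; exact List.mem_cons_of_mem _ (List.getElem_mem h)
    · rw [List.getD_eq_default _ _ h]; exact List.mem_cons_self
  rcases h _ h1 l hl with h | h
  · rw [h, ← wval_single Fi22A.Y, ← show wval Fi22A.Y _ = wval Fi22A.Y [2 * 9] from hY _ List.mem_cons_self]
    exact mem_gp (by decide)
  · exact wval_single Fi22A.Y (l / 2) ▸ mem_gp h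

/-- The new generators as elements. -/
def z (i : ℕ) : H := ⟨_, z_mem i⟩

theorem coe_wval (w : List ℕ) : (wval z w).1 = wval Fi22A.Y (subst ws w) :=
  (map_wval H.subtype z w).trans (wval_subst _ ws w).symm

theorem hz : ∀ w ∈ K1, wval z w = 1 := fun w hw => Subtype.ext ((coe_wval w).trans
  (hY (subst ws w, []) (List.mem_cons_of_mem _ (List.mem_append_left _ (List.mem_map_of_mem hw)))))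

theorem gp_z : gp z (I1.map fun l => [2 * l]) = ⊤ := by
  refine eq_top_iff.2 fun x _ => ?_
  obtain ⟨y, hy, e⟩ := (gp_le (K := (gp z (I1.map fun l => [2 * l])).map H.subtype)).2
    (fun w hw => by
      obtain ⟨v, h1, h2⟩ := (by decide +kernel : ∀ w ∈ Fi22A.hs, ∃ v ∈ vs, (w, subst ws v) ∈ prs) w hw
      exact ⟨_, mem_gp_of_lettersIn (by decide) v h1, (coe_wval v).trans (hY _ h2).symm⟩) x.2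
  exact Subtype.ext (a2 := x) e ▸ hy

theorem z_zero : z 0 ≠ 1 := fun h => ne_one_of_move Fi22A.hv [0] 3000 (by decide +kernel) (by
  rw [← map_wval' Fi22A.hphi, show wval Fi22A.Y [0] = 1 from congrArg Subtype.val h, map_one])

theorem final : IsNonsplitDoubleCover H (PSU 6 K4 2) := by
  obtain ⟨α, hα⟩ := hom_of_bound hz hf (fun z hz => card_le z hz) gp_z Fi22A.card_hs.ge
  have hs : Function.Surjective α := by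
    rw [← MonoidHom.range_eq_top, eq_top_iff, ← gp_f]
    exact gp_le.2 fun w hw => ⟨_, hα w hw⟩
  refine nonsplit α hs ?_ center_PSU (perfect_of (fun w hw => hz w (List.mem_append_left _ hw))
    gp_z fun h => ?_)
  · have h1 := α.ker.card_mul_index
    rw [Subgroup.index_ker, MonoidHom.range_eq_top.2 hs, Subgroup.card_top, Fi22A.card_hs] at h1
    refine le_antisymm (Nat.le_of_mul_le_mul_right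
      ((Nat.mul_le_mul_left _ card_PSU).trans (h1.trans (by norm_num)).le) (by norm_num))
      (α.ker.one_lt_card_iff_ne_bot.2 fun h => z_zero (h.le ?_))
    have := hα [2 * 0] (by decide)
    rwa [wval_single, wval_single, f, g_zero, map_one] at this
  · have h1 := congrArg Abelianization.of (hz [16, 8, 6, 10, 8, 14, 16, 8, 6, 14, 10, 12, 14, 8, 16, 14, 8, 10, 6, 8, 16, 0, 6, 8, 6, 10, 8, 6, 12, 14, 12] (by decide))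
    rw [map_wval] at h1
    simpa [wval, lval, h 2 (by decide) (by decide), h 3 (by decide) (by decide), h 4 (by decide) (by decide), h 5 (by decide) (by decide), h 6 (by decide) (by decide), h 7 (by decide) (by decide), h 8 (by decide) (by decide)] using h1


/-- In the presented Fischer group Fi₂₂, the subgroup generated by the images of a, c, d, e, f, g, h, i and (abcdeh)^5 is a non-split double cover of PSU(6, 2) (realised over a field with four elements). -/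
theorem result : ∃ (K : Type) (_ : Field K) (_ : Fintype K), Fintype.card K = 4 ∧ Cfsg.IsNonsplitDoubleCover (((Subgroup.closure ({Cfsg.Spor.Fi22.a, Cfsg.Spor.Fi22.c, Cfsg.Spor.Fi22.d, Cfsg.Spor.Fi22.e, Cfsg.Spor.Fi22.f, Cfsg.Spor.Fi22.g, Cfsg.Spor.Fi22.h, Cfsg.Spor.Fi22.i, (Cfsg.Spor.Fi22.a * Cfsg.Spor.Fi22.b * Cfsg.Spor.Fi22.c * Cfsg.Spor.Fi22.d * Cfsg.Spor.Fi22.e * Cfsg.Spor.Fi22.h) ^ 5} : Set (FreeGroup Cfsg.Spor.Fi22.Gen))).map (PresentedGroup.mk (Cfsg.Spor.coxRelators Cfsg.Spor.Fi22.edges ∪ {r | r ∈ Cfsg.Spor.Fi22.extra})))) (Cfsg.PSU 6 K 2) := by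
  refine ⟨K4, inferInstance, inferInstance, rfl, ?_⟩
  rw [Fi22Base.map_closure [.g 0, .g 2, .g 3, .g 4, .g 5, .g 6, .g 7, .g 8,
      .pow (.mul (.mul (.mul (.mul (.mul (.g 0) (.g 1)) (.g 2)) (.g 3)) (.g 4)) (.g 7)) 5] _
    (by ext; simp only [E.eval, Fi22Base.gen, List.map_cons, List.map_nil, List.mem_cons,
      List.not_mem_nil, or_false, Set.mem_insert_iff, Set.mem_singleton_iff, Set.mem_ofPred_eq]),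
    ← Fi22A.gpY _ (by decide)]
  exact final

end Cfsg.Agent.S1684
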