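import Cfsg.Statements.S1706
import Cfsg.Agent.Lib.ThA

set_option autoImplicit false
open Cfsg

namespace Cfsg.Agent.S1706

open Cfsg.Agent.Lib Cfsg.Agent.Lib.Words

/-- In the presented Thompson sporadic group (generators a, b, c, d, e, s, t, u), the subgroup generated by the images of a, b, c, d, e, s, t has index 143127000. -/
theorem result : (((Subgroup.closure ({Cfsg.Spor.Th.a, Cfsg.Spor.Th.b, Cfsg.Spor.Th.c, Cfsg.Spor.Th.d, Cfsg.Spor.Th.e, Cfsg.Spor.Th.s, Cfsg.Spor.Th.t} : Set (FreeGroup Cfsg.Spor.Th.Gen))).map (PresentedGroup.mk (Cfsg.Spor.coxRelators Cfsg.Spor.Th.edges ∪ {r | r ∈ Cfsg.Spor.Th.extra})))).index = 143127000 := by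
  rw [ThBase.map_closure [.g 0, .g 1, .g 2, .g 3, .g 4, .g 5, .g 6] _
    (by ext; simp only [E.eval, ThBase.gen, List.map_cons, List.map_nil, List.mem_cons,
      List.not_mem_nil, or_false, Set.mem_insert_iff, Set.mem_singleton_iff, Set.mem_ofPred_eq])]
  exact ThA.main.1

end Cfsg.Agent.S1706
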