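import Cfsg.Statements.S2773
import Cfsg.Agent.Lib.PairTr

set_option autoImplicit false
universe u
open Cfsg

namespace Cfsg.Agent.S2773

open Subgroup Cfsg.Agent.Lib Cfsg.Agent.Lib.PCoreConj Cfsg.Agent.Lib.PCore Cfsg.Agent.Lib.PairK



/-- For every nontrivial finite 3-group S there is a nontrivial characteristic subgroup K of S such that, in every finite group G containing S as a Sylow 3-subgroup, S ∩ G' is the product of S ∩ (C_G(Z(S)))' and S ∩ (N_G(K))' (derived subgroups; product taken elementwise). -/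
theorem result {S : Type u} [Group S] [Finite S] [Nontrivial S] (hS : IsPGroup 3 S) : ∃ K : Subgroup S, K ≠ ⊥ ∧ K.Characteristic ∧ ∀ (G : Type u) [Group G] [Finite G] (τ : S →* G), Function.Injective τ → (∃ P : Sylow 3 G, (P : Subgroup G) = τ.range) → ∀ g : G, g ∈ τ.range ⊓ commutator G ↔ ∃ a ∈ τ.range ⊓ ⁅Subgroup.centralizer ((τ.range ⊓ Subgroup.centralizer (τ.range : Set G) : Subgroup G) : Set G), Subgroup.centralizer ((τ.range ⊓ Subgroup.centralizer (τ.range : Set G) : Subgroup G) : Set G)⁆, ∃ b ∈ τ.range ⊓ ⁅Subgroup.normalizer ((K.map τ : Subgroup G) : Set G), Subgroup.normalizer ((K.map τ : Subgroup G) : Set G)⁆, g = a * b := by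
  haveI : Fact (Nat.Prime 3) := ⟨Nat.prime_three⟩
  refine ⟨(K 3).toFun ⊤, (K 3).ne_bot (hS.to_subgroup ⊤) top_ne_bot, PushBase.char_of_funct (K 3).toFun
    fun f hf => (K 3).map (ThompsonJ.inf_ker_of_injective hf _), fun G _ _ τ hτ hP g => ?_⟩
  rw [(K 3).map (ThompsonJ.inf_ker_of_injective hτ _), ← MonoidHom.range_eq_map]
  have hT := isSylowIn_top_iff.mpr hP
  set T := τ.range
  have hTN : T ≤ normalizer (((K 3).toFun T : Subgroup G) : Set G) := le_normalizer.trans ((K 3).normalizer_le T)
  refine ⟨fun hg => ?_, ?_⟩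
  · obtain ⟨a, ha, b, hb, e⟩ := (mem_sup_iff_of_le_normalizer (inf_le_left.trans (le_normalizer_inf le_normalizer
      (hTN.trans (le_normalizer_commutator le_normalizer le_normalizer))))).mp
      (PairTr.main (by decide) hT le_sup_right le_sup_left hg)
    exact ⟨a, ha, b, hb, e.symm⟩
  · rintro ⟨a, ha, b, hb, rfl⟩
    exact mul_mem (inf_le_inf_left _ (commutator_mono le_top le_top) ha)
      (inf_le_inf_left _ (commutator_mono le_top le_top) hb)

end Cfsg.Agent.S2773
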