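import Cfsg.Statements.S2774
import Cfsg.Agent.Lib.PairTr

set_option autoImplicit false
open Cfsg

namespace Cfsg.Agent.S2774

open Subgroup Cfsg.Agent.Lib Cfsg.Agent.Lib.PCoreConj Cfsg.Agent.Lib.PCore Cfsg.Agent.Lib.PairK



/-- Let p be an odd prime and S a nontrivial Sylow p-subgroup of a finite group G. Then S ∩ G' is generated by the subgroups S ∩ (N_G(K))' as K ranges over the nontrivial characteristic subgroups of S (derived subgroups of the normalizers). -/
theorem result {G : Type*} [Group G] [Finite G] {p : ℕ} [Fact p.Prime] (hp : p ≠ 2) (S : Sylow p G) (hS : (S : Subgroup G) ≠ ⊥) : (S : Subgroup G) ⊓ commutator G = ⨆ K : {K : Subgroup ↥(S : Subgroup G) // K ≠ ⊥ ∧ K.Characteristic}, (S : Subgroup G) ⊓ ⁅Subgroup.normalizer ((((K : Subgroup ↥(S : Subgroup G))).map (S : Subgroup G).subtype : Subgroup G) : Set G), Subgroup.normalizer ((((K : Subgroup ↥(S : Subgroup G))).map (S : Subgroup G).subtype : Subgroup G) : Set G)⁆ := by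
  have hT := isSylowIn_top S
  refine le_antisymm ?_ (iSup_le fun K => inf_le_inf_left _ (commutator_mono le_top le_top))
  have := (nontrivial_iff_ne_bot (S : Subgroup G)).mpr hS
  have h := (S : Subgroup G).subtype_injective
  refine PairTr.main hp hT (le_iSup_of_le ⟨(K p).toFun ⊤, (K p).ne_bot (S.2.to_subgroup ⊤) top_ne_bot,
    PushBase.char_of_funct (K p).toFun fun f hf => (K p).map (ThompsonJ.inf_ker_of_injective hf _)⟩ ?_)
    (le_iSup_of_le ⟨center S, fun e => center_ne_bot S.2 hS ?_, inferInstance⟩ ?_)
  · rw [(K p).map (ThompsonJ.inf_ker_of_injective h _), PushBase.map_top_subtype]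
  · rw [← map_center_subtype, e, Subgroup.map_bot]
  · rw [map_center_subtype]
    exact inf_le_inf_left _ (commutator_mono (centralizer_le_normalizer _) (centralizer_le_normalizer _))

end Cfsg.Agent.S2774
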