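import Cfsg.Statements.S2803
import Cfsg.Agent.Lib.PReduced

set_option autoImplicit false
open Cfsg

namespace Cfsg.Agent.S2803

open Subgroup Cfsg.Agent.Lib.PCoreConj Cfsg.Agent.Lib.PCore Cfsg.Agent.Lib.PCoreResidual Cfsg.Agent.Lib.PCoreMod
open Cfsg.Agent.Lib.PReduced
open scoped Pointwise commutatorElement

/-- Let L be a finite group and p a prime with C_L(O_p(L)) ≤ O_p(L), T a Sylow p-subgroup, and Y the largest p-reduced normal subgroup of L. Put T_L = C_T(Y) and L_T = N_L(T_L). Then L = L_T · C_L(Y) (elementwise), T_L = O_p(L_T), and Y = Ω₁(Z(T_L)). -/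
theorem result {L : Type*} [Group L] [Finite L] {p : ℕ} [Fact p.Prime] (hchar : Subgroup.centralizer (Cfsg.pCore p L : Set L) ≤ Cfsg.pCore p L) (T : Sylow p L) (Y : Subgroup L) (hY : (Cfsg.IsPReducedNormal p Y ∧ ∀ V : Subgroup L, Cfsg.IsPReducedNormal p V → V ≤ Y)) (TL : Subgroup L) (hTL : TL = (T : Subgroup L) ⊓ Subgroup.centralizer (Y : Set L)) : (∀ g : L, ∃ a ∈ Subgroup.normalizer (TL : Set L), ∃ c ∈ Subgroup.centralizer (Y : Set L), g = a * c) ∧ (Cfsg.pCore p ↥(Subgroup.normalizer (TL : Set L))).map (Subgroup.normalizer (TL : Set L)).subtype = TL ∧ Y = Cfsg.omegaOne p (TL ⊓ Subgroup.centralizer (TL : Set L)) := by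
  have hY' : Y = largestPReducedOf p (⊤ : Subgroup L) := by
    rw [largestPReducedOf_top]
    exact le_antisymm (le_sSup hY.1)
      (hY.2 _ (isPReducedNormal_iff_top.2 (isPRed_largest_top p L)))
  have hYr := isPReducedNormal_iff_top.1 hY.1
  subst hTL
  refine ⟨fun g => ?_, ?_, ?_⟩
  · have h := inf_normalizer_sup_centralizer hYr.norm (isSylowIn_top T)
    rw [top_inf_eq, top_sup_eq] at h
    obtain ⟨a, ha, c, hc, e⟩ := (mem_sup_iff_of_le_normalizer (le_top.trans hYr.red.normC)).1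
      (h.ge (mem_top g))
    exact ⟨a, ha, c, hc, e.symm⟩
  · have h := hYr.red.pCoreOf_inf_normalizer (isSylowIn_top T)
    rwa [top_inf_eq] at h
  · rw [omegaOneCenter_def, hY']
    exact largest_eq_omegaOneCenter (charPIn_top_iff.2 hchar) (isSylowIn_top T)

end Cfsg.Agent.S2803
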