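import Cfsg.Statements.S3028
import Cfsg.Agent.Lib.PCoreResidual
import Cfsg.Agent.Lib.SubnormalJoin
import Cfsg.Agent.Lib.TransferFrobenius

set_option autoImplicit false
open Cfsg

namespace Cfsg.Agent.S3028

open Cfsg.Agent.Lib.PCore Cfsg.Agent.Lib.PCoreConj Cfsg.Agent.Lib.PCoreResidual Subgroup
open scoped commutatorElement

theorem aux {p : ℕ} [Fact p.Prime] (G : Type*) [Group G] [Finite G] :
    ∀ S A₁ A₂ : Subgroup G, IsSylowIn p S ⊤ → A₁.IsSubnormal → A₂.IsSubnormal →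
      (A₁ ⊔ A₂) ⊓ S ≤ (A₁ ⊓ S) ⊔ (A₂ ⊓ S) := by
  refine Cfsg.Agent.Lib.SolvBasic.card_induction (P := fun G _ _ =>
    ∀ S A₁ A₂ : Subgroup G, IsSylowIn p S ⊤ → A₁.IsSubnormal → A₂.IsSubnormal →
      (A₁ ⊔ A₂) ⊓ S ≤ (A₁ ⊓ S) ⊔ (A₂ ⊓ S)) (fun G _ _ ih => ?_) G
  intro S A₁ A₂ hS h₁ h₂
  by_cases htop : A₁ ⊔ A₂ = ⊤
  swap
  · set J := A₁ ⊔ A₂
    have hJ : J.IsSubnormal := Cfsg.Agent.Lib.SubnormalJoin.isSubnormal_sup h₁ h₂
    have hSJ := (hS.inf_subnormalIn (subnormalIn_top_iff.mpr hJ)).subgroupOf le_rfl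
    rw [subgroupOf_self, inf_subgroupOf_right] at hSJ
    have := ih J (Cfsg.Agent.Lib.SolvBasic.card_lt_of_ne_top htop) (S.subgroupOf J)
      (A₁.subgroupOf J) (A₂.subgroupOf J) hSJ (h₁.comap _) (h₂.comap _)
    have h3 := map_mono (f := J.subtype) this
    rw [← subgroupOf_sup le_sup_left le_sup_right, subgroupOf_self, top_inf_eq,
      subgroupOf_map_subtype, Subgroup.map_sup] at h3
    rw [inf_comm]
    refine h3.trans (sup_le_sup ?_ ?_) <;>
    · rintro _ ⟨x, hx, rfl⟩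
      exact hx
  rw [htop, top_inf_eq]
  by_cases hO : pResidual p G = ⊥
  · rw [hS.eq_of_isPGroup (isPGroup_top_iff.mpr (pResidual_eq_bot_iff.mp hO)), inf_top_eq,
      inf_top_eq, htop]
  obtain ⟨N, hN, hNO⟩ := Cfsg.Agent.Lib.SolvBasic.exists_minNormal_le _ hO
  have := hN.normal
  set T := (A₁ ⊓ S) ⊔ (A₂ ⊓ S) with hT
  have hTS : T ≤ S := sup_le inf_le_right inf_le_right
  have hn : ∀ H : Subgroup G, H ≤ normalizer (N : Set G) := fun H => by
    rw [normalizer_eq_top]; exact le_top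
  have hNA₁ := Cfsg.Agent.Lib.SubnormalJoin.minNormal_le_normalizer G N A₁ hN h₁
  have hNA₂ := Cfsg.Agent.Lib.SubnormalJoin.minNormal_le_normalizer G N A₂ hN h₂
  have hq : ∀ A : Subgroup G, A.IsSubnormal → A.map (QuotientGroup.mk' N) ⊓ S.map (QuotientGroup.mk' N) =
      (A ⊓ S).map (QuotientGroup.mk' N) := by
    intro A hA
    have e1 := (hS.inf_subnormalIn (subnormalIn_top_iff.mpr hA)).map (QuotientGroup.mk' N)
    rw [inf_comm S] at e1
    exact e1.eq_of_le inf_le_left ((hS.map_mk' N).isPGroup.to_le inf_le_right) (map_inf_le _ _ _)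
  have h3 := ih (G ⧸ N) (Cfsg.Agent.Lib.SolvBasic.card_quotient_lt hN.ne_bot)
    (S.map (QuotientGroup.mk' N)) (A₁.map (QuotientGroup.mk' N)) (A₂.map (QuotientGroup.mk' N))
    (hS.map_mk' N) (h₁.map (QuotientGroup.mk'_surjective N)) (h₂.map (QuotientGroup.mk'_surjective N))
  rw [hq A₁ h₁, hq A₂ h₂, ← Subgroup.map_sup, ← Subgroup.map_sup, htop,
    inf_eq_right.mpr (map_mono le_top), Cfsg.Agent.Lib.SolvBasic.map_mk_le_map_mk_iff] at h3
  have h4 : S = T ⊔ (N ⊓ S) := by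
    rw [← sup_inf_of_le_normalizer (hn _) hTS, inf_eq_right.mpr h3]
  suffices N ⊓ S ≤ T by rw [h4]; exact sup_le le_rfl this
  set U := (N ⊓ A₁) ⊔ (N ⊓ A₂) with hU
  have hUN : U ≤ N := sup_le inf_le_left inf_le_left
  have c1 : ⁅N, A₁⁆ ≤ N ⊓ A₁ :=
    le_inf (commutator_le_left _ _) (commutator_le_right_of_le_normalizer hNA₁)
  have c2 : ⁅N, A₂⁆ ≤ N ⊓ A₂ :=
    le_inf (commutator_le_left _ _) (commutator_le_right_of_le_normalizer hNA₂)
  have hUn : U.Normal := by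
    rw [normal_iff_top_le, ← htop]
    exact sup_le (le_normalizer_of_commutator_le_of_le (c1.trans le_sup_left) hUN)
      (le_normalizer_of_commutator_le_of_le (c2.trans le_sup_right) hUN)
  rcases hN.min U hUn hUN with h | h
  · have hc : (⊤ : Subgroup G) ≤ centralizer (N : Set G) := by
      rw [← htop]
      refine sup_le ?_ ?_ <;> rw [← commutator_eq_bot_iff_le_centralizer', eq_bot_iff, ← h]
      · exact c1.trans le_sup_left
      · exact c2.trans le_sup_right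
    intro u hu
    by_contra huT
    have hcu : ∀ {x}, x ∈ N → ∀ g, x * g = g * x := fun hx g => hc (mem_top g) _ hx
    obtain ⟨K, hK, -, ⟨k, hk⟩, huK⟩ := Cfsg.Agent.Lib.TransferFrobenius.transfer_lemma
      hS.toSylowTop (T := T) (u := u) (by
        change ⁅S, S⁆ ≤ T
        rw [h4, commutator_le]
        intro x hx y hy
        have hn2 : T ≤ normalizer ((N ⊓ S : Subgroup G) : Set G) :=
          le_normalizer_inf (hn _) (le_normalizer_of_le hTS)
        rw [mem_sup_iff_of_le_normalizer hn2] at hx hy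
        obtain ⟨a, ha, n, hn', rfl⟩ := hx
        obtain ⟨b, hb, m, hm, rfl⟩ := hy
        have : ⁅a * n, b * m⁆ = ⁅a, b⁆ := by
          simp only [commutatorElement_def]
          calc a * n * (b * m) * (a * n)⁻¹ * (b * m)⁻¹
              = a * (n * (b * m)) * n⁻¹ * a⁻¹ * (b * m)⁻¹ := by group
            _ = a * b * (m * a⁻¹) * m⁻¹ * b⁻¹ := by rw [hcu hn'.1]; group
            _ = a * b * a⁻¹ * b⁻¹ := by rw [hcu hm.1]; group
        rw [this, commutatorElement_def]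
        exact T.mul_mem (T.mul_mem (T.mul_mem ha hb) (T.inv_mem ha)) (T.inv_mem hb))
      hu.2 huT (fun g k _ => by
        rw [mul_assoc g⁻¹, hcu (N.pow_mem hu.1 k)]
        simp)
    exact huK (Cfsg.Agent.Lib.TransferFrobenius.pResidual_le_of_index hk (hNO hu.1))
  · have hsn : ∀ A : Subgroup G, A.IsSubnormal → IsSylowIn p (S ⊓ (N ⊓ A)) (N ⊓ A) := fun A hA =>
      hS.inf_subnormalIn (subnormalIn_top_iff.mpr (hN.normal.isSubnormal.inf hA))
    have h5 := (hsn A₁ h₁).sup (hsn A₂ h₂)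
      (le_normalizer_inf (hn _) (inf_le_left.trans hNA₂))
      (le_normalizer_inf (le_normalizer_of_le inf_le_left)
        (le_normalizer_inf (hn _) (inf_le_right.trans (inf_le_left.trans hNA₂))))
    rw [← hU, h] at h5
    rw [h5.eq_of_le inf_le_left (hS.isPGroup.to_le inf_le_right)
      (sup_le (le_inf (inf_le_right.trans inf_le_left) inf_le_left)
        (le_inf (inf_le_right.trans inf_le_left) inf_le_left))]
    exact sup_le_sup (le_inf (inf_le_right.trans inf_le_right) inf_le_left)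
      (le_inf (inf_le_right.trans inf_le_right) inf_le_left)

/-- Let G be a finite group, p a prime, S a Sylow p-subgroup of G and A₁, A₂ subnormal subgroups of G. Then the join of S ∩ A₁ and S ∩ A₂ is a Sylow p-subgroup of the join of A₁ and A₂; equivalently ⟨A₁, A₂⟩ ∩ S = ⟨A₁ ∩ S, A₂ ∩ S⟩. -/
theorem result {G : Type*} [Group G] [Finite G] {p : ℕ} [Fact p.Prime] (S : Sylow p G) (A₁ A₂ : Subgroup G)
    (h₁ : A₁.IsSubnormal) (h₂ : A₂.IsSubnormal) :
    (A₁ ⊔ A₂) ⊓ (S : Subgroup G) = (A₁ ⊓ (S : Subgroup G)) ⊔ (A₂ ⊓ (S : Subgroup G)) := by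
  exact le_antisymm (aux G S A₁ A₂ (isSylowIn_top S) h₁ h₂)
    (sup_le (inf_le_inf_right _ le_sup_left) (inf_le_inf_right _ le_sup_right))

end Cfsg.Agent.S3028
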