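import Cfsg.Statements.S2806
import Cfsg.Agent.Lib.PReduced
import Cfsg.Agent.Lib.SubnormalJoin
import Cfsg.Agent.S3028

set_option autoImplicit false
open Cfsg

namespace Cfsg.Agent.S2806

open Subgroup Cfsg.Agent.Lib.PCoreConj Cfsg.Agent.Lib.PCore Cfsg.Agent.Lib.PCoreResidual
  Cfsg.Agent.Lib.PReduced

section

variable {G : Type*} [Group G] [Finite G] {p : ℕ} [Fact p.Prime] {T L H K : Subgroup G}

theorem kieler_local (hG : IsOfLocalCharacteristic p G) (hT : IsSylowIn p T ⊤)
    (hL : SubnormalIn ⊤ L) (hne : T ⊓ L ≠ ⊥) :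
    L ⊓ centralizer (omegaOneCenter p T : Set G) =
      L ⊓ centralizer (omegaOneCenter p (T ⊓ L) : Set G) := by
  induction hL with
  | refl => rw [inf_top_eq]
  | @step L K a b c ih =>
    have hS := hT.inf_subnormalIn c
    have ih' := ih fun h => hne (eq_bot_iff.mpr (h ▸ inf_le_inf_left T a))
    set S := T ⊓ K with hSdef
    have hSL : S ⊓ L = T ⊓ L := by rw [hSdef, inf_assoc, inf_eq_right.mpr a]
    set Z := omegaOneCenter p (T ⊓ L) ⊓ omegaOneCenter p S with hZ
    have hZle : omegaOneCenter p (T ⊓ L) ≤ S := (omegaOneCenter_le p _).trans (hSL ▸ inf_le_left)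
    have hZne : Z ≠ ⊥ := inf_omegaOneCenter_ne_bot hS.isPGroup hZle
      (le_normalizer_omegaOneCenter (hSL ▸ le_normalizer_inf le_normalizer (hS.le.trans b)))
      (omegaOneCenter_ne_bot (hT.isPGroup.to_le inf_le_left) hne)
    have h1 : CharPIn p (normalizer (Z : Set G)) :=
      charPIn_iff.mp (hG.2 Z (hS.isPGroup.to_le (inf_le_left.trans hZle)) hZne)
    have h2 : CharPIn p (K ⊓ normalizer (Z : Set G)) := h1.subnormalIn (c.inf_of_le le_top)
    have h3 : centralizer (omegaOneCenter p S : Set G) ≤ normalizer (Z : Set G) :=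
      le_normalizer_of_le_centralizer (centralizer_anti inf_le_right)
    have h4 : centralizer (omegaOneCenter p (T ⊓ L) : Set G) ≤ normalizer (Z : Set G) :=
      le_normalizer_of_le_centralizer (centralizer_anti inf_le_left)
    have h5 : S ≤ normalizer (Z : Set G) := (le_centralizer_omegaOneCenter p S).trans h3
    have h6 := kieler_normal (L := L ⊓ normalizer (Z : Set G)) h2
      (hS.of_le (le_inf hS.le h5) inf_le_left) (inf_le_inf_right _ a)
      (le_normalizer_inf (inf_le_left.trans b) (le_normalizer_of_le inf_le_right))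
    rw [inf_comm L, ← inf_assoc S, inf_eq_left.mpr h5, hSL, inf_comm _ L, inf_assoc, inf_assoc,
      inf_eq_right.mpr h3, inf_eq_right.mpr h4] at h6
    rw [← h6, ← inf_eq_left.2 a, inf_assoc, inf_assoc, ih']

theorem pointStabilizer_eq (hG : IsOfLocalCharacteristic p G) (hT : IsSylowIn p T ⊤)
    (hL : SubnormalIn ⊤ L) : pointStabilizer p L (T ⊓ L) =
      pElementClosure p (L ⊓ centralizer (omegaOneCenter p T : Set G)) := by
  change pElementClosure p (L ⊓ centralizer (omegaOneCenter p (T ⊓ L) : Set G)) = _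
  by_cases hne : T ⊓ L = ⊥
  · have h1 : pElementClosure p L = ⊥ := eq_bot_iff.mpr
      (pElementClosure_le_of_isSylowIn (hT.inf_subnormalIn hL) hne.le
        (le_top.trans (normalizer_eq_top _).ge))
    have h2 : ∀ X : Subgroup G, pElementClosure p (L ⊓ X) = ⊥ := fun X =>
      eq_bot_iff.mpr ((pElementClosure_mono inf_le_left).trans h1.le)
    rw [h2, h2]
  · rw [kieler_local hG hT hL hne]

theorem pElementClosure_le_of_subnormalIn (hT : IsSylowIn p T H) (hK : SubnormalIn H K)
    (h : T ≤ K) : pElementClosure p H ≤ K := by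
  induction hK with
  | refl => exact pElementClosure_le p _
  | @step L K a b c ih =>
    rw [← pElementClosure_eq_of_le (ih (h.trans a)) c.le]
    exact pElementClosure_le_of_isSylowIn (hT.of_le (h.trans a) c.le) h b

end

/-- Let H be a finite group of local characteristic p, T a Sylow p-subgroup, and L₁, L₂ subnormal subgroups of H generating the subgroup L. Then the point stabilizer of L with respect to T ∩ L is generated by the point stabilizers of L₁ and L₂ with respect to T ∩ L₁ and T ∩ L₂ (point stabilizer of X w.r.t. R: the subgroup generated by the p-elements of X centralizing Ω₁(Z(R))). -/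
theorem result {H : Type*} [Group H] [Finite H] {p : ℕ} [Fact p.Prime] (hH : Cfsg.IsOfLocalCharacteristic p H) (T : Sylow p H) (L₁ L₂ : Subgroup H) (h₁ : L₁.IsSubnormal) (h₂ : L₂.IsSubnormal) : Cfsg.pointStabilizer p (L₁ ⊔ L₂) ((T : Subgroup H) ⊓ (L₁ ⊔ L₂)) = Cfsg.pointStabilizer p L₁ ((T : Subgroup H) ⊓ L₁) ⊔ Cfsg.pointStabilizer p L₂ ((T : Subgroup H) ⊓ L₂) := by
  have hT := isSylowIn_top T
  have h₃ := subnormalIn_top_iff.mpr (Lib.SubnormalJoin.isSubnormal_sup h₁ h₂)
  have h₁' := subnormalIn_top_iff.mpr h₁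
  have h₂' := subnormalIn_top_iff.mpr h₂
  rw [pointStabilizer_eq hH hT h₃, pointStabilizer_eq hH hT h₁', pointStabilizer_eq hH hT h₂']
  set C := centralizer (omegaOneCenter p (T : Subgroup H) : Set H)
  have hTC : (T : Subgroup H) ≤ C := le_centralizer_omegaOneCenter p _
  have key : ∀ L : Subgroup H, SubnormalIn ⊤ L → SubnormalIn C (pElementClosure p (L ⊓ C)) :=
    fun L hL => (SubnormalIn.of_normal (pElementClosure_le p _)
      (le_normalizer_pElementClosure p _)).trans (hL.inf_of_le le_top)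
  have hle : pElementClosure p (L₁ ⊓ C) ⊔ pElementClosure p (L₂ ⊓ C) ≤
      pElementClosure p ((L₁ ⊔ L₂) ⊓ C) :=
    sup_le (pElementClosure_mono (inf_le_inf_right _ le_sup_left))
      (pElementClosure_mono (inf_le_inf_right _ le_sup_right))
  refine le_antisymm (pElementClosure_le_of_subnormalIn (T := (T : Subgroup H) ⊓ (L₁ ⊔ L₂))
    ((hT.inf_subnormalIn h₃).of_le (le_inf inf_le_right (inf_le_left.trans hTC)) inf_le_left)
    ?_ ?_) hle
  · obtain ⟨a₁, b₁⟩ := subnormalIn_iff.mp (key L₁ h₁')
    obtain ⟨a₂, b₂⟩ := subnormalIn_iff.mp (key L₂ h₂')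
    exact (subnormalIn_iff.mpr ⟨sup_le a₁ a₂,
      Lib.SubnormalJoin.isSubnormal_subgroupOf_sup a₁ a₂ b₁ b₂⟩).of_le
        (hle.trans (pElementClosure_le p _)) inf_le_right
  · rw [inf_comm, S3028.result T L₁ L₂ h₁ h₂]
    exact sup_le_sup
      (le_pElementClosure (inf_le_inf_left _ hTC) (hT.isPGroup.to_le inf_le_right))
      (le_pElementClosure (inf_le_inf_left _ hTC) (hT.isPGroup.to_le inf_le_right))

end Cfsg.Agent.S2806
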