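import Cfsg.Statements.S2810
import Cfsg.Agent.Lib.PIrred

set_option autoImplicit false
open Cfsg

namespace Cfsg.Agent.S2810

open Subgroup Cfsg.Agent.Lib.PCoreConj Cfsg.Agent.Lib.PCore Cfsg.Agent.Lib.PCoreResidual Cfsg.Agent.Lib.PCoreMod
open Cfsg.Agent.Lib.PReduced Cfsg.Agent.Lib.PIrred
open scoped Pointwise commutatorElement

/-- Let H be a finite group of characteristic p and L a subgroup of H centralizing every factor of some H-invariant chain 1 = A₀ ≤ A₁ ≤ … ≤ Aₙ = O_p(H) of normal subgroups (that is, [A_{i+1}, L] ≤ Aᵢ for each i). Then L ≤ O_p(H). -/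
theorem result {H : Type*} [Group H] [Finite H] {p : ℕ} [Fact p.Prime] (hchar : Subgroup.centralizer (Cfsg.pCore p H : Set H) ≤ Cfsg.pCore p H) (L : Subgroup H) (n : ℕ) (A : Fin (n + 1) → Subgroup H) (h0 : A 0 = ⊥) (hn : A (Fin.last n) = Cfsg.pCore p H) (hmono : Monotone A) (hnorm : ∀ i, (A i).Normal) (hcent : ∀ i : Fin n, ⁅A i.succ, L⁆ ≤ A i.castSucc) : L ≤ Cfsg.pCore p H := by
  have hN : ∀ i, (⊤ : Subgroup H) ≤ normalizer (A i : Set H) :=
    fun i => normal_iff_top_le.1 (hnorm i)
  have key : ∀ i, pResidualOf p (nclIn L ⊤) ≤ centralizer (A i : Set H) := by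
    intro i
    induction i using Fin.induction with
    | zero => rw [h0, centralizer_bot']; exact le_top
    | succ i ih =>
      refine pResidualOf_le_centralizer_of_le (N := A i.castSucc)
        ((pCore_isPGroup p H).to_le (hn ▸ hmono (Fin.le_last _))) (le_top.trans (hN _)) ?_ ih
      exact (commutator_mono le_rfl (pResidualOf_le p _)).trans
        (commutator_nclIn_le (hN _) (le_top.trans (hN _)) (hN _) (hcent i))
  have h := key (Fin.last n)
  rw [hn] at h
  refine (le_nclIn L ⊤).trans (le_pCore (normal_iff_top_le.2 (le_normalizer_nclIn L ⊤)) ?_)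
  exact isPGroup_of_pResidualOf_le (pCore_isPGroup p H) (h.trans hchar)

end Cfsg.Agent.S2810
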