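import Cfsg.Statements.S2812
import Cfsg.Agent.Lib.FStarAct

set_option autoImplicit false
open Cfsg

namespace Cfsg.Agent.S2812

open Subgroup Cfsg.Agent.Lib.PCoreConj Cfsg.Agent.Lib.PCore Cfsg.Agent.Lib.PCoreResidual
open Cfsg.Agent.Lib.FStarAct

/-- Let H be a subgroup of the finite group G with O_p(H) = 1, Y a p-subgroup of G normalizing H, and L a subgroup of the generalized Fitting subgroup F*(H) that is subnormal in H and normalized by Y. Then L = [L, Y]·C_L(Y) and [L, Y] = [L, Y, Y]. -/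
theorem result {G : Type*} [Group G] [Finite G] {p : ℕ} [Fact p.Prime] (H : Subgroup G) (hO : Cfsg.pCore p ↥H = ⊥) (Y : Subgroup G) (hY : IsPGroup p ↥Y) (hYH : Y ≤ Subgroup.normalizer (H : Set G)) (L : Subgroup G) (hLF : L ≤ (Cfsg.generalizedFittingSubgroup ↥H).map H.subtype) (hLsn : (L.subgroupOf H).IsSubnormal) (hYL : Y ≤ Subgroup.normalizer (L : Set G)) : ⁅L, Y⁆ ⊔ (L ⊓ Subgroup.centralizer (Y : Set G)) = L ∧ ⁅L, Y⁆ = ⁅⁅L, Y⁆, Y⁆ := by
  have hLH : L ≤ H := hLF.trans (map_subtype_le _)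
  have h1 : L.subgroupOf H ≤ generalizedFittingSubgroup H := by
    rw [← map_subtype_subgroupOf (generalizedFittingSubgroup H)]; exact comap_mono hLF
  -- `F*(L) = L`
  have h2 : generalizedFittingSubgroup L = ⊤ := by
    have h3 := le_map_fstar_of_le hLsn h1 le_rfl
    have h4 : generalizedFittingSubgroup (L.subgroupOf H) = ⊤ := by
      rw [eq_top_iff]; intro x _
      obtain ⟨y, hy, e⟩ := h3 x.2
      exact (Subtype.ext e : y = x) ▸ hy
    rw [← Lib.FStar.map_fstar_mulEquiv (subgroupOfEquivOfLe hLH), h4]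
    exact map_top_of_surjective _ (subgroupOfEquivOfLe hLH).surjective
  have hOL : pCoreOf p L = ⊥ := eq_bot_iff.mpr
    ((pCoreOf_le_of_subnormalIn (subnormalIn_iff.mpr ⟨hLH, hLsn⟩)).trans (pCoreOf_eq_bot_iff.mpr hO).le)
  set N := normalizer (L : Set G)
  have hLN : L ≤ N := le_normalizer
  have hn : (L.subgroupOf N).Normal := normal_subgroupOf_of_le le_rfl
  have h3 : L.subgroupOf N ≤ generalizedFittingSubgroup N := by
    refine le_trans ?_ (Lib.FStar.map_fstar_le_of_subnormal hn.isSubnormal)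
    rw [← Lib.FStar.map_fstar_mulEquiv (subgroupOfEquivOfLe hLN).symm, h2,
      map_top_of_surjective _ (subgroupOfEquivOfLe hLN).symm.surjective, ← MonoidHom.range_eq_map,
      range_subtype]
  have h4 : L.subgroupOf N ⊓ pCore p N = ⊥ := by
    rw [inf_comm, ← pCoreOf_eq_inf_of_isSubnormal hn.isSubnormal, pCoreOf_subgroupOf_of_le hLN, hOL,
      bot_subgroupOf]
  have h5 := congrArg (map N.subtype) (commutator_sup_centralizer hn.isSubnormal h3 h4
    (isPGroup_subgroupOf hY N) le_normalizer_of_normal)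
  rw [Subgroup.map_sup, map_commutator, map_inf _ _ _ N.subtype_injective, map_centralizer_subtype,
    subgroupOf_map_subtype_of_le hLN, subgroupOf_map_subtype_of_le hYL, ← inf_assoc,
    inf_of_le_left hLN] at h5
  exact ⟨h5, (commutator_eq_of_sup_centralizer (normalizer_commutator_ge_left L Y) h5).symm⟩

end Cfsg.Agent.S2812
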