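import Cfsg.Statements.S2813
import Cfsg.Agent.Lib.PIrred

set_option autoImplicit false
open Cfsg

namespace Cfsg.Agent.S2813

open Subgroup Cfsg.Agent.Lib.PCoreConj Cfsg.Agent.Lib.PCore Cfsg.Agent.Lib.PCoreResidual Cfsg.Agent.Lib.PCoreMod
open Cfsg.Agent.Lib.PReduced Cfsg.Agent.Lib.PIrred
open scoped Pointwise commutatorElement

/-- Let K be a subgroup of the finite group H with O_p(K) = 1 and Y a p-subgroup of N_H(K) with [K, Y, Y] = 1. Then [K, Y] = 1. -/
theorem result {H : Type*} [Group H] [Finite H] {p : ℕ} [Fact p.Prime] (K : Subgroup H) (hO : Cfsg.pCore p ↥K = ⊥) (Y : Subgroup H) (hY : IsPGroup p ↥Y) (hYK : Y ≤ Subgroup.normalizer (K : Set H)) (hq : ⁅⁅K, Y⁆, Y⁆ = ⊥) : ⁅K, Y⁆ = ⊥ := by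
  have h1 : SubnormalIn (nclIn Y K) Y := by
    refine .of_normal (le_nclIn Y K) ?_
    rw [nclIn_eq_sup_commutator, commutator_comm]
    exact sup_le le_normalizer (le_normalizer_of_le_centralizer
      (le_centralizer_iff.1 (commutator_eq_bot_iff_le_centralizer'.1 hq)))
  have h2 : SubnormalIn (K ⊔ Y) Y := h1.trans (.of_normal
    (nclIn_le le_sup_right (le_sup_left.trans le_normalizer))
    (sup_le (le_normalizer_nclIn Y K) (le_normalizer_of_le (le_nclIn Y K))))
  have h3 := le_pCoreOf_of_subnormalIn h2 hY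
  rw [eq_bot_iff, ← pCoreOf_eq_bot_iff.2 hO]
  refine le_trans (le_inf ?_ (commutator_le_left_of_le_normalizer hYK))
    (pCoreOf_inf_le (le_sup_left : K ≤ K ⊔ Y))
  exact (commutator_mono le_rfl h3).trans (commutator_le_right_of_le_normalizer
    (le_sup_left.trans (le_normalizer_pCoreOf p _)))

end Cfsg.Agent.S2813
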