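import Cfsg.Statements.S2815
import Cfsg.Agent.Lib.FStarAct

set_option autoImplicit false
open Cfsg

namespace Cfsg.Agent.S2815

open Subgroup Cfsg.Agent.Lib.PCoreConj Cfsg.Agent.Lib.PCore Cfsg.Agent.Lib.PCoreResidual
open Cfsg.Agent.Lib.FStarAct Cfsg.Agent.Lib.FStarComp

/-- Let H be a finite group and p a prime dividing its order with O_p(H) = 1, and suppose K = O^p(H) (generated by the elements of order prime to p) is quasisimple. Then K = F*(H); for every nontrivial p-subgroup Y of H, K = [K, Y] and K lies in the subgroup generated by the K-conjugates of Y; every normal subgroup of H not containing K has order prime to p; and H is p-irreducible. -/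
theorem result {H : Type*} [Group H] [Finite H] {p : ℕ} [Fact p.Prime] (hp : p ∣ Nat.card H) (hO : Cfsg.pCore p H = ⊥) (hq : Cfsg.IsQuasisimple ↥(Cfsg.pResidual p H)) : Cfsg.pResidual p H = Cfsg.generalizedFittingSubgroup H ∧ (∀ Y : Subgroup H, IsPGroup p ↥Y → Y ≠ ⊥ → ⁅Cfsg.pResidual p H, Y⁆ = Cfsg.pResidual p H ∧ Cfsg.pResidual p H ≤ ⨆ k : ↥(Cfsg.pResidual p H), Y.map (MulAut.conj (k : H)).toMonoidHom) ∧ (∀ C : Subgroup H, C.Normal → ¬ Cfsg.pResidual p H ≤ C → (Nat.card ↥C).Coprime p) ∧ Cfsg.IsPIrreducible p H := by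
  have hK : IsComponent (pResidual p H) := ⟨(pResidual_normal p H).isSubnormal, hq⟩
  have h1 : pResidual p H = generalizedFittingSubgroup H :=
    le_antisymm ((IsComponent.le_layer hK).trans Lib.FStar.layer_le_fstar) (fstar_le_pResidual hO)
  have h3 : ∀ C : Subgroup H, C.Normal → ¬ pResidual p H ≤ C → (Nat.card ↥C).Coprime p := by
    intro C hC hKC
    have h4 := (IsComponent.le_or_commutator_eq_bot hK hC.isSubnormal).resolve_left hKC
    rw [h1, commutator_eq_bot_iff_le_centralizer] at h4
    exact coprime_of_le_fitting (h4.trans Lib.FStar.centralizer_fstar_le_fitting)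
      (by rw [hO, inf_bot_eq])
  refine ⟨h1, fun Y hY hne => ?_, h3, fun hc => ?_, fun N hN hc => ?_⟩
  · have h2 : ⁅pResidual p H, Y⁆ = pResidual p H := by
      refine le_antisymm (commutator_le_left _ _)
        ((IsComponent.le_commutator_or hK le_rfl).resolve_right fun h => hne ?_)
      rw [eq_bot_iff, ← hO]
      exact le_pCore_of_commutator_fstar hY (h1 ▸ h)
    refine ⟨h2, h2.ge.trans ?_⟩
    rw [commutator_comm]
    exact (commutator_le_nclIn _ _).trans
      (nclIn_le_iff.mpr fun k hk => le_iSup_of_le ⟨k, hk⟩ le_rfl)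
  · obtain ⟨P⟩ : Nonempty (Sylow p H) := inferInstance
    exact P.ne_bot_of_dvd_card hp (eq_bot_iff.mpr (hO ▸ le_pCore (hc P) P.isPGroup'))
  · by_contra h
    exact hc (isPClosed_of_coprime (h3 N hN h))

end Cfsg.Agent.S2815
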