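import Cfsg.Statements.S2816
import Cfsg.Agent.Lib.FStarAct

set_option autoImplicit false
open Cfsg

namespace Cfsg.Agent.S2816

open Subgroup Cfsg.Agent.Lib.PCoreConj Cfsg.Agent.Lib.PCore Cfsg.Agent.Lib.PCoreResidual
open Cfsg.Agent.Lib.FStarAct

/-- Let H be a finite group and p a prime with O_p(H) = 1, and Y a p-subgroup of H. Then for every subnormal subgroup K of H containing Y, [F*(H), Y] = [F*(K), Y] = [F*(K), Y, Y]; and if Y₀ ≤ Y with [F*(H), Y, Y₀] = 1 then Y₀ = 1 (in particular [F*(H), Y] = 1 forces Y = 1). -/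
theorem result {H : Type*} [Group H] [Finite H] {p : ℕ} [Fact p.Prime] (hO : Cfsg.pCore p H = ⊥) (Y : Subgroup H) (hY : IsPGroup p ↥Y) : (∀ K : Subgroup H, K.IsSubnormal → Y ≤ K → ⁅Cfsg.generalizedFittingSubgroup H, Y⁆ = ⁅(Cfsg.generalizedFittingSubgroup ↥K).map K.subtype, Y⁆ ∧ ⁅(Cfsg.generalizedFittingSubgroup ↥K).map K.subtype, Y⁆ = ⁅⁅(Cfsg.generalizedFittingSubgroup ↥K).map K.subtype, Y⁆, Y⁆) ∧ (∀ Y₀ : Subgroup H, Y₀ ≤ Y → ⁅⁅Cfsg.generalizedFittingSubgroup H, Y⁆, Y₀⁆ = ⊥ → Y₀ = ⊥) := by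
  have hn := Lib.FStar.fstar_normal (G := H)
  have h1 := commutator_commutator_eq hn.isSubnormal le_rfl (by rw [hO, inf_bot_eq]) hY
    le_normalizer_of_normal
  have hLF : ⁅generalizedFittingSubgroup H, Y⁆ ≤ generalizedFittingSubgroup H := commutator_le_left _ _
  have hLs : (⁅generalizedFittingSubgroup H, Y⁆).IsSubnormal := subnormalIn_top_iff.mp
    ((SubnormalIn.of_normal hLF (normalizer_commutator_ge_left _ _)).trans
      (subnormalIn_top_iff.mpr hn.isSubnormal))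
  refine ⟨fun K hK hYK => ?_, fun Y₀ hY₀ h => ?_⟩
  · have h2 := le_map_fstar_of_le hLs hLF
      (le_of_commutator_eq h1 (subnormalIn_top_iff.mpr hK) hYK le_top)
    have h3 : ⁅generalizedFittingSubgroup H, Y⁆ =
        ⁅(generalizedFittingSubgroup K).map K.subtype, Y⁆ :=
      le_antisymm (h1.ge.trans (commutator_mono h2 le_rfl))
        (commutator_mono (Lib.FStar.map_fstar_le_of_subnormal hK) le_rfl)
    exact ⟨h3, by rw [← h3, h1]⟩
  · rw [eq_bot_iff, ← hO]
    refine le_pCore_of_commutator_fstar (hY.to_le hY₀) ?_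
    rw [← commutator_sup_centralizer hn.isSubnormal le_rfl (by rw [hO, inf_bot_eq]) hY
      le_normalizer_of_normal]
    exact Lib.FStarComp.commutator_sup_eq_bot h (commutator_eq_bot_iff_le_centralizer.mpr
      (inf_le_right.trans (centralizer_anti hY₀)))

end Cfsg.Agent.S2816
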