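import Cfsg.Statements.S2817
import Cfsg.Agent.Lib.FStarAct

set_option autoImplicit false
open Cfsg

namespace Cfsg.Agent.S2817

open Subgroup Cfsg.Agent.Lib.PCoreConj Cfsg.Agent.Lib.PCore Cfsg.Agent.Lib.PCoreResidual
open Cfsg.Agent.Lib.FStarAct Cfsg.Agent.Lib.FStarComp

/-- Let H be a finite group and p a prime with O_p(H) = 1, Q a p-subgroup of H, L = [F*(H), Q], and F the largest normal subgroup of F*(H) centralized by Q (a normal subgroup of F*(H) centralized by Q and containing every such). Then F = C_{F*(H)}(LQ); L = [L, Q]; L ∩ F ≤ Φ(L); every p-subgroup B of N_H(Q) with [L, B] ≤ F satisfies [L, B] = 1; and C_H(FL) has order prime to p. -/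
theorem result {H : Type*} [Group H] [Finite H] {p : ℕ} [Fact p.Prime] (hO : Cfsg.pCore p H = ⊥) (Q : Subgroup H) (hQ : IsPGroup p ↥Q) (L : Subgroup H) (hL : L = ⁅Cfsg.generalizedFittingSubgroup H, Q⁆) (F : Subgroup H) (hF : F ≤ Cfsg.generalizedFittingSubgroup H ∧ Cfsg.generalizedFittingSubgroup H ≤ Subgroup.normalizer (F : Set H) ∧ Q ≤ Subgroup.centralizer (F : Set H) ∧ ∀ N : Subgroup H, N ≤ Cfsg.generalizedFittingSubgroup H → Cfsg.generalizedFittingSubgroup H ≤ Subgroup.normalizer (N : Set H) → Q ≤ Subgroup.centralizer (N : Set H) → N ≤ F) : F = Cfsg.generalizedFittingSubgroup H ⊓ Subgroup.centralizer ((L ⊔ Q : Subgroup H) : Set H) ∧ ⁅L, Q⁆ = L ∧ L ⊓ F ≤ (frattini ↥L).map L.subtype ∧ (∀ B : Subgroup H, IsPGroup p ↥B → B ≤ Subgroup.normalizer (Q : Set H) → ⁅L, B⁆ ≤ F → ⁅L, B⁆ = ⊥) ∧ (Nat.card ↥(Subgroup.centralizer ((F ⊔ L : Subgroup H) : Set H))).Coprime p := by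
  obtain ⟨hF1, hF2, hF3, hF4⟩ := hF
  have hn := Lib.FStar.fstar_normal (G := H)
  set E := generalizedFittingSubgroup H
  have hO' : ∀ X : Subgroup H, X ⊓ pCore p H = ⊥ := fun X => by rw [hO, inf_bot_eq]
  have hLE : L ≤ E := hL ▸ commutator_le_left _ _
  have hEL : E ≤ normalizer (L : Set H) := hL ▸ normalizer_commutator_ge_left _ _
  have hQL : Q ≤ normalizer (L : Set H) := hL ▸ normalizer_commutator_ge_right _ _
  have hLs : L.IsSubnormal := subnormalIn_top_iff.mp
    ((SubnormalIn.of_normal hLE hEL).trans (subnormalIn_top_iff.mpr hn.isSubnormal))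
  have hLQ : ⁅L, Q⁆ = L :=
    hL ▸ commutator_commutator_eq hn.isSubnormal le_rfl (hO' _) hQ le_normalizer_of_normal
  have hE : L ⊔ (E ⊓ centralizer (Q : Set H)) = E :=
    hL ▸ commutator_sup_centralizer hn.isSubnormal le_rfl (hO' _) hQ le_normalizer_of_normal
  have hQF : ⁅Q, F⁆ = ⊥ := commutator_eq_bot_iff_le_centralizer.mpr hF3
  have hLF : ⁅L, F⁆ = ⊥ := by
    rw [hL]
    refine commutator_commutator_eq_bot_of_rotate (by rw [hQF, commutator_bot_left]) ?_
    exact commutator_eq_bot_mono (commutator_eq_bot_comm.mp hQF)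
      (commutator_le_left_of_le_normalizer hF2) le_rfl
  have h1 : F = E ⊓ centralizer ((L ⊔ Q : Subgroup H) : Set H) := by
    refine le_antisymm (le_inf hF1 (commutator_eq_bot_iff_le_centralizer'.mp
      (commutator_sup_eq_bot hLF hQF))) (hF4 _ inf_le_left ?_ ?_)
    · refine le_normalizer_inf le_normalizer (hE.ge.trans (sup_le ?_ ?_))
      · exact le_normalizer_of_le_centralizer (le_centralizer_iff.mp (centralizer_anti le_sup_left))
      · exact le_normalizer_centralizer (le_normalizer_sup (inf_le_left.trans hEL)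
          (le_normalizer_of_le_centralizer inf_le_right))
    · exact le_centralizer_iff.mp (inf_le_right.trans (centralizer_anti le_sup_right))
  have h2 : L ⊓ F ≤ ⁅L, L⁆ := by
    refine le_trans (inf_le_inf_left _ (le_centralizer_iff.mp hF3))
      (inf_centralizer_le_commutator hQL hLQ (Lib.CoprimeBasic.coprime_of_isPGroup_left hQ ?_))
    have h3 : ⁅L, L⁆ ⊔ (L ⊓ fittingSubgroup H) = L := by
      refine le_antisymm (sup_le L.commutator_le_self inf_le_left) ?_
      refine (eq_sup_of_le_fstar hLs hLE).ge.trans (sup_le_sup_right (sSup_le fun K hK => ?_) _)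
      rw [← IsComponent.perfect hK.1]
      exact commutator_mono hK.2 hK.2
    have h4 := relIndex_sup_of_le_normalizer (H := L ⊓ fittingSubgroup H) (N := ⁅L, L⁆)
      (inf_le_left.trans (normalizer_commutator_ge_left _ _))
    rw [sup_comm, h3] at h4
    rw [h4]
    exact fun hd => (Fact.out : p.Prime).coprime_iff_not_dvd.mp
      (coprime_of_le_fitting inf_le_right (hO' _)).symm (hd.trans (relIndex_dvd_card _ _))
  refine ⟨h1, hLQ, le_trans (le_inf (inf_le_inf_left _
    (commutator_eq_bot_iff_le_centralizer'.mp hLF)) h2) inf_centralizer_inf_commutator_le_frattini,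
    fun B hB hBQ hLB => ?_, ?_⟩
  · have hBL : B ≤ normalizer (L : Set H) :=
      hL ▸ le_normalizer_commutator le_normalizer_of_normal hBQ
    have h3 : ⁅⁅L, B⁆, L⁆ = ⊥ := commutator_eq_bot_mono (commutator_eq_bot_comm.mp hLF) hLB le_rfl
    have h4 : ⁅⁅L, L⁆, B⁆ = ⊥ :=
      commutator_commutator_eq_bot_of_rotate h3 (by rwa [commutator_comm B])
    rw [← commutator_commutator_eq hLs hLE (hO' _) hB hBL]
    exact commutator_eq_bot_mono h4
      ((le_inf (commutator_le_left_of_le_normalizer hBL) hLB).trans h2) le_rfl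
  · obtain ⟨P, hP⟩ := exists_isSylowIn p (centralizer ((F ⊔ L : Subgroup H) : Set H))
    refine ((Fact.out : p.Prime).coprime_iff_not_dvd.mpr (hP.eq_bot_iff.mp ?_)).symm
    have hEU : E ≤ normalizer ((F ⊔ L : Subgroup H) : Set H) := le_normalizer_sup hF2 hEL
    have hUP : ⁅F ⊔ L, P⁆ = ⊥ := commutator_eq_bot_iff_le_centralizer'.mpr hP.le
    have h3 : E ⊓ centralizer ((F ⊔ L : Subgroup H) : Set H) ≤ F ⊔ L := by
      set D := E ⊓ centralizer ((F ⊔ L : Subgroup H) : Set H)
      have hDs : D.IsSubnormal := subnormalIn_top_iff.mp ((SubnormalIn.of_normal inf_le_left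
        (le_normalizer_inf le_normalizer (le_normalizer_centralizer hEU))).trans
        (subnormalIn_top_iff.mpr hn.isSubnormal))
      rw [← commutator_sup_centralizer hDs inf_le_left (hO' _) hQ (le_normalizer_inf
        le_normalizer_of_normal (le_normalizer_centralizer
          (le_normalizer_sup (le_normalizer_of_le_centralizer hF3) hQL)))]
      refine sup_le (le_sup_of_le_right (hL ▸ commutator_mono inf_le_left le_rfl))
        (le_sup_of_le_left ?_)
      rw [h1, Lib.PCoreConj.centralizer_sup]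
      exact le_inf (inf_le_left.trans inf_le_left) (le_inf
        (inf_le_left.trans (inf_le_right.trans (centralizer_anti le_sup_right))) inf_le_right)
    have h4 : ⁅⁅E, P⁆, F ⊔ L⁆ = ⊥ := by
      refine commutator_commutator_eq_bot_of_rotate
        (by rw [commutator_eq_bot_comm.mp hUP, commutator_bot_left]) ?_
      exact commutator_eq_bot_mono hUP (commutator_le_left_of_le_normalizer hEU) le_rfl
    rw [eq_bot_iff, ← hO]
    refine le_pCore_of_commutator_fstar hP.isPGroup ?_
    rw [← commutator_commutator_eq hn.isSubnormal le_rfl (hO' _) hP.isPGroup le_normalizer_of_normal]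
    exact commutator_eq_bot_mono hUP ((le_inf (commutator_le_left _ _)
      (commutator_eq_bot_iff_le_centralizer.mp h4)).trans h3) le_rfl

end Cfsg.Agent.S2817
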