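import Cfsg.Statements.S2818
import Cfsg.Agent.Lib.PIrred

set_option autoImplicit false
open Cfsg

namespace Cfsg.Agent.S2818

open Subgroup Cfsg.Agent.Lib.PCoreConj Cfsg.Agent.Lib.PCore Cfsg.Agent.Lib.PCoreResidual Cfsg.Agent.Lib.PCoreMod
open Cfsg.Agent.Lib.PReduced Cfsg.Agent.Lib.PIrred
open scoped Pointwise commutatorElement

/-- Let P be a finite p-subgroup of a group G and H a subgroup of N_G(P) with [P, H] ≤ Ω₁(Z(P)) (the elements of order dividing p in the centre of P). Then H centralizes the Frattini subgroup of P. -/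
theorem result {G : Type*} [Group G] [Finite G] {p : ℕ} [Fact p.Prime] (P : Subgroup G) (hP : IsPGroup p ↥P) (H : Subgroup G) (hH : H ≤ Subgroup.normalizer (P : Set G)) (h : ⁅P, H⁆ ≤ Cfsg.omegaOne p (P ⊓ Subgroup.centralizer (P : Set G))) : ⁅(frattini ↥P).map P.subtype, H⁆ = ⊥ := by
  rw [omegaOneCenter_def] at h
  rw [commutator_eq_bot_iff_le_centralizer']
  intro g hg
  have key : ∀ x ∈ P, ∃ z ∈ omegaOneCenter p P, g * x * g⁻¹ = x * z := by
    intro x hx
    refine ⟨⁅x⁻¹, g⁆, h (commutator_mem_commutator (inv_mem hx) hg), ?_⟩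
    rw [commutatorElement_def]; group
  have h1 : (frattini ↥P).map P.subtype ≤ centralizer ({g} : Set G) := by
    refine map_frattini_le_of_pow (p := p) ?_ fun x hx => ?_
    · rw [commutator_le]
      intro a ha b hb
      obtain ⟨z, hz, e⟩ := key a ha
      obtain ⟨w, hw, e'⟩ := key b hb
      have hz' := mem_omegaOneCenter_iff.1 hz
      have hw' := mem_omegaOneCenter_iff.1 hw
      rw [mem_centralizer_singleton_iff]
      have e1 : g * ⁅a, b⁆ * g⁻¹ = ⁅a * z, b * w⁆ := by
        rw [← e, ← e']; simp only [commutatorElement_def]; group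
      have c1 : Commute z (b * w) := (hz'.2.1 _ (mul_mem hb hw'.1)).symm
      have c2 : Commute w a⁻¹ := (hw'.2.1 _ (inv_mem ha)).symm
      have e2 : ⁅a * z, b * w⁆ = ⁅a, b⁆ := by
        simp only [commutatorElement_def, mul_inv_rev]
        calc a * z * (b * w) * (z⁻¹ * a⁻¹) * (w⁻¹ * b⁻¹)
            = a * (z * (b * w)) * (z⁻¹ * a⁻¹) * (w⁻¹ * b⁻¹) := by group
          _ = a * b * (w * a⁻¹) * (w⁻¹ * b⁻¹) := by rw [c1.eq]; group
          _ = _ := by rw [c2.eq]; group
      rw [e2, mul_inv_eq_iff_eq_mul] at e1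
      exact e1.symm
    · obtain ⟨z, hz, e⟩ := key x hx
      have hz' := mem_omegaOneCenter_iff.1 hz
      have c1 : Commute x z := hz'.2.1 _ hx
      rw [mem_centralizer_singleton_iff]
      have e1 : g * x ^ p * g⁻¹ = x ^ p := by
        rw [← conj_pow, e, c1.mul_pow, hz'.2.2, mul_one]
      rw [mul_inv_eq_iff_eq_mul] at e1
      exact e1.symm
  intro x hx
  exact mem_centralizer_singleton_iff.1 (h1 hx)

end Cfsg.Agent.S2818
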