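import Cfsg.Statements.S2819
import Cfsg.Agent.Lib.PIrred

set_option autoImplicit false
open Cfsg

namespace Cfsg.Agent.S2819

open Subgroup Cfsg.Agent.Lib.PCoreConj Cfsg.Agent.Lib.PCore Cfsg.Agent.Lib.PCoreResidual Cfsg.Agent.Lib.PCoreMod
open Cfsg.Agent.Lib.PReduced Cfsg.Agent.Lib.PIrred
open scoped Pointwise commutatorElement

/-- Let P be a finite p-subgroup of a group G, H a subgroup of N_G(P), and Y a subgroup of H centralizing the derived subgroup P' such that [P, Y] is elementary abelian. Then O^p(⟨Y^H⟩), the subgroup of the normal closure of Y in H generated by its elements of order prime to p, centralizes the Frattini subgroup of P. -/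
theorem result {G : Type*} [Group G] [Finite G] {p : ℕ} [Fact p.Prime] (P : Subgroup G) (hP : IsPGroup p ↥P) (H : Subgroup G) (hH : H ≤ Subgroup.normalizer (P : Set G)) (Y : Subgroup G) (hYH : Y ≤ H) (hYc : Y ≤ Subgroup.centralizer ((⁅P, P⁆ : Subgroup G) : Set G)) (hel : Cfsg.IsElementaryAbelian p ⁅P, Y⁆) (NY : Subgroup G) (hNY : NY = (Subgroup.normalClosure ((Y.subgroupOf H : Subgroup ↥H) : Set ↥H)).map H.subtype) : (Cfsg.pResidual p ↥NY).map NY.subtype ≤ Subgroup.centralizer (((frattini ↥P).map P.subtype : Subgroup G) : Set G) := by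
  rw [map_normalClosure_subgroupOf hYH] at hNY
  subst hNY
  have hD : H ≤ normalizer ((⁅P, P⁆ : Subgroup G) : Set G) := le_normalizer_commutator hH hH
  have hΦ : (frattini ↥P).map P.subtype ≤ P := map_subtype_le _
  have hHΦ := le_normalizer_map_frattini hH
  have hPD : P ≤ normalizer ((⁅P, P⁆ : Subgroup G) : Set G) :=
    le_normalizer_commutator le_normalizer le_normalizer
  have h1 : ⁅(frattini ↥P).map P.subtype, Y⁆ ≤ ⁅P, P⁆ := by
    rw [commutator_le]
    intro a ha y hy
    let N : Subgroup G :=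
      { carrier := {x | x ∈ P ∧ ⁅x, y⁆ ∈ ⁅P, P⁆}
        one_mem' := ⟨one_mem _, by simp⟩
        mul_mem' := fun {a b} ha hb => ⟨mul_mem ha.1 hb.1, by
          have : ⁅a * b, y⁆ = a * ⁅b, y⁆ * a⁻¹ * ⁅a, y⁆ := by
            simp only [commutatorElement_def]; group
          rw [this]
          exact mul_mem ((hPD ha.1 _).1 hb.2) ha.2⟩
        inv_mem' := fun {a} ha => ⟨inv_mem ha.1, by
          have : ⁅a⁻¹, y⁆ = a⁻¹ * ⁅a, y⁆⁻¹ * a⁻¹⁻¹ := by
            simp only [commutatorElement_def]; group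
          rw [this]
          exact (hPD (inv_mem ha.1) _).1 (inv_mem ha.2)⟩ }
    have hN : (frattini ↥P).map P.subtype ≤ N := by
      refine map_frattini_le_of_pow (p := p) (fun x hx => ⟨commutator_le_left_of_le_normalizer
        le_normalizer hx, ?_⟩) fun x hx => ⟨pow_mem hx _, ?_⟩
      · rw [commutatorElement_eq_one_iff_mul_comm.2 (hYc hy x hx)]
        exact one_mem _
      · have hc : ⁅x, y⁆ ∈ ⁅P, Y⁆ := commutator_mem_commutator hx hy
        have hcP : ⁅x, y⁆ ∈ P := commutator_le_left_of_le_normalizer (hYH.trans hH) hc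
        have key : ∀ n : ℕ, ⁅x ^ n, y⁆ * (⁅x, y⁆ ^ n)⁻¹ ∈ ⁅P, P⁆ := by
          intro n
          induction n with
          | zero => simp
          | succ n ih =>
            have : ⁅x ^ (n + 1), y⁆ * (⁅x, y⁆ ^ (n + 1))⁻¹ =
                (x * (⁅x ^ n, y⁆ * (⁅x, y⁆ ^ n)⁻¹) * x⁻¹) * ⁅x, ⁅x, y⁆ ^ n⁆ := by
              rw [pow_succ' x, pow_succ ⁅x, y⁆]
              generalize ⁅x, y⁆ ^ n = c
              simp only [commutatorElement_def]; group
            rw [this]
            exact mul_mem ((hPD hx _).1 ih) (commutator_mem_commutator hx (pow_mem hcP n))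
        have := key p
        rwa [hel.2 _ hc, inv_one, mul_one] at this
    exact (hN ha).2
  exact pResidualOf_le_centralizer_of_le (N := ⁅P, P⁆) (hP.to_le hΦ)
    (((pResidualOf_le p _).trans (nclIn_le_of_le hYH)).trans hHΦ)
    ((commutator_mono le_rfl (pResidualOf_le p _)).trans
      (commutator_nclIn_le hD (hYH.trans hD) hHΦ h1))
    ((pResidualOf_le p _).trans (nclIn_le_centralizer hD hYc))

end Cfsg.Agent.S2819
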