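import Cfsg.Statements.S2823
import Cfsg.Agent.Lib.PReduced

set_option autoImplicit false
open Cfsg

namespace Cfsg.Agent.S2823

open Subgroup Cfsg.Agent.Lib.PCoreConj Cfsg.Agent.Lib.PCore Cfsg.Agent.Lib.PCoreResidual Cfsg.Agent.Lib.PCoreMod
open Cfsg.Agent.Lib.PReduced
open scoped Pointwise commutatorElement

/-- Let H be a finite group, p a prime, T a Sylow p-subgroup and L a subgroup of characteristic p containing T; let Z_L be the subgroup generated by the Ω₁(Z(S)) over the Sylow p-subgroups S of L and O^p(L) the subgroup generated by the elements of L of order prime to p. Then Z_L = Ω₁(Z(L))·[Z_L, O^p(L)] and [Z_L, L] = [Z_L, O^p(L)]. -/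
theorem result {H : Type*} [Group H] [Finite H] {p : ℕ} [Fact p.Prime] (T : Sylow p H) (L : Subgroup H) (hTL : (T : Subgroup H) ≤ L) (hL : Subgroup.centralizer (Cfsg.pCore p ↥L : Set ↥L) ≤ Cfsg.pCore p ↥L) : Cfsg.sylowCenterClosure p L = (Cfsg.omegaOne p (L ⊓ Subgroup.centralizer ((L : Subgroup H) : Set H))) ⊔ ⁅Cfsg.sylowCenterClosure p L, (Cfsg.pResidual p ↥L).map L.subtype⁆ ∧ ⁅Cfsg.sylowCenterClosure p L, L⁆ = ⁅Cfsg.sylowCenterClosure p L, (Cfsg.pResidual p ↥L).map L.subtype⁆ := by
  have h := sylowCenterClosure_eq_sup (charPIn_iff.1 hL)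
  refine ⟨h, le_antisymm ?_ (commutator_mono le_rfl (pResidualOf_le p L))⟩
  have hn : L ≤ normalizer ((⁅sylowCenterClosure p L, pResidualOf p L⁆ : Subgroup H) : Set H) :=
    le_normalizer_commutator (le_normalizer_sylowCenterClosure p L) (le_normalizer_pResidualOf p L)
  rw [pResidualOf_def, commutator_comm]
  conv_lhs => rw [h]
  refine commutator_sup_le ((omegaOneCenter_le p L).trans hn) le_normalizer ?_
    (commutator_le_right_of_le_normalizer hn)
  rw [commutator_eq_bot_iff_le_centralizer'.2 (omegaOneCenter_le_centralizer p L)]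
  exact bot_le

end Cfsg.Agent.S2823
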