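import Cfsg.Statements.S2824
import Cfsg.Agent.Lib.PReduced

set_option autoImplicit false
open Cfsg

namespace Cfsg.Agent.S2824

open Subgroup Cfsg.Agent.Lib.PCoreConj Cfsg.Agent.Lib.PCore Cfsg.Agent.Lib.PCoreResidual Cfsg.Agent.Lib.PCoreMod
open Cfsg.Agent.Lib.PReduced
open scoped Pointwise commutatorElement

/-- Let H be a finite group, p a prime, T a Sylow p-subgroup, L and M subgroups of characteristic p containing T, Y_L the largest p-reduced normal subgroup of L and T₀ = C_T(Y_L). If M·C_H(Y_L) = L·C_H(Y_L), then L* := N_M(T₀) has Y_{L*} = Y_L and L·C_H(Y_L) = L*·C_H(Y_L). -/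
theorem result {H : Type*} [Group H] [Finite H] {p : ℕ} [Fact p.Prime] (T : Sylow p H) (L M : Subgroup H) (hTL : (T : Subgroup H) ≤ L) (hTM : (T : Subgroup H) ≤ M) (hL : Subgroup.centralizer (Cfsg.pCore p ↥L : Set ↥L) ≤ Cfsg.pCore p ↥L) (hM : Subgroup.centralizer (Cfsg.pCore p ↥M : Set ↥M) ≤ Cfsg.pCore p ↥M) (T₀ : Subgroup H) (hT₀ : T₀ = (T : Subgroup H) ⊓ Subgroup.centralizer (((Cfsg.largestPReducedOf p L) : Subgroup H) : Set H)) (hfac : M ⊔ Subgroup.centralizer (((Cfsg.largestPReducedOf p L) : Subgroup H) : Set H) = L ⊔ Subgroup.centralizer (((Cfsg.largestPReducedOf p L) : Subgroup H) : Set H)) (Ls : Subgroup H) (hLs : Ls = M ⊓ Subgroup.normalizer ((T₀ : Subgroup H) : Set H)) : (Cfsg.largestPReducedOf p Ls) = (Cfsg.largestPReducedOf p L) ∧ L ⊔ Subgroup.centralizer (((Cfsg.largestPReducedOf p L) : Subgroup H) : Set H) = Ls ⊔ Subgroup.centralizer (((Cfsg.largestPReducedOf p L) : Subgroup H) : Set H) := by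
  subst hT₀ hLs
  have hY := isPRed_largest p L
  have hTL' := isSylowIn_of_sylow_le T hTL
  have hTM' := isSylowIn_of_sylow_le T hTM
  have hM' : RedOn p (largestPReducedOf p L) M := hY.red.of_sup_eq hfac
  have hTN := le_inf_normalizer_inf_centralizer (hTM.trans hM'.1) hTM
  have h1 := IsPRed.le_largest ⟨(hY.le_pCoreOf.trans hTL'.pCoreOf_le).trans hTN, hY.elem,
    hM'.inf_normalizer hTM'⟩
  refine ⟨le_antisymm ?_ h1, hfac.symm.trans (inf_normalizer_sup_centralizer hM'.1 hTM').symm⟩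
  refine (isPRed_largest p _).le_omegaOneCenter.trans ?_
  rw [hM'.pCoreOf_inf_normalizer hTM', ← largest_eq_omegaOneCenter (charPIn_iff.1 hL) hTL']

end Cfsg.Agent.S2824
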