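import Cfsg.Statements.S2826
import Cfsg.Agent.Lib.PReduced

set_option autoImplicit false
open Cfsg

namespace Cfsg.Agent.S2826

open Subgroup Cfsg.Agent.Lib.PCoreConj Cfsg.Agent.Lib.PCore Cfsg.Agent.Lib.PCoreResidual Cfsg.Agent.Lib.PCoreMod
open Cfsg.Agent.Lib.PReduced
open scoped Pointwise commutatorElement

/-- Let H be a finite group of characteristic p, T a Sylow p-subgroup, and V a normal elementary abelian p-subgroup of H containing Ω₁(Z(T)). Then C_H(Ω₁(Z(T))) = C_H([V, O^p(H)] ∩ Ω₁(Z(T))), O^p(H) being generated by the elements of order prime to p. -/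
theorem result {H : Type*} [Group H] [Finite H] {p : ℕ} [Fact p.Prime] (hH : Subgroup.centralizer (Cfsg.pCore p H : Set H) ≤ Cfsg.pCore p H) (T : Sylow p H) (V : Subgroup H) [V.Normal] (hV : Cfsg.IsElementaryAbelian p V) (hZV : (Cfsg.omegaOne p ((T : Subgroup H) ⊓ Subgroup.centralizer (((T : Subgroup H) : Subgroup H) : Set H))) ≤ V) : Subgroup.centralizer ((Cfsg.omegaOne p ((T : Subgroup H) ⊓ Subgroup.centralizer (((T : Subgroup H) : Subgroup H) : Set H))) : Set H) = Subgroup.centralizer (((⁅V, Cfsg.pResidual p H⁆ ⊓ (Cfsg.omegaOne p ((T : Subgroup H) ⊓ Subgroup.centralizer (((T : Subgroup H) : Subgroup H) : Set H)))) : Subgroup H) : Set H) := by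
  refine le_antisymm (centralizer_anti inf_le_right) (le_centralizer_iff.1 fun z hz => ?_)
  rw [omegaOneCenter_def] at hZV hz ⊢
  have hVT : V ≤ T := (le_pCore inferInstance (isPGroup_of_isElementaryAbelian hV)).trans
    (pCore_le_sylow T)
  have hzT := omegaOneCenter_le_centralizer p _ hz
  have h := inf_centralizer_le_sup_commutator hV.1 (isPGroup_of_isElementaryAbelian hV)
    (normal_iff_top_le.1 inferInstance) (isSylowIn_top T) ⟨hZV hz, hzT⟩
  rw [pResidualOf_top, mem_sup_iff_of_le_normalizer (le_top.trans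
    (normal_iff_top_le.1 inferInstance))] at h
  obtain ⟨c, hc, w, hw, rfl⟩ := h
  have hwV : w ∈ V := commutator_le_left V _ hw
  refine mul_mem (centralizer_anti le_top hc.2) (le_centralizer_iff.1 le_rfl ⟨hw, ?_⟩)
  refine mem_omegaOneCenter_iff.2 ⟨hVT hwV, ?_, hV.2 w hwV⟩
  have := mul_mem (inv_mem (centralizer_anti (le_top : (T : Subgroup H) ≤ ⊤) hc.2)) hzT
  rwa [inv_mul_cancel_left] at this

end Cfsg.Agent.S2826
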