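import Cfsg.Statements.S2828
import Cfsg.Agent.Lib.PIrred

set_option autoImplicit false
open Cfsg

namespace Cfsg.Agent.S2828

open Subgroup Cfsg.Agent.Lib.PCoreConj Cfsg.Agent.Lib.PCore Cfsg.Agent.Lib.PCoreResidual Cfsg.Agent.Lib.PCoreMod
open Cfsg.Agent.Lib.PReduced Cfsg.Agent.Lib.PIrred
open scoped Pointwise commutatorElement

/-- Let H be a finite group, p a prime and D a normal p-subgroup of H. Then H is p-irreducible if and only if H/D is p-irreducible, and H is strongly p-irreducible if and only if H/D is strongly p-irreducible. -/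
theorem result {H : Type*} [Group H] [Finite H] {p : ℕ} [Fact p.Prime] (D : Subgroup H) [D.Normal] (hD : IsPGroup p ↥D) : (Cfsg.IsPIrreducible p H ↔ Cfsg.IsPIrreducible p (H ⧸ D)) ∧ (Cfsg.IsStronglyPIrreducible p H ↔ Cfsg.IsStronglyPIrreducible p (H ⧸ D)) := by
  have hf : IsPGroup p ↥((⊤ : Subgroup H) ⊓ (QuotientGroup.mk' D).ker) := by
    rwa [top_inf_eq, QuotientGroup.ker_mk']
  have e : (⊤ : Subgroup H).map (QuotientGroup.mk' D) = ⊤ :=
    map_top_of_surjective _ (QuotientGroup.mk'_surjective D)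
  rw [isPIrreducible_iff_top, isPIrreducible_iff_top, isStronglyPIrreducible_iff_top,
    isStronglyPIrreducible_iff_top, ← e]
  exact ⟨(pIrrIn_map_iff _ hf).symm, (sPIrrIn_map_iff _ hf).symm⟩

end Cfsg.Agent.S2828
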