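import Cfsg.Statements.S2832
import Cfsg.Agent.Lib.PIrred

set_option autoImplicit false
open Cfsg

namespace Cfsg.Agent.S2832

open Subgroup Cfsg.Agent.Lib.PCoreConj Cfsg.Agent.Lib.PCore Cfsg.Agent.Lib.PCoreResidual Cfsg.Agent.Lib.PCoreMod
open Cfsg.Agent.Lib.PReduced Cfsg.Agent.Lib.PIrred
open scoped Pointwise commutatorElement

/-- Let H be a finite group with Sylow p-subgroup T such that H is T-minimal (generated by the conjugates of T, with T in exactly one maximal subgroup), and let N be a normal subgroup of H. Then either H/N is a p-group or H/N is minimal over the image of T in the same sense. -/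
theorem result {H : Type*} [Group H] [Finite H] {p : ℕ} [Fact p.Prime] (T : Sylow p H) (hmin : Cfsg.IsMinimalOver (T : Subgroup H)) (N : Subgroup H) [N.Normal] : IsPGroup p (H ⧸ N) ∨ Cfsg.IsMinimalOver ((T : Subgroup H).map (QuotientGroup.mk' N)) := by
  obtain ⟨M, h⟩ := isMinimalOver_iff.1 hmin
  by_cases hN : N ≤ M
  · right
    have := h.map_of_ker (QuotientGroup.mk' N) (by rwa [top_inf_eq, QuotientGroup.ker_mk'])
    rw [map_top_of_surjective _ (QuotientGroup.mk'_surjective N)] at this
    exact isMinimalOver_iff.2 ⟨_, this⟩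
  · left
    have e := h.eq_of_not_le (K := N ⊔ T) le_sup_right le_top fun hc => hN (le_sup_left.trans hc)
    rw [isPGroup_quotient_iff_pResidual_le, ← pResidualOf_top, ← e]
    exact pResidualOf_sup_le T.isPGroup' (le_top.trans (normal_iff_top_le.1 inferInstance))

end Cfsg.Agent.S2832
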