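import Cfsg.Statements.S2833
import Cfsg.Agent.Lib.PIrred

set_option autoImplicit false
open Cfsg

namespace Cfsg.Agent.S2833

open Subgroup Cfsg.Agent.Lib.PCoreConj Cfsg.Agent.Lib.PCore Cfsg.Agent.Lib.PCoreResidual Cfsg.Agent.Lib.PCoreMod
open Cfsg.Agent.Lib.PReduced Cfsg.Agent.Lib.PIrred
open scoped Pointwise commutatorElement

/-- Let V be a subgroup of a finite group G normalized by the subgroup L, let X ≤ L and g ∈ L with [V, X, X] = 1 and L generated by X and gXg⁻¹. Put W = [V, L]. Then W = [V, X]·[V, gXg⁻¹], C_W(X) = [V, X], and C_W(L) = [V, X] ∩ [V, gXg⁻¹]. -/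
theorem result {G : Type*} [Group G] [Finite G] (V L : Subgroup G) (hLV : L ≤ Subgroup.normalizer (V : Set G)) (X : Subgroup G) (hX : X ≤ L) (g : G) (hg : g ∈ L) (hq : ⁅⁅V, X⁆, X⁆ = ⊥) (hgen : X ⊔ X.map (MulAut.conj g).toMonoidHom = L) (W : Subgroup G) (hW : W = ⁅V, L⁆) : ⁅V, X⁆ ⊔ ⁅V, X.map (MulAut.conj g).toMonoidHom⁆ = W ∧ W ⊓ Subgroup.centralizer (X : Set G) = ⁅V, X⁆ ∧ W ⊓ Subgroup.centralizer (L : Set G) = ⁅V, X⁆ ⊓ ⁅V, X.map (MulAut.conj g).toMonoidHom⁆ := by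
  have hXg : X ^ᶜ g ≤ L := conj_le_of_mem hX hg
  have hA : ⁅V, X⁆ ≤ V := commutator_le_left_of_le_normalizer (hX.trans hLV)
  have hB : ⁅V, X ^ᶜ g⁆ ≤ V := commutator_le_left_of_le_normalizer (hXg.trans hLV)
  have hBA : ⁅V, X ^ᶜ g⁆ = ⁅V, X⁆ ^ᶜ g := by
    rw [conj_commutator, conj_eq_of_mem_normalizer (hLV hg)]
  have hAC : ⁅V, X⁆ ≤ centralizer (X : Set G) :=
    le_centralizer_iff.1 (commutator_eq_bot_iff_le_centralizer'.1 hq)
  have hBC : ⁅V, X ^ᶜ g⁆ ≤ centralizer ((X ^ᶜ g : Subgroup G) : Set G) := by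
    rw [hBA, ← conj_centralizer]; exact conj_mono g hAC
  have hCL : centralizer (L : Set G) =
      centralizer (X : Set G) ⊓ centralizer ((X ^ᶜ g : Subgroup G) : Set G) := by
    rw [← centralizer_sup, hgen]
  have h1 : ⁅V, X⁆ ⊔ ⁅V, X ^ᶜ g⁆ = W := by
    rw [hW]
    refine le_antisymm (sup_le (commutator_mono le_rfl hX) (commutator_mono le_rfl hXg)) ?_
    rw [← hgen]
    exact commutator_sup_le (le_normalizer_of_commutator_le_of_le le_sup_left (sup_le hA hB))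
      (le_normalizer_of_commutator_le_of_le le_sup_right (sup_le hA hB)) le_sup_left le_sup_right
  have h2 : W ⊓ centralizer (X : Set G) = ⁅V, X⁆ := by
    refine le_antisymm ?_ (le_inf (le_sup_left.trans h1.le) hAC)
    rw [← h1, sup_inf_of_le_normalizer (hA.trans (normalizer_commutator_ge_left _ _)) hAC]
    refine sup_le le_rfl fun b hb => ?_
    have hbL : b ∈ centralizer (L : Set G) := hCL ▸ ⟨hb.2, hBC hb.1⟩
    have hb1 := (mem_inf.1 hb).1
    rw [hBA, mem_conj_iff, mul_assoc, ← hbL g hg, inv_mul_cancel_left] at hb1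
    exact hb1
  refine ⟨h1, h2, ?_⟩
  have h3 : W ⊓ centralizer ((X ^ᶜ g : Subgroup G) : Set G) = ⁅V, X ^ᶜ g⁆ := by
    have hWg : W ^ᶜ g = W := by
      rw [hW, conj_commutator, conj_eq_of_mem_normalizer (hLV hg), conj_eq_of_mem hg]
    rw [hBA, ← h2, conj_inf, hWg, conj_centralizer]
  rw [hCL, inf_inf_distrib_left, h2, h3]

end Cfsg.Agent.S2833
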