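import Cfsg.Statements.S2836
import Cfsg.Agent.Lib.PIrred

set_option autoImplicit false
open Cfsg

namespace Cfsg.Agent.S2836

open Subgroup Cfsg.Agent.Lib.PCoreConj Cfsg.Agent.Lib.PCore Cfsg.Agent.Lib.PCoreResidual Cfsg.Agent.Lib.PCoreMod
open Cfsg.Agent.Lib.PReduced Cfsg.Agent.Lib.PIrred
open scoped Pointwise commutatorElement

/-- Let L be a finite group, L₀ a maximal subgroup, T a Sylow p-subgroup of L₀, Y ≤ T, and suppose L is Y-minimal. Let D be the intersection of the conjugates of L₀ (the core of L₀). Then D contains O_p(L) and D/O_p(L) is the Frattini subgroup of L/O_p(L), so D is p-closed; and every normal subgroup N of L contained in L₀ is p-closed with N/O_p(N) a nilpotent group of order prime to p. -/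
theorem result {L : Type*} [Group L] [Finite L] {p : ℕ} [Fact p.Prime] (L₀ : Subgroup L) (hL₀ : IsCoatom L₀) (T : Sylow p ↥L₀) (Y : Subgroup L) (hYT : Y ≤ (T : Subgroup ↥L₀).map L₀.subtype) (hmin : Cfsg.IsMinimalOver Y) : (Cfsg.pCore p L ≤ L₀.normalCore ∧ (L₀.normalCore).map (QuotientGroup.mk' (Cfsg.pCore p L)) = frattini (L ⧸ Cfsg.pCore p L) ∧ Cfsg.IsPClosed p ↥(L₀.normalCore)) ∧ ∀ (N : Subgroup L) [N.Normal], N ≤ L₀ → Cfsg.IsPClosed p ↥N ∧ Group.IsNilpotent (↥N ⧸ Cfsg.pCore p ↥N) ∧ (Nat.card (↥N ⧸ Cfsg.pCore p ↥N)).Coprime p := by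
  have hT := isSylowIn_map_subtype T
  have h := minOver_of_isCoatom hmin hL₀ (hYT.trans hT.le)
  have hYp := hT.isPGroup.to_le hYT
  have hO : pCore p L ≤ L₀ := by rw [← pCoreOf_top]; exact h.pCoreOf_le hYp
  have hcl : ∀ (N : Subgroup L) [N.Normal], N ≤ L₀ → IsPClosed p N := fun N _ hN =>
    h.isPClosed hYp hN (normal_iff_top_le.1 inferInstance)
  have hker : ∀ (N : Subgroup L) [N.Normal], pCore p N =
      ((QuotientGroup.mk' (pCore p L)).comp N.subtype).ker := by
    intro N _
    rw [← MonoidHom.comap_ker, QuotientGroup.ker_mk', ← pCoreOf_subgroupOf,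
      pCoreOf_eq_inf_of_isSubnormal (Normal.isSubnormal inferInstance), inf_subgroupOf_right]
    rfl
  have hequiv : ∀ (N : Subgroup L) [N.Normal], Nonempty ((↥N ⧸ pCore p ↥N) ≃*
      N.map (QuotientGroup.mk' (pCore p L))) := by
    intro N _
    refine ⟨(QuotientGroup.quotientMulEquivOfEq (hker N)).trans
      ((QuotientGroup.quotientKerEquivRange _).trans (MulEquiv.subgroupCongr ?_))⟩
    rw [MonoidHom.range_comp, range_subtype]
  have hcop : ∀ (N : Subgroup L) [N.Normal], N ≤ L₀ →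
      (Nat.card (↥N ⧸ pCore p ↥N)).Coprime p := by
    intro N _ hN
    have := isPClosed_iff_coprime_relIndex.1 (hcl N hN)
    rw [relIndex, pCoreOf_subgroupOf] at this
    exact ((Fact.out : p.Prime).coprime_iff_not_dvd.2 this).symm
  have hΦ : ∀ (N : Subgroup L) [N.Normal], N ≤ L₀ →
      N.map (QuotientGroup.mk' (pCore p L)) ≤ frattini (L ⧸ pCore p L) := by
    intro N _ hN
    refine Lib.FrattiniFacts.le_frattini_iff.2 fun K hK => map_le_iff_le_comap.2 ?_
    set K' := K.comap (QuotientGroup.mk' (pCore p L)) with hK'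
    have hK'c : IsCoatom K' := Lib.FrattiniFacts.isCoatom_comap_mk hK
    have hOK : pCore p L ≤ K' := Lib.SolvBasic.le_comap_mk _ _
    by_contra hNK
    have e : K' ⊔ N = ⊤ := hK'c.2 _ (lt_of_le_of_ne le_sup_left fun e =>
      hNK (le_sup_right.trans e.ge))
    obtain ⟨P, hP⟩ := exists_isSylowIn p K'
    have hS := hP.sup (isPClosed_iff_isSylowIn_pCoreOf.1 (hcl N hN))
      (le_top.trans (normal_iff_top_le.1 inferInstance))
      (le_top.trans (normal_iff_top_le.1 (pCoreOf_normal p N)))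
    rw [e] at hS
    obtain ⟨g, -, hg⟩ := hS.exists_le_conj le_top hYp
    have h1 := h.max (K' ^ᶜ g) (hg.trans (conj_mono g (sup_le hP.le
      ((pCoreOf_le_pCore N).trans hOK)))) (isCoatom_conj hK'c g).lt_top
    have h2 : L₀ = K' ^ᶜ g := ((isCoatom_conj hK'c g).le_iff_eq hL₀.1).1 h1
    rw [h2, le_conj_iff_conj_inv_le, conj_eq_of_normal] at hN
    exact hNK hN
  refine ⟨⟨normal_le_normalCore.2 hO, le_antisymm (hΦ _ (normalCore_le _)) ?_,
    hcl _ (normalCore_le _)⟩, fun N _ hN => ⟨hcl N hN, ?_, hcop N hN⟩⟩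
  · rw [← map_comap_eq_self_of_surjective (QuotientGroup.mk'_surjective (pCore p L))
      (frattini (L ⧸ pCore p L))]
    refine map_mono (normal_le_normalCore.2 ?_)
    have h1 := (h.map_of_ker (QuotientGroup.mk' (pCore p L))
      (by rwa [top_inf_eq, QuotientGroup.ker_mk']))
    rw [map_top_of_surjective _ (QuotientGroup.mk'_surjective _)] at h1
    refine (comap_mono (frattini_le_coatom h1.isCoatom)).trans ?_
    rw [Lib.SolvBasic.comap_map_mk]
    exact sup_le le_rfl hO
  · obtain ⟨e⟩ := hequiv N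
    have h1 : Group.IsNilpotent (frattini (L ⧸ pCore p L)) := frattini_nilpotent
    have h2 : Group.IsNilpotent (N.map (QuotientGroup.mk' (pCore p L))) :=
      Group.nilpotent_of_mulEquiv (subgroupOfEquivOfLe (hΦ N hN))
    exact Group.nilpotent_of_mulEquiv e.symm

end Cfsg.Agent.S2836
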