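import Cfsg.Statements.S2837
import Cfsg.Agent.Lib.PIrred

set_option autoImplicit false
open Cfsg

namespace Cfsg.Agent.S2837

open Subgroup Cfsg.Agent.Lib.PCoreConj Cfsg.Agent.Lib.PCore Cfsg.Agent.Lib.PCoreResidual Cfsg.Agent.Lib.PCoreMod
open Cfsg.Agent.Lib.PReduced Cfsg.Agent.Lib.PIrred
open scoped Pointwise commutatorElement

/-- Let L be a finite group of characteristic p, L₀ a maximal subgroup, Y an elementary abelian p-subgroup of L₀ with L Y-minimal and O_p(L) ≤ N_L(Y). Put A = the normal closure of O_p(L) ∩ Y in L. Then for every g ∈ L outside L₀: Φ(A) = A' = [A ∩ Y, A] = [A ∩ Y, A ∩ gYg⁻¹] ≤ C_Y(L), and Y ∩ gYg⁻¹ = (A ∩ Y) ∩ (A ∩ gYg⁻¹) = C_Y(L) = C_A(L). -/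
theorem result {L : Type*} [Group L] [Finite L] {p : ℕ} [Fact p.Prime] (hchar : Subgroup.centralizer (Cfsg.pCore p L : Set L) ≤ Cfsg.pCore p L) (L₀ : Subgroup L) (hL₀ : IsCoatom L₀) (Y : Subgroup L) (hYL₀ : Y ≤ L₀) (hYel : Cfsg.IsElementaryAbelian p Y) (hmin : Cfsg.IsMinimalOver Y) (hOY : Cfsg.pCore p L ≤ Subgroup.normalizer (Y : Set L)) (A : Subgroup L) (hA : A = Subgroup.normalClosure (((Cfsg.pCore p L ⊓ Y : Subgroup L)) : Set L)) (g : L) (hg : g ∉ L₀) : (frattini ↥A).map A.subtype = ⁅A, A⁆ ∧ ⁅A, A⁆ = ⁅A ⊓ Y, A⁆ ∧ ⁅A ⊓ Y, A⁆ = ⁅A ⊓ Y, A ⊓ Y.map (MulAut.conj g).toMonoidHom⁆ ∧ ⁅A ⊓ Y, A⁆ ≤ Y ⊓ Subgroup.center L ∧ Y ⊓ Y.map (MulAut.conj g).toMonoidHom = Y ⊓ Subgroup.center L ∧ (A ⊓ Y) ⊓ (A ⊓ Y.map (MulAut.conj g).toMonoidHom) = Y ⊓ Subgroup.center L ∧ A ⊓ Subgroup.center L = Y ⊓ Subgroup.center L := by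
  have h := minOver_of_isCoatom hmin hL₀ hYL₀
  have hgen : Y ⊔ Y ^ᶜ g = ⊤ := h.sup_conj (mem_top g) hg
  have hYc : Y ≤ centralizer (Y : Set L) := le_centralizer_of_isElementaryAbelian hYel
  have hYgc : Y ^ᶜ g ≤ centralizer ((Y ^ᶜ g : Subgroup L) : Set L) := by
    rw [← conj_centralizer]; exact conj_mono g hYc
  have hZ : center L = centralizer (Y : Set L) ⊓ centralizer ((Y ^ᶜ g : Subgroup L) : Set L) := by
    rw [← centralizer_sup, hgen, coe_top, centralizer_univ]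
  have hcg : ∀ (U : Subgroup L) (z : L), z ∈ center L → (z ∈ U ^ᶜ g ↔ z ∈ U) := by
    intro U z hz
    rw [mem_conj_iff, mul_assoc, ← mem_center_iff.1 hz g, inv_mul_cancel_left]
  have h5 : Y ⊓ Y ^ᶜ g = Y ⊓ center L := le_antisymm
    (le_inf inf_le_left (hZ ▸ inf_le_inf hYc hYgc))
    (le_inf inf_le_left fun y hy => (hcg Y y hy.2).2 hy.1)
  set O := pCore p L with hO
  have hOn : (⊤ : Subgroup L) ≤ normalizer (O : Set L) := normal_iff_top_le.1 inferInstance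
  have hOYg : O ≤ normalizer ((Y ^ᶜ g : Subgroup L) : Set L) := by
    have := le_normalizer_conj hOY g
    rwa [conj_eq_of_normal] at this
  have hBg : (O ⊓ Y) ^ᶜ g = O ⊓ Y ^ᶜ g := by rw [conj_inf, conj_eq_of_normal]
  have c1 : ⁅O, Y⁆ ≤ O ⊓ Y := le_inf (commutator_le_left _ _)
    (commutator_le_right_of_le_normalizer hOY)
  have c2 : ⁅O, Y ^ᶜ g⁆ ≤ O ⊓ Y ^ᶜ g := le_inf (commutator_le_left _ _)
    (commutator_le_right_of_le_normalizer hOYg)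
  have hBO : (O ⊓ Y) ⊔ (O ⊓ Y ^ᶜ g) ≤ O := sup_le inf_le_left inf_le_left
  have hA' : A = (O ⊓ Y) ⊔ (O ⊓ Y ^ᶜ g) := by
    rw [hA, ← nclIn_top]
    refine le_antisymm (nclIn_le le_sup_left ?_)
      (sup_le (le_nclIn _ _) (hBg ▸ conj_le_nclIn _ (mem_top g)))
    rw [← hgen]
    exact sup_le (le_normalizer_of_commutator_le_of_le (c1.trans le_sup_left) hBO)
      (le_normalizer_of_commutator_le_of_le (c2.trans le_sup_right) hBO)
  have hAO : A ≤ O := hA' ▸ hBO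
  have e1 : A ⊓ Y = O ⊓ Y := le_antisymm (inf_le_inf_right _ hAO)
    (le_inf (hA' ▸ le_sup_left) inf_le_right)
  have e2 : A ⊓ Y ^ᶜ g = O ⊓ Y ^ᶜ g := le_antisymm (inf_le_inf_right _ hAO)
    (le_inf (hA' ▸ le_sup_right) inf_le_right)
  have c3 : ⁅O ⊓ Y, O ⊓ Y ^ᶜ g⁆ ≤ Y ⊓ center L := by
    rw [← h5]
    refine le_inf ?_ ((commutator_mono inf_le_left inf_le_right).trans (c2.trans inf_le_right))
    rw [commutator_comm]
    exact (commutator_mono inf_le_left inf_le_right).trans (c1.trans inf_le_right)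
  have hn : ∀ U : Subgroup L, U ≤
      normalizer ((⁅O ⊓ Y, O ⊓ Y ^ᶜ g⁆ : Subgroup L) : Set L) := fun U =>
    le_normalizer_of_le_centralizer (le_centralizer_iff.1 ((c3.trans inf_le_right).trans
      (center_le_centralizer _)))
  have c4 : ⁅O ⊓ Y, O ⊓ Y⁆ = ⊥ := commutator_eq_bot_iff_le_centralizer'.2
    (inf_le_right.trans (hYc.trans (centralizer_anti inf_le_right)))
  have c5 : ⁅O ⊓ Y ^ᶜ g, O ⊓ Y ^ᶜ g⁆ = ⊥ := commutator_eq_bot_iff_le_centralizer'.2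
    (inf_le_right.trans (hYgc.trans (centralizer_anti inf_le_right)))
  have c6 : ⁅O ⊓ Y, A⁆ ≤ ⁅O ⊓ Y, O ⊓ Y ^ᶜ g⁆ := by
    rw [hA']
    exact commutator_sup_le (hn _) (hn _) (c4.le.trans bot_le) le_rfl
  have c7 : ⁅O ⊓ Y ^ᶜ g, A⁆ ≤ ⁅O ⊓ Y, O ⊓ Y ^ᶜ g⁆ := by
    rw [hA']
    exact commutator_sup_le (hn _) (hn _) (commutator_comm _ _).le (c5.le.trans bot_le)
  have c8 : ⁅A, A⁆ ≤ ⁅O ⊓ Y, O ⊓ Y ^ᶜ g⁆ := by
    nth_rw 2 [hA']
    exact commutator_sup_le (hn _) (hn _) ((commutator_comm _ _).le.trans c6)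
      ((commutator_comm _ _).le.trans c7)
  have c9 : ⁅O ⊓ Y, O ⊓ Y ^ᶜ g⁆ ≤ ⁅O ⊓ Y, A⁆ := commutator_mono le_rfl (e2.ge.trans inf_le_left)
  have hYZ : Y ⊓ center L ≤ O :=
    (inf_le_right.trans (center_le_centralizer _)).trans hchar
  rw [e1, e2]
  refine ⟨le_antisymm (map_frattini_le_of_pow (p := p) le_rfl fun x hx => ?_)
    (commutator_le_map_frattini ((pCore_isPGroup p L).to_le hAO)),
    le_antisymm (c8.trans c9) (commutator_mono (e1.ge.trans inf_le_left) le_rfl),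
    le_antisymm c6 c9, c6.trans c3, h5, ?_, le_antisymm (le_inf ?_ inf_le_right) ?_⟩
  · rw [hA'] at hx ⊢
    refine pow_mem_of_mem_sup le_rfl (commutator_le_left_of_le_normalizer le_normalizer)
      (fun y hy => ?_) (fun y hy => ?_) hx
    · rw [hYel.2 y hy.2]; exact one_mem _
    · rw [(isElementaryAbelian_map hYel _).2 y hy.2]; exact one_mem _
  · rw [← inf_inf_distrib_left, h5]
    exact inf_eq_right.2 hYZ
  · intro a ha
    have ha1 := (mem_inf.1 ha).1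
    rw [hA', mem_sup_iff_of_le_normalizer (inf_le_left.trans
      (le_normalizer_inf le_normalizer hOYg))] at ha1
    obtain ⟨b, hb, c, hc, rfl⟩ := ha1
    have hcZ : c ∈ center L := by
      rw [hZ]
      refine ⟨?_, hYgc hc.2⟩
      have := mul_mem (inv_mem (hYc hb.2)) (center_le_centralizer (Y : Set L) ha.2)
      rwa [inv_mul_cancel_left] at this
    exact mul_mem hb.2 ((hcg Y c hcZ).1 hc.2)
  · exact le_inf ((le_inf hYZ inf_le_left).trans (e1.ge.trans inf_le_left)) inf_le_right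

end Cfsg.Agent.S2837
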