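import Cfsg.Statements.S2841
import Cfsg.Agent.Lib.Large

set_option autoImplicit false
open Cfsg

namespace Cfsg.Agent.S2841

open Subgroup Cfsg.Agent.Lib.PCoreConj Cfsg.Agent.Lib.PCore Cfsg.Agent.Lib.PCoreResidual Cfsg.Agent.Lib.PCoreMod
open Cfsg.Agent.Lib.PReduced Cfsg.Agent.Lib.PIrred Cfsg.Agent.Lib.Large
open scoped Pointwise commutatorElement

/-- Let Q be a nontrivial p-subgroup of the finite group H that is a weakly closed subgroup and N a normal subgroup of H. Then N = N_N(Q)·[N, Q] and [N, Q] = (Q ∩ [N, Q])·[N, Q, Q]. -/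
theorem result {H : Type*} [Group H] [Finite H] {p : ℕ} [Fact p.Prime] (Q : Subgroup H) (hQp : IsPGroup p ↥Q) (hQ1 : Q ≠ ⊥) (hwc : Cfsg.IsWeaklyClosedSubgroup p Q) (N' : Subgroup H) [N'.Normal] : (∀ n : H, n ∈ N' → ∃ a ∈ N' ⊓ Subgroup.normalizer ((Q : Subgroup H) : Set H), ∃ b ∈ ⁅N', Q⁆, n = a * b) ∧ (∀ c : H, c ∈ ⁅N', Q⁆ → ∃ a ∈ Q ⊓ ⁅N', Q⁆, ∃ b ∈ ⁅⁅N', Q⁆, Q⁆, c = a * b) := by
  rw [isWeaklyClosedSubgroup_iff] at hwc
  have hQN : Q ≤ normalizer (N' : Set H) := le_top.trans (normal_iff_top_le.1 inferInstance)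
  refine ⟨fun n hn => ?_, fun c hc => ?_⟩
  · obtain ⟨c, hc, a, ha, e⟩ := hwc.exists_commutator_mul le_top hQN (inv_mem hn)
    exact ⟨a⁻¹, inv_mem ha, c⁻¹, inv_mem hc, by rw [← mul_inv_rev, ← e, inv_inv]⟩
  · have h1 : nclIn Q N' ≤ nclIn Q ⁅N', Q⁆ := nclIn_le_iff.2 fun n hn => by
      obtain ⟨c, hc, a, ha, rfl⟩ := hwc.exists_commutator_mul le_top hQN hn
      rw [← conj_conj, conj_eq_of_mem_normalizer ha.2]
      exact conj_le_nclIn Q hc
    rw [nclIn_eq_sup_commutator, nclIn_eq_sup_commutator, commutator_comm Q N',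
      commutator_comm Q] at h1
    obtain ⟨a, ha, b, hb, e⟩ := (mem_sup_iff_of_le_normalizer
      (normalizer_commutator_ge_right _ Q)).1 (h1 (mem_sup_right hc))
    refine ⟨a, ⟨ha, ?_⟩, b, hb, e.symm⟩
    have := mul_mem hc (inv_mem (commutator_le_left_of_le_normalizer
      (normalizer_commutator_ge_right N' Q) hb))
    rwa [← e, mul_inv_cancel_right] at this

end Cfsg.Agent.S2841
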