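import Cfsg.Statements.S2843
import Cfsg.Agent.Lib.Large

set_option autoImplicit false
open Cfsg

namespace Cfsg.Agent.S2843

open Subgroup Cfsg.Agent.Lib.PCoreConj Cfsg.Agent.Lib.PCore Cfsg.Agent.Lib.PCoreResidual Cfsg.Agent.Lib.PCoreMod
open Cfsg.Agent.Lib.PReduced Cfsg.Agent.Lib.PIrred Cfsg.Agent.Lib.Large
open scoped Pointwise commutatorElement

/-- Let Q be a nontrivial large p-subgroup of the finite group H, Q ≤ L ≤ H, and Y a nontrivial p-subgroup of H normalized by L. Let L° be the weak closure of Q in L (generated by the conjugates of Q inside L). Then L° equals the weak closure of Q in L·C_H(Y), and [L°, C_H(Y)] ≤ O_p(L°); in particular C_H(Y) normalizes L°. -/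
theorem result {H : Type*} [Group H] [Finite H] {p : ℕ} [Fact p.Prime] (Q : Subgroup H) (hQp : IsPGroup p ↥Q) (hQ1 : Q ≠ ⊥) (hL : Cfsg.IsLarge Q) (L : Subgroup H) (hQL : Q ≤ L) (Y : Subgroup H) (hYp : IsPGroup p ↥Y) (hY1 : Y ≠ ⊥) (hLY : L ≤ Subgroup.normalizer ((Y : Subgroup H) : Set H)) : Cfsg.weakClosure Q L = Cfsg.weakClosure Q (L ⊔ Subgroup.centralizer ((Y : Subgroup H) : Set H)) ∧ ⁅Cfsg.weakClosure Q L, Subgroup.centralizer ((Y : Subgroup H) : Set H)⁆ ≤ (Cfsg.pCoreOf p (Cfsg.weakClosure Q L)) ∧ Subgroup.centralizer ((Y : Subgroup H) : Set H) ≤ Subgroup.normalizer (((Cfsg.weakClosure Q L) : Subgroup H) : Set H) := by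
  have hwc := wcIn_of_isLarge hL hQp hQ1
  rw [hwc.weakClosure_eq hQL, hwc.weakClosure_eq (hQL.trans le_sup_left)]
  have h1 := centralizer_le_normalizer_nclIn hL hQp hQL hYp hY1 hLY
  refine ⟨(nclIn_sup_centralizer hL hQp hQL hYp hY1 hLY).symm, ?_, h1⟩
  have hLC := le_normalizer_centralizer hLY
  have hLO : L ≤ normalizer (pCoreOf p (nclIn Q L) : Set H) :=
    le_normalizer_pCoreOf_of (le_normalizer_nclIn Q L)
  rw [commutator_comm]
  refine commutator_nclIn_le hLO (hQL.trans hLO) hLC ?_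
  have h2 := centralizer_le_normalizer_of_isLarge hL hQp hYp hY1 (hQL.trans hLY)
  refine le_trans (le_inf ?_ ?_) (inf_le_pCoreOf ((nclIn_le_of_le hQL).trans
    (le_normalizer_pCoreOf_of hLC)) (pCoreOf_isPGroup p _))
  · exact (le_inf (commutator_le_right_of_le_normalizer h2)
      (commutator_le_left_of_le_normalizer (hQL.trans hLC))).trans (inf_le_pCoreOf h2 hQp)
  · exact (commutator_le_right_of_le_normalizer h2).trans (le_nclIn Q L)

end Cfsg.Agent.S2843
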