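import Cfsg.Statements.S2844
import Cfsg.Agent.Lib.Large

set_option autoImplicit false
open Cfsg

namespace Cfsg.Agent.S2844

open Subgroup Cfsg.Agent.Lib.PCoreConj Cfsg.Agent.Lib.PCore Cfsg.Agent.Lib.PCoreResidual Cfsg.Agent.Lib.PCoreMod
open Cfsg.Agent.Lib.PReduced Cfsg.Agent.Lib.PIrred Cfsg.Agent.Lib.Large
open scoped Pointwise commutatorElement

/-- Let Q be a nontrivial large p-subgroup of the finite group H and Q• = O_p(N_H(Q)). Then for every g ∈ H outside N_H(Q): C_H(Q) ∩ C_H(gQg⁻¹) = 1, C_H(Q•) ∩ C_H(gQ•g⁻¹) = 1, Z(Q) ∩ Z(gQg⁻¹) = 1 and Z(Q•) ∩ Z(gQ•g⁻¹) = 1; moreover N_H(Q) = N_H(Q•) and Q• is large in H. -/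
theorem result {H : Type*} [Group H] [Finite H] {p : ℕ} [Fact p.Prime] (Q : Subgroup H) (hQp : IsPGroup p ↥Q) (hQ1 : Q ≠ ⊥) (hL : Cfsg.IsLarge Q) (Qb : Subgroup H) (hQb : Qb = Cfsg.largeBullet p Q) : (∀ g : H, g ∉ Subgroup.normalizer ((Q : Subgroup H) : Set H) → Subgroup.centralizer ((Q : Subgroup H) : Set H) ⊓ Subgroup.centralizer ((((Q : Subgroup H).map (MulAut.conj (g : H)).toMonoidHom) : Subgroup H) : Set H) = ⊥ ∧ Subgroup.centralizer ((Qb : Subgroup H) : Set H) ⊓ Subgroup.centralizer ((((Qb : Subgroup H).map (MulAut.conj (g : H)).toMonoidHom) : Subgroup H) : Set H) = ⊥ ∧ (Q ⊓ Subgroup.centralizer ((Q : Subgroup H) : Set H)) ⊓ (((Q : Subgroup H).map (MulAut.conj (g : H)).toMonoidHom) ⊓ Subgroup.centralizer ((((Q : Subgroup H).map (MulAut.conj (g : H)).toMonoidHom) : Subgroup H) : Set H)) = ⊥ ∧ (Qb ⊓ Subgroup.centralizer ((Qb : Subgroup H) : Set H)) ⊓ (((Qb : Subgroup H).map (MulAut.conj (g : H)).toMonoidHom)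 ⊓ Subgroup.centralizer ((((Qb : Subgroup H).map (MulAut.conj (g : H)).toMonoidHom) : Subgroup H) : Set H)) = ⊥) ∧ Subgroup.normalizer ((Q : Subgroup H) : Set H) = Subgroup.normalizer ((Qb : Subgroup H) : Set H) ∧ Cfsg.IsLarge Qb := by
  have hwc := wcIn_of_isLarge hL hQp hQ1
  have hQQ : Q ≤ Qb := hQb ▸ le_pCoreOf le_normalizer le_rfl hQp
  have hN : normalizer (Q : Set H) = normalizer (Qb : Set H) := le_antisymm
    (hQb ▸ le_normalizer_pCoreOf p _) ((le_inf le_top le_rfl).trans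
      (hwc.inf_normalizer_le (hQb ▸ pCoreOf_isPGroup p _) hQQ))
  refine ⟨fun g hg => ?_, hN, ((centralizer_anti hQQ).trans hL.1).trans hQQ,
    fun U h1 h2 => hN ▸ hL.2 U (h1.trans (centralizer_anti hQQ)) h2⟩
  have h1 : centralizer (Q : Set H) ⊓ centralizer ((Q ^ᶜ g : Subgroup H) : Set H) = ⊥ := by
    by_contra hne
    refine hg (mem_normalizer_iff_conj_eq.2 (hwc.eq g (mem_top g)
      (IsPGroup.to_sup_of_normal_left' hQp (isPGroup_conj hQp g) ?_)))
    exact ((le_centralizer_iff.1 inf_le_right).trans (centralizer_le_normalizer _)).trans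
      (hL.2 _ inf_le_left hne)
  have h2 : centralizer (Qb : Set H) ⊓ centralizer ((Qb ^ᶜ g : Subgroup H) : Set H) = ⊥ :=
    le_bot_iff.1 ((inf_le_inf (centralizer_anti hQQ)
      (centralizer_anti (conj_mono g hQQ))).trans h1.le)
  exact ⟨h1, h2, le_bot_iff.1 ((inf_le_inf inf_le_right inf_le_right).trans h1.le),
    le_bot_iff.1 ((inf_le_inf inf_le_right inf_le_right).trans h2.le)⟩

end Cfsg.Agent.S2844
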