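import Cfsg.Statements.S2850
import Cfsg.Agent.Lib.Large

set_option autoImplicit false
open Cfsg

namespace Cfsg.Agent.S2850

open Subgroup Cfsg.Agent.Lib.PCoreConj Cfsg.Agent.Lib.PCore Cfsg.Agent.Lib.PCoreResidual Cfsg.Agent.Lib.PCoreMod
open Cfsg.Agent.Lib.PReduced Cfsg.Agent.Lib.PIrred Cfsg.Agent.Lib.Large
open scoped Pointwise commutatorElement

/-- Standing hypotheses: G a finite group, S a Sylow p-subgroup, Q a nontrivial large p-subgroup of G contained in S (C_G(Q) ≤ Q and N_G(U) ≤ N_G(Q) for all nontrivial U ≤ C_G(Q)), and M a subgroup containing S with the basic property (M ∈ 𝔐_G(S)); Y_M denotes the largest p-reduced normal subgroup of M and M† = M·C_G(Y_M). Suppose Y_M is asymmetric in G. Then N_G(L) ≤ N_G(O_p(M)) ≤ M† for every p-subgroup L containing O_p(M); O_p(M) is a weakly closed subgroup of G; for every subgroup L containing O_p(M), L ∩ M† contains a Sylow p-subgroup of L; and two elements of Y_M conjugate in G are conjugate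 in M. -/
theorem result {G : Type*} [Group G] [Finite G] {p : ℕ} [Fact p.Prime] (S : Sylow p G) (Q : Subgroup G) (hQp : IsPGroup p ↥Q) (hQ1 : Q ≠ ⊥) (hQS : Q ≤ (S : Subgroup G)) (hQ : Cfsg.IsLarge Q) (M : Subgroup G) (hSM : (S : Subgroup G) ≤ M) (hM : Cfsg.IsInFrakM p M) (hasym : ¬ Cfsg.IsSymmetricIn (Cfsg.largestPReducedOf p M)) : (∀ L : Subgroup G, IsPGroup p ↥L → (Cfsg.pCoreOf p M) ≤ L → Subgroup.normalizer ((L : Subgroup G) : Set G) ≤ Subgroup.normalizer (((Cfsg.pCoreOf p M) : Subgroup G) : Set G) ∧ Subgroup.normalizer (((Cfsg.pCoreOf p M) : Subgroup G) : Set G) ≤ (M ⊔ Subgroup.centralizer (((Cfsg.largestPReducedOf p M) : Subgroup G) : Set G))) ∧ Cfsg.IsWeaklyClosedSubgroup p (Cfsg.pCoreOf p M) ∧ (∀ L : Subgroup G, (Cfsg.pCoreOf p M) ≤ L → Cfsg.IsParabolic p ((L ⊓ (M ⊔ Subgroup.centralizer (((Cfsg.largestPReducedOf p M) : Subgroup G) : Set G))).subgroupOf L)) ∧ (∀ x ∈ (Cfsg.largestPReducedOf p M), ∀ g : G, g * x * g⁻¹ ∈ (Cfsg.largestPReducedOf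 p M) → ∃ m ∈ M, m * x * m⁻¹ = g * x * g⁻¹) := by
  have hG := isOfParabolicCharacteristic_of_isLarge hQ hQp hQ1
  have hT := isSylowIn_top S
  have hwc := wcIn_pCoreOf hG hT hSM hM hasym
  have hN := (normalizer_pCoreOf_le hT hSM hM).trans (normalizer_largest_eq hG hT hSM hM).le
  refine ⟨fun L h1 h2 => ⟨(le_inf le_top le_rfl).trans (hwc.inf_normalizer_le h1 h2), hN⟩,
    isWeaklyClosedSubgroup_iff.2 hwc, fun L h1 => ?_, fun x hx g hg => ?_⟩
  · obtain ⟨P, hP, -, h⟩ := hwc.exists_isSylowIn h1 le_top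
    exact ⟨hP.toSylow, comap_mono (le_inf hP.le (h.trans hN))⟩
  · have hC : ∀ y ∈ largestPReducedOf p M, pCoreOf p M ≤ centralizer ({y} : Set G) :=
      fun y hy => (pCoreOf_le_centralizer_largest p M).trans
        (centralizer_le (Set.singleton_subset_iff.2 hy))
    obtain ⟨k, hk, e⟩ := hwc.exists_conj_eq (hC x hx) le_top (mem_top g⁻¹) (by
      rw [← le_conj_iff_conj_inv_le, conj_centralizer_singleton]; exact hC _ hg)
    rw [eq_comm, ← conj_eq_iff_eq_conj_inv, conj_conj, ← mem_normalizer_iff_conj_eq] at e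
    obtain ⟨m, hm, c, hc, e'⟩ := (mem_sup_iff_of_le_normalizer
      (isPRed_largest p M).red.normC).1 (hN e)
    refine ⟨m, hm, ?_⟩
    have h1 : x * c = c * x := hc x hx
    have h2 : x * k = k * x := hk x rfl
    calc m * x * m⁻¹ = m * (x * c) * (m * c)⁻¹ := by group
      _ = (m * c) * x * (m * c)⁻¹ := by rw [h1]; group
      _ = g * (k * x) * (g * k)⁻¹ := by rw [e']; group
      _ = _ := by rw [← h2]; group

end Cfsg.Agent.S2850
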