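import Cfsg.Statements.S2851
import Cfsg.Agent.Lib.Large
import Cfsg.Agent.Lib.FStar

set_option autoImplicit false
open Cfsg

namespace Cfsg.Agent.S2851

open Subgroup Cfsg.Agent.Lib.PCoreConj Cfsg.Agent.Lib.PCore Cfsg.Agent.Lib.PCoreResidual Cfsg.Agent.Lib.PCoreMod
open Cfsg.Agent.Lib.PReduced Cfsg.Agent.Lib.PIrred Cfsg.Agent.Lib.Large
open scoped Pointwise commutatorElement

/-- Standing hypotheses: G a finite group, S a Sylow p-subgroup, Q a nontrivial large p-subgroup of G contained in S, M a subgroup containing S with the basic property (M ∈ 𝔐_G(S)); Y_M the largest p-reduced normal subgroup of M and M† = M·C_G(Y_M). Let F be the preimage in M† of the generalized Fitting subgroup of M†/C_{M†}(Y_M). If Y_M is asymmetric in G and H is a subgroup of characteristic p containing F, then Y_M ≤ Y_H. -/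
theorem result {G : Type*} [Group G] [Finite G] {p : ℕ} [Fact p.Prime] (S : Sylow p G) (Q : Subgroup G) (hQp : IsPGroup p ↥Q) (hQ1 : Q ≠ ⊥) (hQS : Q ≤ (S : Subgroup G)) (hQ : Cfsg.IsLarge Q) (M : Subgroup G) (hSM : (S : Subgroup G) ≤ M) (hM : Cfsg.IsInFrakM p M) (hasym : ¬ Cfsg.IsSymmetricIn (Cfsg.largestPReducedOf p M)) [hn : ((Subgroup.centralizer (((Cfsg.largestPReducedOf p M) : Subgroup G) : Set G)).subgroupOf (M ⊔ Subgroup.centralizer (((Cfsg.largestPReducedOf p M) : Subgroup G) : Set G))).Normal] (F : Subgroup G) (hF : F = ((Cfsg.generalizedFittingSubgroup (↥(M ⊔ Subgroup.centralizer (((Cfsg.largestPReducedOf p M) : Subgroup G) : Set G)) ⧸ (Subgroup.centralizer (((Cfsg.largestPReducedOf p M) : Subgroup G) : Set G)).subgroupOf (M ⊔ Subgroup.centralizer (((Cfsg.largestPReducedOf p M) : Subgroup G) : Set G)))).comap (QuotientGroup.mk' ((Subgroup.centralizer (((Cfsg.largestPReducedOf p M) : Subgroup G) : Set G)).subgroupOf (M ⊔ Subgroup.centralizer (((Cfsg.largestPReducedOf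 p M) : Subgroup G) : Set G))))).map ((M ⊔ Subgroup.centralizer (((Cfsg.largestPReducedOf p M) : Subgroup G) : Set G))).subtype) (H : Subgroup G) (hFH : F ≤ H) (hH : Subgroup.centralizer (Cfsg.pCore p ↥H : Set ↥H) ≤ Cfsg.pCore p ↥H) : (Cfsg.largestPReducedOf p M) ≤ Cfsg.largestPReducedOf p H := by
  have hG := isOfParabolicCharacteristic_of_isLarge hQ hQp hQ1
  have hT := isSylowIn_top S
  have hwc := wcIn_pCoreOf hG hT hSM hM hasym
  have hN := (normalizer_pCoreOf_le hT hSM hM).trans (normalizer_largest_eq hG hT hSM hM).le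
  have hred := redOn_dagger p M
  set Y := largestPReducedOf p M with hY
  set C := centralizer (Y : Set G) with hC
  have hFM : F ≤ M ⊔ C := hF ▸ map_subtype_le _
  have hFn : M ⊔ C ≤ normalizer (F : Set G) := by
    have := Lib.FStar.fstar_normal (G := ↥(M ⊔ C) ⧸ C.subgroupOf (M ⊔ C))
    rw [hF]; exact le_normalizer_map_subtype _
  have hCF : C ≤ F := by
    intro c hc
    rw [hF]
    refine ⟨⟨c, mem_sup_right hc⟩, ?_, rfl⟩
    have : (QuotientGroup.mk' (C.subgroupOf (M ⊔ C))) ⟨c, mem_sup_right hc⟩ = 1 := by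
      rw [QuotientGroup.mk'_apply, QuotientGroup.eq_one_iff, mem_subgroupOf]; exact hc
    refine mem_comap.2 ?_
    erw [this]; exact one_mem _
  have hcen : ∀ D : Subgroup G, D ≤ M ⊔ C → ⁅D, F⁆ ≤ C → D ≤ F := by
    intro D h1 h2 d hd
    rw [hF]
    refine ⟨⟨d, h1 hd⟩, Lib.FStar.centralizer_fstar_le fun y hy => ?_, rfl⟩
    obtain ⟨f, rfl⟩ := QuotientGroup.mk'_surjective _ y
    rw [eq_comm, ← commutatorElement_eq_one_iff_mul_comm, ← map_commutatorElement,
      QuotientGroup.mk'_apply, QuotientGroup.eq_one_iff, mem_subgroupOf]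
    exact h2 (commutator_mem_commutator hd (hF ▸ ⟨f, hy, rfl⟩))
  have hRH : pCoreOf p M ≤ H := (pCoreOf_le_centralizer_largest p M).trans (hCF.trans hFH)
  obtain ⟨P, hP, hRP, hPN⟩ := hwc.exists_isSylowIn hRH le_top
  have hPH : P ≤ H ⊓ (M ⊔ C) := le_inf hP.le (hPN.trans hN)
  have hFH' : F ≤ H ⊓ (M ⊔ C) := le_inf hFH hFM
  refine IsPRed.le_largest_of_le (R := H ⊓ (M ⊔ C)) ⟨((largestPReducedOf_le_pCoreOf p M).trans
    hRP).trans hPH, (isPRed_largest p M).elem, redOn_of_forall (inf_le_right.trans hred.1)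
      fun D h1 h2 h3 => ?_⟩ (charPIn_iff.1 hH) hP hPH inf_le_left
  have h4 : D ⊓ F ≤ C := hred.le_centralizer ((SubnormalIn.of_normal inf_le_right
    (le_normalizer_inf (hFH'.trans h2) le_normalizer)).trans (.of_normal hFM hFn))
    fun x hx => h3 x hx.1
  refine le_trans (le_inf le_rfl (hcen D (h1.trans inf_le_right) (le_trans (le_inf ?_ ?_) h4))) h4
  · exact commutator_le_left_of_le_normalizer (hFH'.trans h2)
  · exact commutator_le_right_of_le_normalizer ((h1.trans inf_le_right).trans hFn)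

end Cfsg.Agent.S2851
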