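import Cfsg.Statements.S2853
import Cfsg.Agent.Lib.Large

set_option autoImplicit false
open Cfsg

namespace Cfsg.Agent.S2853

open Subgroup Cfsg.Agent.Lib.PCoreConj Cfsg.Agent.Lib.PCore Cfsg.Agent.Lib.PCoreResidual Cfsg.Agent.Lib.PCoreMod
open Cfsg.Agent.Lib.PReduced Cfsg.Agent.Lib.PIrred Cfsg.Agent.Lib.Large
open scoped Pointwise commutatorElement

/-- Standing hypotheses: G a finite group, S a Sylow p-subgroup, Q a nontrivial large p-subgroup of G contained in S, M a subgroup containing S with the basic property (M ∈ 𝔐_G(S)); Y_M the largest p-reduced normal subgroup of M and M† = M·C_G(Y_M). Suppose Y_M is char-p-tall and asymmetric in G and H ∈ ℌ_G(O_p(M)). Then every Sylow p-subgroup of H ∩ M† is a Sylow p-subgroup of H; O_p(H) normalizes O_p(M) and Y_M; O^p(H) = [O^p(H), Y_M] and H = O^p(H)·O_p(M); O^p(H)·Y_M is the normal closure of Y_M in H; and H is the normal closure of O_p(M) in H. Here O^p(H) is the subgroup generated by the elements of H of order prime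 to p. -/
theorem result {G : Type*} [Group G] [Finite G] {p : ℕ} [Fact p.Prime] (S : Sylow p G) (Q : Subgroup G) (hQp : IsPGroup p ↥Q) (hQ1 : Q ≠ ⊥) (hQS : Q ≤ (S : Subgroup G)) (hQ : Cfsg.IsLarge Q) (M : Subgroup G) (hSM : (S : Subgroup G) ≤ M) (hM : Cfsg.IsInFrakM p M) (htall : Cfsg.IsCharPTall p (Cfsg.largestPReducedOf p M)) (hasym : ¬ Cfsg.IsSymmetricIn (Cfsg.largestPReducedOf p M)) (H : Subgroup G) (hH : Cfsg.IsInFrakH p M H) (R : Subgroup G) (hR : R = (Cfsg.pResidual p ↥H).map H.subtype) : (∀ T : Sylow p ↥(H ⊓ (M ⊔ Subgroup.centralizer (((Cfsg.largestPReducedOf p M) : Subgroup G) : Set G))), ∃ P : Sylow p ↥H, ((P : Subgroup ↥H).map H.subtype) = (T : Subgroup ↥(H ⊓ (M ⊔ Subgroup.centralizer (((Cfsg.largestPReducedOf p M) : Subgroup G) : Set G)))).map (H ⊓ (M ⊔ Subgroup.centralizer (((Cfsg.largestPReducedOf p M) : Subgroup G) : Set G))).subtype) ∧ Cfsg.pCoreOf p H ≤ Subgroup.normalizer (((Cfsg.pCoreOf p M) : Subgroup G) : Set G) ⊓ Subgroup.normalizer (((Cfsg.largestPReducedOf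 p M) : Subgroup G) : Set G) ∧ ⁅R, (Cfsg.largestPReducedOf p M)⁆ = R ∧ R ⊔ (Cfsg.pCoreOf p M) = H ∧ R ⊔ (Cfsg.largestPReducedOf p M) = (Subgroup.normalClosure ((((Cfsg.largestPReducedOf p M)).subgroupOf H : Subgroup ↥H) : Set ↥H)).map H.subtype ∧ (Subgroup.normalClosure ((((Cfsg.pCoreOf p M)).subgroupOf H : Subgroup ↥H) : Set ↥H)).map H.subtype = H := by
  have hG := isOfParabolicCharacteristic_of_isLarge hQ hQp hQ1
  have hT := isSylowIn_top S
  have hwc := wcIn_pCoreOf hG hT hSM hM hasym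
  have hN := normalizer_pCoreOf_le hT hSM hM
  have hYH := (largestPReducedOf_le_pCoreOf p M).trans hH.2.1
  rw [pResidualOf_def] at hR
  subst hR
  have h1 : pCoreOf p H ≤ normalizer (pCoreOf p M : Set G) :=
    hwc.le_normalizer_of_le_normalizer (pCoreOf_isPGroup p H) le_top
      (hH.2.1.trans (le_normalizer_pCoreOf p H))
  have h2 := frakH_pResidualOf_sup hH
  refine ⟨fun T => ?_, le_inf h1 (h1.trans hN), ?_, h2, ?_, ?_⟩
  · obtain ⟨P, hP, -, h⟩ := hwc.exists_isSylowIn hH.2.1 le_top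
    exact isSylowIn_iff_exists_map.1 ((isSylowIn_map_subtype T).trans_of_le inf_le_left hP
      (le_inf hP.le (h.trans (hN.trans (normalizer_largest_eq hG hT hSM hM).le))))
  · refine commutator_eq_of_le_nclIn (T := pCoreOf p M) (pResidualOf_idem p H)
      (largest_isPGroup p M) (hYH.trans (le_normalizer_pResidualOf p H))
      (hH.2.1.trans (le_normalizer_pResidualOf p H))
      ((pCoreOf_le p M).trans (le_normalizer_largest p M)) ?_
    rw [h2]; exact frakH_pResidualOf_le hH
  · rw [map_normalClosure_subgroupOf hYH]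
    refine le_antisymm (sup_le (frakH_pResidualOf_le hH) (le_nclIn _ _)) (nclIn_le le_sup_right ?_)
    exact h2.ge.trans (sup_le (le_normalizer_of_le le_sup_left) (le_normalizer_sup
      (hH.2.1.trans (le_normalizer_pResidualOf p H))
      ((pCoreOf_le p M).trans (le_normalizer_largest p M))))
  · rw [map_normalClosure_subgroupOf hH.2.1]
    exact frakH_nclIn_pCoreOf hH

end Cfsg.Agent.S2853
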