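import Cfsg.Statements.S2855
import Cfsg.Agent.Lib.PIrred

set_option autoImplicit false
open Cfsg

namespace Cfsg.Agent.S2855

open Subgroup Cfsg.Agent.Lib.PCoreConj Cfsg.Agent.Lib.PCore Cfsg.Agent.Lib.PCoreResidual Cfsg.Agent.Lib.PCoreMod
open Cfsg.Agent.Lib.PReduced Cfsg.Agent.Lib.PIrred
open scoped Pointwise commutatorElement

/-- Let H be a finite group, p a prime, and 𝒦 a nonempty set of subgroups of H permuted transitively by conjugation, with R the subgroup generated by the members of 𝒦. Suppose O^p(H) ≤ R, each E ∈ 𝒦 has E·O_p(H) normal in R·O_p(H), and each E ∈ 𝒦 is p-minimal (generated by the conjugates of a Sylow p-subgroup T_E of E, with T_E in exactly one maximal subgroup of E). Then H is p-minimal in the same sense. If instead each E ∈ 𝒦 is strongly p-irreducible, then H is p-irreducible and, for E, K ∈ 𝒦, either O^p(E·O_p(H)) = O^p(K·O_p(H)) or [E, K] ≤ O_p(H). -/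
theorem result {H : Type*} [Group H] [Finite H] {p : ℕ} [Fact p.Prime] (𝒦 : Set (Subgroup H)) (hne : 𝒦.Nonempty) (hinv : ∀ h : H, ∀ E ∈ 𝒦, E.map (MulAut.conj h).toMonoidHom ∈ 𝒦) (htr : ∀ E ∈ 𝒦, ∀ K ∈ 𝒦, ∃ h : H, K = E.map (MulAut.conj h).toMonoidHom) (hres : Cfsg.pResidual p H ≤ sSup 𝒦) (hnorm : ∀ E ∈ 𝒦, sSup 𝒦 ⊔ Cfsg.pCore p H ≤ Subgroup.normalizer ((E ⊔ Cfsg.pCore p H : Subgroup H) : Set H)) : ((∀ E ∈ 𝒦, ∀ T : Sylow p ↥E, Cfsg.IsMinimalOver (T : Subgroup ↥E)) → ∀ T : Sylow p H, Cfsg.IsMinimalOver (T : Subgroup H)) ∧ ((∀ E ∈ 𝒦, Cfsg.IsStronglyPIrreducible p ↥E) → Cfsg.IsPIrreducible p H ∧ ∀ E ∈ 𝒦, ∀ K ∈ 𝒦, (Cfsg.pResidual p ↥(E ⊔ Cfsg.pCore p H)).map (E ⊔ Cfsg.pCore p H).subtype = (Cfsg.pResidual p ↥(K ⊔ Cfsg.pCore p H)).map (K ⊔ Cfsg.pCore p H).subtype ∨ ⁅E, K⁆ ≤ Cfsg.pCore p H) := by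
  set O := pCore p H with hO
  have hOn : ∀ X : Subgroup H, X ≤ normalizer (O : Set H) := fun X =>
    le_top.trans (normal_iff_top_le.1 inferInstance)
  have hc : ∀ (E : Subgroup H) (h : H), (E ⊔ O) ^ᶜ h = E ^ᶜ h ⊔ O := fun E h => by
    rw [conj_sup, conj_eq_of_normal O]
  set R := sSup 𝒦 ⊔ O with hR
  have hER : ∀ E ∈ 𝒦, E ⊔ O ≤ R := fun E hE => sup_le_sup_right (le_sSup hE) O
  have hRn : R.Normal := normal_of_conj_le fun h => by
    rw [hc]
    refine sup_le_sup_right ?_ O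
    rw [conj_le_iff_le_conj_inv]
    exact sSup_le fun E hE => conj_le_iff_le_conj_inv.1 (le_sSup (hinv h E hE))
  have hRn' : ∀ X : Subgroup H, X ≤ normalizer (R : Set H) := fun X =>
    le_top.trans (normal_iff_top_le.1 hRn)
  have hsn : ∀ E ∈ 𝒦, SubnormalIn ⊤ (E ⊔ O) := fun E hE =>
    (SubnormalIn.of_normal (hER E hE) (hnorm E hE)).trans (.of_normal le_top (hRn' _))
  have hRT : ∀ T : Sylow p H, ⊤ ≤ (T : Subgroup H) ⊔ R := fun T => by
    rw [← pResidual_sup_sylow T, sup_comm]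
    exact sup_le_sup_left (hres.trans le_sup_left) _
  have hTt : ∀ T : Sylow p H, ∀ E ∈ 𝒦, ∀ K ∈ 𝒦, ∃ t ∈ (T : Subgroup H), K ⊔ O = (E ⊔ O) ^ᶜ t := by
    intro T E hE K hK
    obtain ⟨h, rfl⟩ := htr E hE K hK
    obtain ⟨t, ht, r, hr, rfl⟩ := (mem_sup_iff_of_le_normalizer (hRn' _)).1 (hRT T (mem_top h))
    exact ⟨t, ht, by rw [← hc, ← conj_conj, conj_eq_of_mem_normalizer (hnorm E hE hr)]⟩
  have htop : ∀ (T : Sylow p H) (K : Subgroup H), (T : Subgroup H) ≤ K → (∀ E ∈ 𝒦, E ≤ K) →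
      ⊤ ≤ K := fun T K h1 h2 =>
    (hRT T).trans (sup_le h1 (sup_le (sSup_le h2) ((pCore_le_sylow T).trans h1)))
  have hSyl : ∀ T : Sylow p H, ∀ E ∈ 𝒦, IsSylowIn p ((T : Subgroup H) ⊓ (E ⊔ O)) (E ⊔ O) :=
    fun T E hE => (isSylowIn_top T).inf_subnormalIn (hsn E hE)
  obtain ⟨E₀, hE₀⟩ := hne
  refine ⟨fun hmin T => ?_, fun hirr => ?_⟩
  · let Mx : Subgroup H → Subgroup H := fun F => sSup {X | (T : Subgroup H) ⊓ F ≤ X ∧ X < F}
    have hM : ∀ E ∈ 𝒦, MinOver ((T : Subgroup H) ⊓ (E ⊔ O)) (Mx (E ⊔ O)) (E ⊔ O) := by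
      intro E hE
      obtain ⟨S⟩ : Nonempty (Sylow p E) := inferInstance
      obtain ⟨M₀, h0⟩ := isMinimalOver_iff_map.1 (hmin E hE S)
      have hS := isSylowIn_map_subtype S
      have h1 := h0.sup_normal (hOn E)
        ((inf_comm E O).le.trans ((pCore_inf_le E).trans (h0.pCoreOf_le hS.isPGroup)))
      obtain ⟨g, hg, e⟩ := (hS.sup (isSylowIn_self (pCore_isPGroup p H)) (hOn E)
        (hOn _)).exists_conj_eq (hSyl T E hE)
      have h2 := h1.conj g
      rw [e, conj_eq_of_mem hg] at h2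
      have e2 : Mx (E ⊔ O) = (M₀ ⊔ O) ^ᶜ g :=
        le_antisymm (sSup_le fun X hX => h2.max X hX.1 hX.2) (le_sSup ⟨h2.le, h2.lt⟩)
      rwa [e2]
    let N : Subgroup H :=
      { carrier := {h | ∀ E ∈ 𝒦, (Mx (E ⊔ O)) ^ᶜ h = Mx (E ^ᶜ h ⊔ O)}
        one_mem' := fun E _ => by rw [conj_one, conj_one]
        mul_mem' := fun {a b} ha hb E hE => by
          rw [← conj_conj, hb E hE, ha _ (hinv b E hE), conj_conj]
        inv_mem' := fun {a} ha E hE => by
          rw [eq_comm, ← conj_eq_iff_eq_conj_inv, ha _ (hinv a⁻¹ E hE), conj_inv_conj] }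
    have hmax : ∀ K, (T : Subgroup H) ≤ K → K < ⊤ → K ≤ N := by
      intro K h1 h2
      have h3 : ∀ E ∈ 𝒦, K ⊓ (E ⊔ O) ≤ Mx (E ⊔ O) := by
        intro E hE
        refine (hM E hE).max _ (inf_le_inf_right _ h1) (lt_of_le_of_ne inf_le_right fun e => ?_)
        refine h2.not_ge (htop T K h1 fun E' hE' => ?_)
        obtain ⟨t, ht, e'⟩ := hTt T E hE E' hE'
        exact le_sup_left.trans (e'.le.trans (conj_le_of_mem (e.ge.trans inf_le_left) (h1 ht)))
      have h4 : ∀ k ∈ K, ∀ E ∈ 𝒦, (Mx (E ⊔ O)) ^ᶜ k ≤ Mx (E ^ᶜ k ⊔ O) := by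
        intro k hk E hE
        refine (hM _ (hinv k E hE)).max _ ?_ (by rw [← hc]; exact conj_lt_conj_iff.2 (hM E hE).lt)
        refine (inf_le_inf_right _ h1).trans (le_trans ?_ (conj_mono k (h3 E hE)))
        rw [conj_inf, conj_eq_of_mem hk, hc]
      intro k hk E hE
      refine le_antisymm (h4 k hk E hE) ?_
      rw [le_conj_iff_conj_inv_le]
      simpa only [conj_conj_inv] using h4 k⁻¹ (inv_mem hk) _ (hinv k E hE)
    refine isMinimalOver_iff.2 ⟨N, top_le_iff.1 (htop T _ (le_nclIn _ _) fun E hE => ?_),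
      hmax _ le_rfl (lt_top_iff_ne_top.2 fun e => ?_), lt_top_iff_ne_top.2 fun e => ?_, hmax⟩
    · exact le_sup_left.trans ((hM E hE).ncl.ge.trans (nclIn_mono inf_le_left le_top))
    · refine ((hM E₀ hE₀).le.trans_lt (hM E₀ hE₀).lt).ne ?_
      rw [e, top_inf_eq]
    · refine (hM E₀ hE₀).not_le_normalizer (hM E₀ hE₀).le le_rfl fun g hg => ?_
      rw [mem_normalizer_iff_conj_eq, (e.ge (mem_top g) : g ∈ N) E₀ hE₀, ← hc, conj_eq_of_mem hg]
  · obtain ⟨T⟩ : Nonempty (Sylow p H) := inferInstance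
    have hOT : O ≤ T := pCore_le_sylow T
    have hS : ∀ E ∈ 𝒦, SPIrrIn p (E ⊔ O) := by
      intro E hE
      have hk : ∀ X : Subgroup H, IsPGroup p ↥(X ⊓ (QuotientGroup.mk' O).ker) := fun X => by
        rw [QuotientGroup.ker_mk']; exact (pCore_isPGroup p H).to_le inf_le_right
      refine (sPIrrIn_map_iff _ (hk _)).1 ?_
      rw [Subgroup.map_sup, (Lib.SolvBasic.map_mk_eq_bot_iff O O).2 le_rfl, sup_bot_eq]
      exact (sPIrrIn_map_iff _ (hk _)).2 (isStronglyPIrreducible_iff.1 (hirr E hE))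
    have hcore : ∀ E ∈ 𝒦, pCoreOf p (E ⊔ O) = O := fun E hE => by
      rw [pCoreOf_eq_inf_of_isSubnormal (subnormalIn_top_iff.1 (hsn E hE))]
      exact inf_eq_left.2 le_sup_right
    have hdec : ∀ E ∈ 𝒦, pResidualOf p (E ⊔ O) ⊔ ((T : Subgroup H) ⊓ (E ⊔ O)) = E ⊔ O :=
      fun E hE => pResidualOf_sup_of_isSylowIn (hSyl T E hE)
    have hA : ∀ E ∈ 𝒦, ∀ X : Subgroup H, ⁅⁅X, E ⊔ O⁆, E ⊔ O⁆ ≤ O →
        ⁅X, pResidualOf p (E ⊔ O)⁆ ≤ O := by
      intro E hE X h1
      rw [commutator_comm]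
      refine (commutator_mono (hS E hE).pIrrIn.pResidualOf_le_commutator le_rfl).trans
        (three_subgroups (hOn _) (hOn _) (hOn _) ?_ h1)
      rwa [commutator_comm _ X]
    have hI : ∀ E ∈ 𝒦, ∀ N : Subgroup H, E ⊔ O ≤ normalizer (N : Set H) →
        ¬ pResidualOf p (E ⊔ O) ≤ N → ⁅N ⊓ (E ⊔ O), E ⊔ O⁆ ≤ O := by
      intro E hE N h1 h2
      by_contra h3
      exact h2 (((hS E hE).2 _ inf_le_right (le_normalizer_inf h1 le_normalizer)
        (by rwa [hcore E hE])).trans inf_le_left)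
    have hB : ∀ E ∈ 𝒦, ∀ K ∈ 𝒦, pResidualOf p (E ⊔ O) = pResidualOf p (K ⊔ O) ∨
        ⁅E ⊔ O, K ⊔ O⁆ ≤ O := by
      have aux : ∀ E ∈ 𝒦, ∀ K ∈ 𝒦, pResidualOf p (E ⊔ O) ≤ K ⊔ O →
          pResidualOf p (E ⊔ O) = pResidualOf p (K ⊔ O) := by
        intro E hE K hK h1
        refine eq_of_le_of_card_le ((pResidualOf_idem p _).ge.trans (pResidualOf_mono h1)) ?_
        obtain ⟨t, -, e⟩ := hTt T E hE K hK
        rw [e, ← conj_pResidualOf, card_conj]
      intro E hE K hK
      by_cases h1 : pResidualOf p (E ⊔ O) ≤ K ⊔ O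
      · exact Or.inl (aux E hE K hK h1)
      by_cases h2 : pResidualOf p (K ⊔ O) ≤ E ⊔ O
      · exact Or.inl (aux K hK E hE h2).symm
      right
      have n1 : E ⊔ O ≤ normalizer ((K ⊔ O : Subgroup H) : Set H) := (hER E hE).trans (hnorm K hK)
      have n2 : K ⊔ O ≤ normalizer ((E ⊔ O : Subgroup H) : Set H) := (hER K hK).trans (hnorm E hE)
      have c1 : ⁅K ⊔ O, E ⊔ O⁆ ≤ (K ⊔ O) ⊓ (E ⊔ O) :=
        le_inf (commutator_le_left_of_le_normalizer n1) (commutator_le_right_of_le_normalizer n2)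
      have c2 : ⁅E ⊔ O, K ⊔ O⁆ ≤ (E ⊔ O) ⊓ (K ⊔ O) :=
        le_inf (commutator_le_left_of_le_normalizer n2) (commutator_le_right_of_le_normalizer n1)
      have h3 := hI E hE _ n1 h1
      have h4 := hA E hE _ ((commutator_mono c1 le_rfl).trans h3)
      have h5 := hA K hK _ ((commutator_mono c2 le_rfl).trans (hI K hK _ n2 h2))
      have h6 : (T : Subgroup H) ⊓ ((K ⊔ O) ⊓ (E ⊔ O)) ≤ O := by
        refine (le_pCoreOf_of_isPClosed (isPClosed_of_commutator_le inf_le_right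
          (h3.trans (hcore E hE).ge)) (.of_normal inf_le_right
            (le_normalizer_inf n1 le_normalizer)) (T.isPGroup'.to_le inf_le_left)
              inf_le_right).trans (hcore E hE).le
      rw [commutator_comm, ← hdec E hE]
      refine commutator_sup_le (hOn _) (hOn _) h4 ?_
      rw [commutator_comm, ← hdec K hK]
      refine commutator_sup_le (hOn _) (hOn _) ((commutator_mono inf_le_right le_rfl).trans h5)
        (le_trans (le_inf ?_ ?_) h6)
      · exact (commutator_mono inf_le_left inf_le_left).trans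
          (commutator_le_left_of_le_normalizer le_normalizer)
      · exact (commutator_mono inf_le_right inf_le_right).trans (c2.trans (inf_comm _ _).le)
    refine ⟨isPIrreducible_iff_top.2 ⟨fun hc => (hS E₀ hE₀).1 (isPClosed_of_le hc le_top),
      fun N _ hN hNc => ?_⟩, fun E hE K hK => (hB E hE K hK).imp id fun h =>
        (commutator_mono le_sup_left le_sup_left).trans h⟩
    have hres' : ∀ X : Subgroup H, ⊤ ≤ normalizer (X : Set H) →
        (∀ E ∈ 𝒦, pResidualOf p (E ⊔ O) ≤ X) → pResidualOf p ⊤ ≤ X := by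
      intro X h1 h2
      refine (pResidualOf_mono (htop T (X ⊔ T) le_sup_right fun E hE => ?_)).trans
        (pResidualOf_sup_le T.isPGroup' (le_top.trans h1))
      exact le_sup_left.trans ((hdec E hE).ge.trans (sup_le_sup (h2 E hE) inf_le_left))
    have hN' : ⊤ ≤ normalizer ((N ⊔ O : Subgroup H) : Set H) := le_normalizer_sup hN (hOn _)
    refine (pResidualOf_idem p ⊤).ge.trans ((pResidualOf_mono ?_).trans
      (pResidualOf_sup_le (pCore_isPGroup p H) (le_top.trans hN)))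
    by_contra hcon
    have h1 : ∀ E ∈ 𝒦, ¬ pResidualOf p (E ⊔ O) ≤ N ⊔ O := by
      intro E hE h1
      refine hcon (hres' _ hN' fun K hK => ?_)
      obtain ⟨t, -, e⟩ := hTt T E hE K hK
      rw [e, ← conj_pResidualOf]
      exact conj_le_of_mem_normalizer h1 (hN' (mem_top t))
    have hC : ∀ X : Subgroup H, X ≤ N ⊔ O → X ≤ T → (T : Subgroup H) ≤ normalizer (X : Set H) →
        (∀ E ∈ 𝒦, X ≤ normalizer ((E ⊔ O : Subgroup H) : Set H)) → X ≤ O := by
      intro X x1 x2 x3 x4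
      have c1 : ⁅X, pResidualOf p ⊤⁆ ≤ O := by
        refine (commutator_mono le_rfl (hres' (⨆ E : 𝒦, pResidualOf p (E ⊔ O)) ?_ fun E hE =>
          le_iSup (fun E : 𝒦 => pResidualOf p ((E : Subgroup H) ⊔ O)) ⟨E, hE⟩)).trans
          (commutator_iSup_le (fun _ => hOn _) fun E => hA E E.2 X ?_)
        · rw [le_normalizer_iff_conj_le]
          intro g _
          rw [conj_iSup]
          refine iSup_le fun E => ?_
          rw [conj_pResidualOf, hc]
          exact le_iSup (fun E : 𝒦 => pResidualOf p ((E : Subgroup H) ⊔ O)) ⟨_, hinv g E E.2⟩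
        · refine (commutator_mono (le_inf ?_ (commutator_le_right_of_le_normalizer (x4 E E.2)))
            le_rfl).trans (hI E E.2 _ (le_top.trans hN') (h1 E E.2))
          exact (commutator_mono x1 le_rfl).trans
            (commutator_le_left_of_le_normalizer (le_top.trans hN'))
      refine le_sup_left.trans (le_pCore (N := X ⊔ O) (normal_iff_top_le.2 ?_)
        (T.isPGroup'.to_le (sup_le x2 hOT)))
      rw [← pResidualOf_sup_of_isSylowIn (isSylowIn_top T)]
      refine sup_le (le_normalizer_of_commutator_le (le_trans ?_ le_sup_right))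
        (le_normalizer_sup x3 (hOn _))
      rw [commutator_comm]
      exact commutator_sup_le (hOn _) (hOn _) ((commutator_comm _ _).le.trans c1)
        (commutator_le_right_of_le_normalizer (hOn _))
    have hTN : (T : Subgroup H) ≤ normalizer (((T : Subgroup H) ⊓ (N ⊔ O) : Subgroup H) : Set H) :=
      le_normalizer_inf le_normalizer (le_top.trans hN')
    have h2 : (T : Subgroup H) ⊓ (N ⊔ O) ⊓ R ≤ O := hC _ (inf_le_left.trans inf_le_right)
      (inf_le_left.trans inf_le_left) (le_normalizer_inf hTN (hRn' _))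
      fun E hE => inf_le_right.trans (hnorm E hE)
    have h3 : (T : Subgroup H) ⊓ (N ⊔ O) ≤ O := by
      refine hC _ inf_le_right inf_le_left hTN fun E hE x hx => ?_
      have n1 : (T : Subgroup H) ⊓ (N ⊔ O) ≤
          normalizer (((T : Subgroup H) ⊓ (E ⊔ O) : Subgroup H) : Set H) := by
        refine le_normalizer_of_commutator_le (le_trans (le_inf (le_inf ?_ ?_) ?_)
          (h2.trans (le_inf hOT le_sup_right)))
        · exact (commutator_mono inf_le_left inf_le_left).trans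
            (commutator_le_left_of_le_normalizer le_normalizer)
        · exact (commutator_mono le_rfl inf_le_right).trans
            (commutator_le_right_of_le_normalizer (le_top.trans hN'))
        · exact (commutator_mono (inf_le_right.trans (hER E hE)) le_rfl).trans
            (commutator_le_left_of_le_normalizer (hRn' _))
      have e := conj_eq_of_mem_normalizer (n1 hx)
      rw [conj_inf, conj_eq_of_mem (mem_inf.1 hx).1, hc] at e
      rcases hB E hE _ (hinv x E hE) with h4 | h4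
      · rw [mem_normalizer_iff_conj_eq, hc, ← hdec _ (hinv x E hE), ← h4, e, hdec E hE]
      · refine absurd (isPClosed_of_isSylowIn (hSyl T E hE) (le_normalizer_of_commutator_le ?_))
          (hS E hE).1
        rw [commutator_comm]
        exact (commutator_mono le_rfl (e.ge.trans inf_le_right)).trans
          (h4.trans (le_inf hOT le_sup_right))
    exact hNc (isPClosed_of_isSylowIn_le ((isSylowIn_top T).inf_normal le_top hN)
      ((le_inf ((inf_le_inf_left _ le_sup_left).trans h3) inf_le_right).trans (pCore_inf_le N)))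

end Cfsg.Agent.S2855
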