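import Cfsg.Statements.S2859
import Cfsg.Agent.Lib.Large

set_option autoImplicit false
open Cfsg

namespace Cfsg.Agent.S2859

open Subgroup Cfsg.Agent.Lib.PCoreConj Cfsg.Agent.Lib.PCore Cfsg.Agent.Lib.PCoreResidual Cfsg.Agent.Lib.PCoreMod
open Cfsg.Agent.Lib.PReduced Cfsg.Agent.Lib.PIrred Cfsg.Agent.Lib.Large
open scoped Pointwise commutatorElement

theorem aux {G : Type*} [Group G] [Finite G] {p : ℕ} [Fact p.Prime] {Q Hc H₁ H₂ K : Subgroup G}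
    (hwc : WCIn p Q ⊤) (hHc : nclIn Q Hc = Hc)
    (h₁ : H₁ ≤ Hc) (n₁ : Hc ≤ normalizer (H₁ : Set G)) (h₂ : H₂ ≤ Hc)
    (n₂ : Hc ≤ normalizer (H₂ : Set G)) (hprod : H₁ ⊔ H₂ = Hc)
    (hcomm : ⁅H₁, H₂⁆ ≤ normalizer (Q : Set G)) (hK : K = pResidualOf p (nclIn Q (H₁ ⊔ Q))) :
    (⁅K, Q⁆ = K ∧ ⁅K, H₁⁆ = K ∧ K ≤ ⁅H₁, H₁⁆ ∧ Hc ≤ normalizer (K : Set G)) ∧
      ⁅K, H₂⁆ ≤ pCoreOf p Hc ∧ K ≤ H₁ ∧ H₁ ≤ normalizer ((K ⊔ Q : Subgroup G) : Set G) ∧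
      pResidualOf p K = K := by
  have hQH : Q ≤ Hc := hHc ▸ le_nclIn Q Hc
  have nN : Hc ≤ normalizer ((⁅H₁, H₂⁆ : Subgroup G) : Set G) := le_normalizer_commutator n₁ n₂
  have hN1 : ⁅H₁, H₂⁆ ≤ H₁ := commutator_le_left_of_le_normalizer (h₂.trans n₁)
  set N := ⁅H₁, H₂⁆ with hN
  set R := pCoreOf p N with hR
  have nR : Hc ≤ normalizer (R : Set G) := le_normalizer_pCoreOf_of nN
  have hRp : IsPGroup p R := pCoreOf_isPGroup p N
  have hRN : R ≤ N := pCoreOf_le p N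
  have hNQ : ⁅N, Q⁆ ≤ R := by
    refine le_trans (le_inf ?_ ?_) (inf_le_pCoreOf hcomm hwc.isPGroup)
    · exact commutator_le_right_of_le_normalizer hcomm
    · exact commutator_le_left_of_le_normalizer (hQH.trans nN)
  have hNH : ⁅N, Hc⁆ ≤ R := by
    have := commutator_nclIn_le nR (hQH.trans nR) nN hNQ
    rwa [hHc] at this
  have h11 : ⁅⁅H₁, H₁⁆, H₂⁆ ≤ R := by
    refine three_subgroups (h₁.trans nR) (h₁.trans nR) (h₂.trans nR) ?_ ?_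
    · exact (commutator_mono le_rfl h₁).trans hNH
    · rw [commutator_comm H₂ H₁]; exact (commutator_mono le_rfl h₁).trans hNH
  have n11 : Hc ≤ normalizer ((⁅H₁, H₁⁆ ⊔ N : Subgroup G) : Set G) :=
    le_normalizer_sup (le_normalizer_commutator n₁ n₁) nN
  have h1H : ⁅H₁, Hc⁆ ≤ ⁅H₁, H₁⁆ ⊔ N := by
    conv_lhs => rw [← hprod]
    exact commutator_sup_le (h₁.trans n11) (h₂.trans n11) le_sup_left le_sup_right
  have hA2 : ⁅⁅H₁, Hc⁆, H₂⁆ ≤ R := by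
    rw [commutator_comm]
    refine (commutator_mono le_rfl h1H).trans (commutator_sup_le ?_ ?_ ?_ ?_)
    · exact ((commutator_le_left_of_le_normalizer le_normalizer).trans h₁).trans nR
    · exact (hN1.trans h₁).trans nR
    · rw [commutator_comm]; exact h11
    · rw [commutator_comm]; exact (commutator_mono le_rfl h₂).trans hNH
  set W := nclIn Q (H₁ ⊔ Q) with hW
  have hQW : Q ≤ W := le_nclIn _ _
  have hWW : nclIn Q W = W := hwc.nclIn_nclIn le_sup_right le_top le_rfl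
  have nW : H₁ ⊔ Q ≤ normalizer (W : Set G) := le_normalizer_nclIn _ _
  have nK : H₁ ⊔ Q ≤ normalizer (K : Set G) := hK ▸ le_normalizer_pResidualOf_of nW
  have hKQ : ⁅K, Q⁆ = K := hK ▸ commutator_pResidualOf_eq_of_nclIn hQW hWW hwc.isPGroup
  have hKK : pResidualOf p K = K := hK ▸ pResidualOf_idem p W
  have hKW : K ⊔ Q = W := hK ▸ pResidualOf_sup_eq_of_nclIn hQW hWW
  have hK1 : K ≤ H₁ := by
    rw [hK]
    exact (pResidualOf_mono (nclIn_le_of_le le_sup_right)).trans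
      (pResidualOf_sup_le hwc.isPGroup (hQH.trans n₁))
  have hK2 : ⁅K, H₂⁆ ≤ R := by
    refine le_trans (commutator_mono ?_ le_rfl) hA2
    rw [← hKQ]; exact commutator_mono hK1 hQH
  have hRK : R ≤ normalizer (K : Set G) := (hRN.trans (hN1.trans le_sup_left)).trans nK
  have hHK : Hc ≤ normalizer (K : Set G) := by
    have e : pResidualOf p (K ⊔ R) = K := by rw [pResidualOf_sup_eq hRp hRK, hKK]
    rw [← e]
    refine le_normalizer_pResidualOf_of ?_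
    rw [← hprod]
    refine sup_le (le_normalizer_sup (le_sup_left.trans nK) (h₁.trans nR)) ?_
    refine le_normalizer_of_commutator_le ?_
    rw [commutator_comm]
    refine commutator_sup_le (le_normalizer_of_le le_sup_left) (le_normalizer_of_le le_sup_right)
      ?_ ?_
    · rw [commutator_comm]; exact hK2.trans le_sup_right
    · exact (commutator_le_right_of_le_normalizer (h₂.trans nR)).trans le_sup_right
  have hKH : ⁅K, H₁⁆ = K := by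
    refine le_antisymm (commutator_le_left_of_le_normalizer (h₁.trans hHK)) ?_
    have nC : Hc ≤ normalizer ((⁅K, H₁⁆ : Subgroup G) : Set G) := le_normalizer_commutator hHK n₁
    have nCR := le_normalizer_sup nC nR
    have : K ≤ ⁅K, H₁⁆ ⊔ R := by
      conv_lhs => rw [← hKQ]
      refine (commutator_mono le_rfl (hQH.trans hprod.ge)).trans ?_
      exact commutator_sup_le (h₁.trans nCR) (h₂.trans nCR) le_sup_left (hK2.trans le_sup_right)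
    conv_lhs => rw [← hKK]
    exact (pResidualOf_mono this).trans
      (pResidualOf_sup_le hRp ((hRN.trans (hN1.trans h₁)).trans nC))
  refine ⟨⟨hKQ, hKH, ?_, hHK⟩, hK2.trans (pCoreOf_le_of_normal (hN1.trans h₁) nN), hK1, ?_, hKK⟩
  · rw [← hKH]; exact commutator_mono hK1 le_rfl
  · rw [hKW]; exact le_sup_left.trans nW

/-- Let Q be a nontrivial p-subgroup of the finite group H that is a weakly closed subgroup, H° the weak closure of Q in H (generated by the conjugates of Q) and H_∘ = O^p(H°). Suppose H₁, H₂ are normal subgroups of H° with H° = H₁H₂ and [H₁, H₂] ≤ N_H(Q), and put Kᵢ = O^p of the weak closure of Q in HᵢQ. Then for i = 1, 2: Kᵢ = [Kᵢ, Q] = [Kᵢ, Hᵢ] ≤ Hᵢ′ and Kᵢ is normal in H°; H_∘ = K₁K₂; and [K₁, K₂] ≤ O_p(H°). -/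
theorem result {G : Type*} [Group G] [Finite G] {p : ℕ} [Fact p.Prime] (Q : Subgroup G) (hQp : IsPGroup p ↥Q) (hQ1 : Q ≠ ⊥) (hwc : Cfsg.IsWeaklyClosedSubgroup p Q) (Hc : Subgroup G) (hHc : Hc = Cfsg.weakClosure Q ⊤) (H₁ H₂ : Subgroup G) (hn₁ : H₁ ≤ Hc ∧ Hc ≤ Subgroup.normalizer ((H₁ : Subgroup G) : Set G)) (hn₂ : H₂ ≤ Hc ∧ Hc ≤ Subgroup.normalizer ((H₂ : Subgroup G) : Set G)) (hprod : H₁ ⊔ H₂ = Hc) (hcomm : ⁅H₁, H₂⁆ ≤ Subgroup.normalizer ((Q : Subgroup G) : Set G)) (K₁ K₂ : Subgroup G) (hK₁ : K₁ = ((Cfsg.pResidual p ↥(Cfsg.weakClosure Q (H₁ ⊔ Q))).map ((Cfsg.weakClosure Q (H₁ ⊔ Q))).subtype)) (hK₂ : K₂ = ((Cfsg.pResidual p ↥(Cfsg.weakClosure Q (H₂ ⊔ Q))).map ((Cfsg.weakClosure Q (H₂ ⊔ Q))).subtype)) : (⁅K₁, Q⁆ = K₁ ∧ ⁅K₁, H₁⁆ = K₁ ∧ K₁ ≤ ⁅H₁, H₁⁆ ∧ Hc ≤ Subgroup.normalizer ((K₁ : Subgroup G) : Set G)) ∧ (⁅K₂, Q⁆ = K₂ ∧ ⁅K₂, H₂⁆ = K₂ ∧ K₂ ≤ ⁅H₂, H₂⁆ ∧ Hc ≤ Subgroup.normalizer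 ((K₂ : Subgroup G) : Set G)) ∧ K₁ ⊔ K₂ = ((Cfsg.pResidual p ↥Hc).map (Hc).subtype) ∧ ⁅K₁, K₂⁆ ≤ (Cfsg.pCoreOf p Hc) := by
  have hw := isWeaklyClosedSubgroup_iff.1 hwc
  rw [hw.weakClosure_eq le_top] at hHc
  rw [pResidualOf_def, hw.weakClosure_eq le_sup_right] at hK₁ hK₂
  have hH : nclIn Q Hc = Hc := hHc ▸ hw.nclIn_nclIn le_top le_top le_rfl
  have hQH : Q ≤ Hc := hH ▸ le_nclIn Q Hc
  obtain ⟨a1, a2, a3, a4, a5⟩ := aux hw hH hn₁.1 hn₁.2 hn₂.1 hn₂.2 hprod hcomm hK₁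
  obtain ⟨b1, b2, b3, b4, b5⟩ := aux hw hH hn₂.1 hn₂.2 hn₁.1 hn₁.2 (sup_comm H₁ H₂ ▸ hprod)
    (commutator_comm H₁ H₂ ▸ hcomm) hK₂
  refine ⟨a1, b1, ?_, (commutator_mono le_rfl b3).trans a2⟩
  rw [pResidualOf_def]
  refine le_antisymm (sup_le ?_ ?_) ?_
  · rw [← a5]; exact pResidualOf_mono (a3.trans hn₁.1)
  · rw [← b5]; exact pResidualOf_mono (b3.trans hn₂.1)
  · have nK := le_normalizer_sup a1.2.2.2 b1.2.2.2
    refine le_trans (pResidualOf_mono ?_) (pResidualOf_sup_le hQp (hQH.trans nK))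
    rw [← hH]
    refine nclIn_le le_sup_right ?_
    rw [← hprod]
    refine sup_le ?_ ?_
    · have := le_normalizer_sup a4 (hn₁.1.trans b1.2.2.2)
      rwa [sup_right_comm] at this
    · have := le_normalizer_sup (hn₂.1.trans a1.2.2.2) b4
      rwa [← sup_assoc] at this

end Cfsg.Agent.S2859
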