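import Cfsg.Statements.S2860
import Cfsg.Agent.Lib.Large
import Cfsg.Agent.Lib.FStarComp

set_option autoImplicit false
open Cfsg

namespace Cfsg.Agent.S2860

open Subgroup Cfsg.Agent.Lib.PCoreConj Cfsg.Agent.Lib.PCore Cfsg.Agent.Lib.PCoreResidual Cfsg.Agent.Lib.PCoreMod
open Cfsg.Agent.Lib.PReduced Cfsg.Agent.Lib.PIrred Cfsg.Agent.Lib.Large
open scoped Pointwise commutatorElement

/-- `X C / C` is quasisimple, in ambient form. -/
structure QSMod {G : Type*} [Group G] (X C : Subgroup G) : Prop where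
  perfect : X ≤ ⁅X, X⁆ ⊔ C
  ne : ¬ X ≤ C
  dich : ∀ N : Subgroup G, N ≤ X → X ≤ normalizer (N : Set G) → ⁅N, X⁆ ≤ C ∨ X ≤ N ⊔ C

section
variable {G : Type*} [Group G] {X C K Y : Subgroup G}

theorem qsMod_of_map {G' : Type*} [Group G'] (f : G →* G') (h : IsQuasisimple (X.map f)) :
    QSMod X f.ker := by
  refine ⟨?_, fun hc => Lib.FStarComp.IsQuasisimple.ne_bot h ((Subgroup.map_eq_bot_iff _).2 hc), ?_⟩
  · rw [← comap_map_eq, ← map_le_iff_le_comap, map_commutator,
      Lib.FStarComp.IsQuasisimple.perfect h]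
  · intro N h₁ h₂
    rcases Lib.FStarComp.IsQuasisimple.commutator_eq_bot_or_eq h (map_mono h₁)
      (le_normalizer_map f h₂) with h₃ | h₃
    · left; rwa [← map_commutator, Subgroup.map_eq_bot_iff] at h₃
    · right; rw [← comap_map_eq, ← map_le_iff_le_comap, h₃]

theorem QSMod.isQuasisimple_map {G' : Type*} [Group G'] (f : G →* G') (h : QSMod X f.ker) :
    IsQuasisimple (X.map f) := by
  refine Lib.FStarComp.isQuasisimple_of_normalizer (fun hc => h.ne ((Subgroup.map_eq_bot_iff _).1 hc)) ?_ ?_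
  · refine le_antisymm (commutator_le_left_of_le_normalizer le_normalizer) ?_
    rw [← map_commutator, map_le_iff_le_comap, comap_map_eq]; exact h.perfect
  · intro N h₁ h₂
    have e : (X ⊓ N.comap f).map f = N := by
      refine le_antisymm (map_le_iff_le_comap.2 inf_le_right) fun y hy => ?_
      obtain ⟨x, hx, rfl⟩ := h₁ hy
      exact ⟨x, ⟨hx, hy⟩, rfl⟩
    rcases h.dich (X ⊓ N.comap f) inf_le_left (le_normalizer_inf le_normalizer
      ((le_comap_map f X).trans (le_normalizer_comap f h₂))) with h₃ | h₃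
    · left; rw [← e, ← map_commutator, Subgroup.map_eq_bot_iff]; exact h₃
    · right; refine le_antisymm h₁ ?_
      rw [← e, map_le_iff_le_comap, comap_map_eq]; exact h₃

theorem QSMod.map_subtype {E : Subgroup G} {A B : Subgroup E} (h : QSMod A B) :
    QSMod (A.map E.subtype) (B.map E.subtype) := by
  refine ⟨?_, fun hc => h.ne (map_le_map_iff_of_injective E.subtype_injective |>.1 hc), ?_⟩
  · rw [← map_commutator, ← Subgroup.map_sup]; exact map_mono h.perfect
  · intro N h₁ h₂
    have hN : N ≤ E := h₁.trans (map_subtype_le _)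
    have e := subgroupOf_map_subtype_of_le hN
    have h₃ := le_normalizer_subgroupOf h₂ E
    rw [map_subtype_subgroupOf] at h₃
    rcases h.dich (N.subgroupOf E) (by
      rw [← map_le_map_iff_of_injective E.subtype_injective, e]; exact h₁) h₃ with h₄ | h₄
    · left; rw [← e, ← map_commutator]; exact map_mono h₄
    · right; rw [← e, ← Subgroup.map_sup]; exact map_mono h₄

theorem QSMod.of_map_subtype {E : Subgroup G} {A B : Subgroup E}
    (h : QSMod (A.map E.subtype) (B.map E.subtype)) : QSMod A B := by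
  have i := fun (S T : Subgroup E) => map_le_map_iff_of_injective (H := S) (K := T)
    E.subtype_injective
  refine ⟨?_, fun hc => h.ne (map_mono hc), ?_⟩
  · rw [← i, Subgroup.map_sup, map_commutator]; exact h.perfect
  · intro N h₁ h₂
    rcases h.dich (N.map E.subtype) (map_mono h₁) (le_normalizer_map _ h₂) with h₄ | h₄
    · left; rwa [← i, map_commutator]
    · right; rwa [← i, Subgroup.map_sup]

theorem QSMod.isQuasisimple_quotient (R : Subgroup X) [R.Normal]
    (h : QSMod X (R.map X.subtype)) : IsQuasisimple (X ⧸ R) := by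
  have h₁ : QSMod (⊤ : Subgroup X) (QuotientGroup.mk' R).ker := by
    rw [QuotientGroup.ker_mk']
    refine QSMod.of_map_subtype ?_
    rwa [← MonoidHom.range_eq_map, range_subtype]
  have h₂ := h₁.isQuasisimple_map
  rw [← MonoidHom.range_eq_map, MonoidHom.range_eq_top.2 (QuotientGroup.mk'_surjective R)] at h₂
  exact Lib.FStarComp.isQuasisimple_top_iff.1 h₂

theorem commutator_sup_sup_le (hC : X ≤ normalizer (C : Set G)) {N : Subgroup G}
    (hN : N ≤ X) (hn : X ≤ normalizer (N : Set G)) : ⁅N ⊔ C, X ⊔ C⁆ ≤ ⁅N, X⁆ ⊔ C := by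
  have n₁ : X ≤ normalizer ((⁅N, X⁆ ⊔ C : Subgroup G) : Set G) :=
    le_normalizer_sup (le_normalizer_commutator hn le_normalizer) hC
  have n₂ : C ≤ normalizer ((⁅N, X⁆ ⊔ C : Subgroup G) : Set G) := le_normalizer_of_le le_sup_right
  refine commutator_sup_le n₁ n₂ ?_ ?_
  · rw [commutator_comm]
    refine commutator_sup_le (hN.trans n₁) n₂ ?_ ?_
    · rw [commutator_comm]; exact le_sup_left
    · exact (commutator_le_right_of_le_normalizer hC).trans le_sup_right
  · exact (commutator_le_right_of_le_normalizer (sup_le (hN.trans hC) le_normalizer)).trans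
      le_sup_right

theorem QSMod.of_sup (h : QSMod (X ⊔ C) C) (hC : X ≤ normalizer (C : Set G)) : QSMod X C := by
  refine ⟨le_sup_left.trans (h.perfect.trans (sup_le
    (commutator_sup_sup_le hC le_rfl le_normalizer) le_sup_right)),
    fun hc => h.ne (sup_le hc le_rfl), fun N h₁ h₂ => ?_⟩
  rcases h.dich (N ⊔ C) (sup_le_sup_right h₁ _) (sup_le (le_normalizer_sup h₂ hC)
    (le_normalizer_of_le le_sup_right)) with h₃ | h₃
  · exact .inl ((commutator_mono le_sup_left le_sup_left).trans h₃)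
  · exact .inr (le_sup_left.trans (h₃.trans (by simp)))

theorem QSMod.inf (h : QSMod X C) (hC : X ≤ normalizer (C : Set G)) : QSMod X (C ⊓ X) := by
  have d : ∀ N : Subgroup G, N ≤ X → X ≤ N ⊔ C → X ≤ N ⊔ C ⊓ X := fun N h₁ h₂ => by
    rw [← sup_inf_of_le_normalizer (h₁.trans hC) h₁]; exact le_inf h₂ le_rfl
  refine ⟨d _ (commutator_le_left_of_le_normalizer le_normalizer) h.perfect,
    fun hc => h.ne (hc.trans inf_le_left), fun N h₁ h₂ => ?_⟩
  rcases h.dich N h₁ h₂ with h₃ | h₃
  · exact .inl (le_inf h₃ ((commutator_le_left_of_le_normalizer h₂).trans h₁))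
  · exact .inr (d N h₁ h₃)

theorem QSMod.commutator_dich (h : QSMod X C) (hC : X ≤ normalizer (C : Set G))
    (hYC : Y ≤ normalizer (C : Set G)) (hY : Y ≤ normalizer (X : Set G)) :
    ⁅X, Y⁆ ≤ C ∨ X ≤ ⁅X, Y⁆ ⊔ C := by
  rcases h.dich ⁅X, Y⁆ (commutator_le_left_of_le_normalizer hY)
    (normalizer_commutator_ge_left X Y) with h₁ | h₁
  · left
    rw [commutator_comm]
    refine (commutator_mono le_rfl h.perfect).trans (commutator_sup_le
      ((commutator_le_left_of_le_normalizer le_normalizer).trans hC) le_normalizer ?_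
      (commutator_le_right_of_le_normalizer hYC))
    rw [commutator_comm]
    refine three_subgroups hC hC hYC h₁ ?_
    rwa [commutator_comm Y X]
  · exact .inr h₁

end

/-- Let Q be a nontrivial large p-subgroup of the finite group H, U a nontrivial elementary abelian p-subgroup of H, and Q ≤ E ≤ N_H(U) with Q not normal in E. Suppose O_p(E/C_E(U)) = 1 and O^p(E)·C_E(U)/C_E(U) is quasisimple. Let E° be the weak closure of Q in E (generated by the conjugates of Q inside E) and E_∘ = O^p(E°). Then O^p(E)·C_E(U) = E_∘·C_E(U); E_∘ is perfect and equals O^p(E_∘); E_∘/C_{E_∘}(U) and E_∘/O_p(E_∘) are quasisimple; and E_∘ = [E_∘, Y] for every p-subgroup Y of E not centralizing U. -/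
theorem result {G : Type*} [Group G] [Finite G] {p : ℕ} [Fact p.Prime] (Q : Subgroup G) (hQp : IsPGroup p ↥Q) (hQ1 : Q ≠ ⊥) (hQ : Cfsg.IsLarge Q) (U : Subgroup G) (hU : Cfsg.IsElementaryAbelian p U) (hU1 : U ≠ ⊥) (E : Subgroup G) (hQE : Q ≤ E) (hEU : E ≤ Subgroup.normalizer ((U : Subgroup G) : Set G)) (hQn : ¬ E ≤ Subgroup.normalizer ((Q : Subgroup G) : Set G)) [hn : ((Subgroup.centralizer ((U : Subgroup G) : Set G)).subgroupOf E).Normal] (hred : Cfsg.pCore p (↥E ⧸ (Subgroup.centralizer ((U : Subgroup G) : Set G)).subgroupOf E) = ⊥) (hqs : Cfsg.IsQuasisimple ↥(((Cfsg.pResidual p ↥E) ⊔ (Subgroup.centralizer ((U : Subgroup G) : Set G)).subgroupOf E).map (QuotientGroup.mk' ((Subgroup.centralizer ((U : Subgroup G) : Set G)).subgroupOf E)))) (Er : Subgroup G) (hEr : Er = ((Cfsg.pResidual p ↥(Cfsg.weakClosure Q E)).map ((Cfsg.weakClosure Q E)).subtype)) [hn2 : ((Subgroup.centralizer ((U : Subgroup G) : Set G)).subgroupOf Er).Normal] : ((Cfsg.pResidual p ↥E).map (E).subtype)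 ⊔ (E ⊓ Subgroup.centralizer ((U : Subgroup G) : Set G)) = Er ⊔ (E ⊓ Subgroup.centralizer ((U : Subgroup G) : Set G)) ∧ ⁅Er, Er⁆ = Er ∧ ((Cfsg.pResidual p ↥Er).map (Er).subtype) = Er ∧ Cfsg.IsQuasisimple (↥Er ⧸ (Subgroup.centralizer ((U : Subgroup G) : Set G)).subgroupOf Er) ∧ Cfsg.IsQuasisimple (↥Er ⧸ Cfsg.pCore p ↥Er) ∧ ∀ Y : Subgroup G, Y ≤ E → IsPGroup p ↥Y → ¬ Y ≤ Subgroup.centralizer ((U : Subgroup G) : Set G) → ⁅Er, Y⁆ = Er := by
  have hw := wcIn_of_isLarge hQ hQp hQ1
  have hUp := isPGroup_of_isElementaryAbelian hU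
  rw [pResidualOf_def, hw.weakClosure_eq hQE] at hEr
  rw [pResidualOf_def, pResidualOf_def]
  set K := pResidualOf p E with hK
  set C := E ⊓ centralizer (U : Set G) with hC
  set W := nclIn Q E with hW
  have nC : E ≤ normalizer (C : Set G) :=
    le_normalizer_inf le_normalizer (le_normalizer_centralizer hEU)
  have nK : E ≤ normalizer (K : Set G) := le_normalizer_pResidualOf p E
  have hKE : K ≤ E := pResidualOf_le p E
  have hWE : W ≤ E := nclIn_le_of_le hQE
  have hXW : Er ≤ W := hEr ▸ pResidualOf_le p W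
  have nX : E ≤ normalizer (Er : Set G) :=
    hEr ▸ le_normalizer_pResidualOf_of (le_normalizer_nclIn _ _)
  have hXX : pResidualOf p Er = Er := hEr ▸ pResidualOf_idem p W
  have hXK : Er ≤ K := hXX ▸ pResidualOf_mono (hXW.trans hWE)
  have hred' : ∀ D : Subgroup G, D ≤ E → E ≤ normalizer (D : Set G) →
      (∀ x ∈ D, ∃ k, x ^ p ^ k ∈ centralizer (U : Set G)) → D ≤ C := fun D h₁ h₂ h₃ =>
    le_inf h₁ ((le_pCoreMod h₁ h₂ h₃).trans ((pCore_quotient_eq_bot_iff_pCoreMod_le _).1 hred))
  have hq : QSMod (K ⊔ C) C := by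
    have := (qsMod_of_map _ hqs).map_subtype
    rwa [QuotientGroup.ker_mk', Subgroup.map_sup, pResidualOf_def, subgroupOf_map_subtype,
      inf_comm] at this
  have hA : ∀ Y : Subgroup G, Y ≤ E → IsPGroup p Y → ⁅K, Y⁆ ≤ C → Y ≤ C := by
    intro Y h₁ h₂ h₃
    obtain ⟨P, hP, hYP⟩ := exists_isSylowIn_ge h₁ h₂
    have hD : nclIn Y P ≤ P := nclIn_le_of_le hYP
    refine (le_nclIn Y P).trans (le_sup_left.trans (hred' (nclIn Y P ⊔ C)
      (sup_le (hD.trans hP.le) inf_le_left) ?_ fun x hx => ?_))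
    · rw [← pResidualOf_sup_of_isSylowIn hP]
      refine sup_le ?_ (le_normalizer_sup (le_normalizer_nclIn _ _) (hP.le.trans nC))
      refine le_normalizer_of_commutator_le (le_trans ?_ le_sup_right)
      rw [commutator_comm]
      exact commutator_sup_le (hD.trans (hP.le.trans nC)) le_normalizer
        (commutator_nclIn_le (hP.le.trans nC) (h₁.trans nC) (hP.le.trans nK) h₃)
        (commutator_le_right_of_le_normalizer (hKE.trans nC))
    · obtain ⟨k, hk⟩ := exists_pow_mem_of_mem_sup (p := p) (hD.trans (hP.le.trans nC)) (fun a ha =>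
        by obtain ⟨k, hk⟩ := isPGroup_iff_forall_mem.1 hP.isPGroup a (hD ha)
           exact ⟨k, hk ▸ one_mem _⟩) hx
      exact ⟨k, (mem_inf.1 hk).2⟩
  have hCQ : C ≤ normalizer (Q : Set G) :=
    inf_le_right.trans (centralizer_le_normalizer_of_isLarge hQ hQp hUp hU1 (hQE.trans hEU))
  set R := pCoreOf p C with hR
  have hRp : IsPGroup p R := pCoreOf_isPGroup p C
  have nR : E ≤ normalizer (R : Set G) := le_normalizer_pCoreOf_of nC
  have hRE : R ≤ E := (pCoreOf_le p C).trans inf_le_left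
  have hCQR : ⁅C, Q⁆ ≤ R := le_trans (le_inf (commutator_le_right_of_le_normalizer hCQ)
    (commutator_le_left_of_le_normalizer (hQE.trans nC))) (inf_le_pCoreOf hCQ hQp)
  have hCW : ⁅C, W⁆ ≤ R := commutator_nclIn_le nR (hQE.trans nR) nC hCQR
  have hQC : ¬ Q ≤ C := fun hc => hQn ((le_inf le_top nR).trans
    (hw.inf_normalizer_le hRp (le_pCoreOf hc hCQ hQp)))
  have hKX : K ⊔ C = Er ⊔ C := by
    refine le_antisymm (sup_le ?_ le_sup_right) (sup_le_sup_right hXK _)
    rcases (hq.of_sup (hKE.trans nC)).commutator_dich (hKE.trans nC) (hQE.trans nC)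
      (hQE.trans nK) with h₁ | h₁
    · exact (hQC (hA Q hQE hQp h₁)).elim
    · have h₂ : K ≤ W ⊔ C := h₁.trans (sup_le_sup_right ((commutator_comm K Q).le.trans
        ((commutator_mono le_rfl hKE).trans (commutator_le_nclIn Q E))) _)
      rw [hK, ← pResidualOf_idem, hEr]
      exact (pResidualOf_mono h₂).trans (pResidualOf_sup_le_sup (hWE.trans nC))
  have hXE := hXW.trans hWE
  have hqX : QSMod Er C := (hKX ▸ hq).of_sup (hXE.trans nC)
  have hqX' := hqX.inf (hXE.trans nC)
  have hB : ∀ N : Subgroup G, N ≤ Er → Er ≤ normalizer (N : Set G) → Er ≤ N ⊔ R → Er ≤ N := by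
    intro N h₁ h₂ h₃
    have h₄ : Er ≤ N ⊔ R ⊓ Er := by
      rw [← sup_inf_of_le_normalizer (h₁.trans (hXE.trans nR)) h₁]; exact le_inf h₃ le_rfl
    conv_lhs => rw [← hXX]
    exact (pResidualOf_mono h₄).trans (pResidualOf_sup_le (hRp.to_le inf_le_left)
      (inf_le_right.trans h₂))
  have hXQ : ⁅Er, Q⁆ = Er := hEr ▸ commutator_pResidualOf_eq_of_nclIn (le_nclIn _ _)
    (hw.nclIn_nclIn hQE le_top le_rfl) hQp
  have hperf : ⁅Er, Er⁆ = Er := by
    have n₁ : E ≤ normalizer ((⁅Er, Er⁆ : Subgroup G) : Set G) := le_normalizer_commutator nX nX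
    have h₁ : ⁅Er, Er⁆ ≤ Er := commutator_le_left_of_le_normalizer le_normalizer
    refine le_antisymm h₁ (hB _ h₁ (hXE.trans n₁) ?_)
    have n₂ := le_normalizer_sup n₁ nR
    conv_lhs => rw [← hXQ, commutator_comm]
    refine (commutator_mono le_rfl hqX.perfect).trans (commutator_sup_le
      ((h₁.trans hXE).trans n₂) (inf_le_left.trans n₂) ?_ ?_)
    · exact (commutator_le_right_of_le_normalizer (hQE.trans n₁)).trans le_sup_left
    · rw [commutator_comm]; exact hCQR.trans le_sup_right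
  have hD : ∀ N : Subgroup G, N ≤ Er → Er ≤ normalizer (N : Set G) → Er ≤ N ⊔ C → Er ≤ N := by
    intro N h₁ h₂ h₃
    refine hB N h₁ h₂ ?_
    have h₄ : Er ≤ N ⊔ C ⊓ Er := by
      rw [← sup_inf_of_le_normalizer (h₁.trans (hXE.trans nC)) h₁]; exact le_inf h₃ le_rfl
    have n₂ := le_normalizer_sup h₂ (hXE.trans nR)
    conv_lhs => rw [← hperf]
    refine (commutator_mono le_rfl h₄).trans (commutator_sup_le (h₁.trans n₂)
      (inf_le_right.trans n₂) ?_ ?_)
    · exact (commutator_le_right_of_le_normalizer h₂).trans le_sup_left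
    · rw [commutator_comm]
      exact ((commutator_mono inf_le_left hXW).trans hCW).trans le_sup_right
  refine ⟨hKX, hperf, hXX, QSMod.isQuasisimple_quotient _ ?_, QSMod.isQuasisimple_quotient _ ?_,
    fun Y h₁ h₂ h₃ => ?_⟩
  · rw [subgroupOf_map_subtype]
    have e : C ⊓ Er = centralizer (U : Set G) ⊓ Er := by
      rw [hC, inf_comm E, inf_assoc, inf_eq_right.2 hXE]
    exact e ▸ hqX'
  · rw [pCoreOf_def]
    have hRX : R ⊓ Er ≤ pCoreOf p Er := inf_le_pCoreOf (hXE.trans nR) hRp
    have nO := le_normalizer_pCoreOf p Er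
    refine ⟨hperf.ge.trans le_sup_left, fun hc => hqX.ne (hc.trans (hred' _
      ((pCoreOf_le p Er).trans hXE) (le_normalizer_pCoreOf_of nX) fun x hx => ?_)),
      fun N h₁ h₂ => ?_⟩
    · obtain ⟨k, hk⟩ := isPGroup_iff_forall_mem.1 (pCoreOf_isPGroup p Er) x hx
      exact ⟨k, hk ▸ one_mem _⟩
    · rcases hqX.dich N h₁ h₂ with h₃ | h₃
      · left
        have h₄ : ⁅⁅N, Er⁆, Er⁆ ≤ pCoreOf p Er :=
          le_trans (le_inf ((commutator_mono h₃ hXW).trans hCW)
            (commutator_le_right_of_le_normalizer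
              (((commutator_le_left_of_le_normalizer h₂).trans h₁).trans le_normalizer))) hRX
        conv_lhs => rw [← hperf, commutator_comm]
        refine three_subgroups nO nO (h₁.trans nO) ?_ h₄
        rwa [commutator_comm Er N]
      · exact .inr ((hD N h₁ h₂ h₃).trans le_sup_left)
  · have h₄ := commutator_le_left_of_le_normalizer (h₁.trans nX)
    refine le_antisymm h₄ (hD _ h₄ (normalizer_commutator_ge_left _ _) ?_)
    refine (hqX.commutator_dich (hXE.trans nC) (h₁.trans nC) (h₁.trans nX)).resolve_left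
      fun hc => h₃ ((hA Y h₁ h₂ ?_).trans inf_le_right)
    rw [commutator_comm]
    refine (commutator_mono le_rfl (le_sup_left.trans hKX.le)).trans (commutator_sup_le
      (hXE.trans nC) le_normalizer ?_ (commutator_le_right_of_le_normalizer (h₁.trans nC)))
    rwa [commutator_comm]

end Cfsg.Agent.S2860
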