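import Cfsg.Statements.S2861
import Cfsg.Agent.Lib.FrakL

set_option autoImplicit false
open Cfsg

namespace Cfsg.Agent.S2861

open Subgroup Cfsg.Agent.Lib.PCoreConj Cfsg.Agent.Lib.PCore Cfsg.Agent.Lib.PCoreResidual Cfsg.Agent.Lib.PCoreMod
open Cfsg.Agent.Lib.PReduced Cfsg.Agent.Lib.FrakL
open scoped Pointwise commutatorElement

/-- Standing hypotheses: G a finite group, S a Sylow p-subgroup, Q a nontrivial large p-subgroup of G contained in S, M a subgroup containing S with the basic property (M ∈ 𝔐_G(S)); Y_M the largest p-reduced normal subgroup of M and M† = M·C_G(Y_M). Let L ∈ 𝔏_G(Y_M) (L ∈ 𝔏_G(Y_M): Y_M ≤ L; O_p(L) is the normal closure in L of Y_M ∩ O_p(L) and normalizes Y_M; L is Y_M-minimal of characteristic p with N_L(Y_M) its unique maximal subgroup over Y_M; and L/O_p(L) ≅ SL₂(q) with q = |Y_M : Y_M ∩ O_p(L)|, or p = 2 and L/O_p(L) is a Suzuki group Sz(q) or dihedral of order 2r, r an odd prime) and A =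 O_p(L). Then Y_M·A/A is the unique nontrivial elementary abelian normal p-subgroup of N_L(Y_M)/A. -/
theorem result {G : Type*} [Group G] [Finite G] {p : ℕ} [Fact p.Prime] (S : Sylow p G) (Q : Subgroup G) (hQp : IsPGroup p ↥Q) (hQ1 : Q ≠ ⊥) (hQS : Q ≤ (S : Subgroup G)) (hQ : Cfsg.IsLarge Q) (M : Subgroup G) (hSM : (S : Subgroup G) ≤ M) (hM : Cfsg.IsInFrakM p M) (L : Subgroup G) (hL : Cfsg.IsInFrakL p M L) (NL : Subgroup G) (hNL : NL = L ⊓ Subgroup.normalizer (((Cfsg.largestPReducedOf p M) : Subgroup G) : Set G)) [hn : (((Cfsg.pCoreOf p L)).subgroupOf NL).Normal] : let Ybar : Subgroup (↥NL ⧸ ((Cfsg.pCoreOf p L)).subgroupOf NL) := (((Cfsg.largestPReducedOf p M)).subgroupOf NL).map (QuotientGroup.mk' (((Cfsg.pCoreOf p L)).subgroupOf NL)); Ybar ≠ ⊥ ∧ Ybar.Normal ∧ Cfsg.IsElementaryAbelian p Ybar ∧ ∀ (V : Subgroup (↥NL ⧸ ((Cfsg.pCoreOf p L)).subgroupOf NL)), V.Normal → Cfsg.IsElementaryAbelian p V → V ≠ ⊥ → V = Ybar :=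 by
  obtain ⟨X, _, φ, hs, hk, hI, -, hirr⟩ := exists_hom_of_isInFrakL hL
  have h := hyp_of_isInFrakL hL
  have hYL := hL.1
  set Y := largestPReducedOf p M with hY
  have hNLL : NL ≤ L := hNL ▸ inf_le_left
  have hYN : Y ≤ NL := hNL ▸ le_inf hYL le_normalizer
  have hmem : ∀ x : L, x ∈ normalizer ((Y.subgroupOf L : Subgroup L) : Set L) ↔ (x : G) ∈ NL := by
    intro x
    rw [normalizer_eq_subgroupOf, subgroupOf_map_subtype_of_le hYL, mem_subgroupOf, hNL, mem_inf]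
    exact ⟨fun H => ⟨x.2, H⟩, fun H => H.2⟩
  set π := QuotientGroup.mk' ((pCoreOf p L).subgroupOf NL) with hπ
  set ψ := φ.comp (inclusion hNLL) with hψ
  have hker : ∀ a b : NL, π a = π b ↔ ψ a = ψ b := by
    intro a b
    rw [hπ, QuotientGroup.mk'_apply, QuotientGroup.mk'_apply, QuotientGroup.eq, mem_subgroupOf,
      ← inv_mul_eq_one, ← map_inv, ← map_mul, hψ, MonoidHom.comp_apply, ← MonoidHom.mem_ker, hk,
      mem_pCore_iff]
    rfl
  have hirr' : ∀ V ≤ (Y.subgroupOf L).map φ, V ≠ ⊥ → (∀ b : NL, ψ b ∈ normalizer (V : Set X)) →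
      V = (Y.subgroupOf L).map φ := by
    intro V h₁ h₂ h₃
    obtain ⟨⟨v, hv⟩, hv1⟩ := ne_bot_iff_exists_ne_one.1 h₂
    replace hv1 : v ≠ 1 := fun e => hv1 (Subtype.ext e)
    by_cases hp2 : p = 2
    · subst hp2
      refine le_antisymm h₁ fun t ht => ?_
      by_cases ht1 : t = 1
      · exact ht1 ▸ one_mem _
      obtain ⟨b, hb, rfl⟩ := h.exists_conj_two hs hk hI (h₁ hv) ht hv1 ht1
      exact (mem_normalizer_iff.1 (h₃ ⟨b, (hmem b).1 hb⟩) v).1 hv
    · refine hirr hp2 V h₁ h₂ fun g hg => ?_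
      obtain ⟨g, rfl⟩ := hs g
      refine h₃ ⟨g, (hmem g).1 (h.mem_normalizer_of_mem hk (h₁ hv) ?_ hv1)⟩
      rw [conj_eq_of_mem_normalizer hg]; exact h₁ hv
  refine ⟨fun hb => h.map_ne_bot hk ((Subgroup.map_eq_bot_iff _).2 fun y hy => ?_), ?_,
    isElementaryAbelian_map (isElementaryAbelian_subgroupOf (isPRed_largest p M).elem NL) _, ?_⟩
  · have := (Subgroup.map_eq_bot_iff _).1 hb (show (⟨y, hYN hy⟩ : NL) ∈ Y.subgroupOf NL from hy)
    rw [QuotientGroup.ker_mk'] at this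
    rw [hk]; exact mem_pCore_iff.2 this
  · exact (normal_subgroupOf_of_le (hNL ▸ inf_le_right)).map _ (QuotientGroup.mk'_surjective _)
  · intro V hVn hVe hV
    have h₁ : ∀ b : NL, π b ∈ V → ψ b ∈ (Y.subgroupOf L).map φ := by
      intro b hb
      refine h.mem_map_of_pow hs hk hI ((hmem _).2 b.2) ?_
      have := (hker (b ^ p) 1).1 (by rw [map_pow, map_one]; exact hVe.2 _ hb)
      rwa [map_pow, map_one] at this
    have h₂ := hirr' ((V.comap π).map ψ) (by rintro _ ⟨b, hb, rfl⟩; exact h₁ b hb) (fun hb => hV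
      (eq_bot_iff.2 fun v hv => by
        obtain ⟨b, rfl⟩ := QuotientGroup.mk'_surjective _ v
        have := (Subgroup.map_eq_bot_iff _).1 hb (show b ∈ V.comap π from hv)
        exact ((hker b 1).2 (by rw [map_one]; exact this)).trans (map_one π)))
      fun b => le_normalizer_map ψ (L := ⊤) (normal_iff_top_le.1 (hVn.comap π)) ⟨b, mem_top b, rfl⟩
    refine le_antisymm (fun v hv => ?_) ?_
    · obtain ⟨b, rfl⟩ := QuotientGroup.mk'_surjective _ v
      obtain ⟨y, hy, e⟩ := h₁ b hv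
      exact ⟨⟨y, hYN hy⟩, hy, (hker _ _).2 e⟩
    · rintro _ ⟨y, hy, rfl⟩
      obtain ⟨b, hb, e⟩ := h₂.ge (show ψ y ∈ _ from ⟨inclusion hNLL y, hy, rfl⟩)
      exact (hker _ _).2 e ▸ hb

end Cfsg.Agent.S2861
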