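import Cfsg.Statements.S2862
import Cfsg.Agent.Lib.Large
import Cfsg.Agent.Lib.CoprimeBaerSuzuki

set_option autoImplicit false
open Cfsg

namespace Cfsg.Agent.S2862

open Subgroup Cfsg.Agent.Lib.PCoreConj Cfsg.Agent.Lib.PCore Cfsg.Agent.Lib.PCoreResidual Cfsg.Agent.Lib.PCoreMod
open Cfsg.Agent.Lib.PReduced Cfsg.Agent.Lib.PIrred Cfsg.Agent.Lib.Large
open scoped Pointwise commutatorElement

section
variable {G : Type*} [Group G] {O Y Y' L : Subgroup G}

theorem exists_mul_of_mem_commutator (hY : Y ≤ normalizer (O : Set G))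
    (hY' : Y' ≤ normalizer (O : Set G)) {v : G} (hv : v ∈ ⁅O, Y ⊔ Y'⁆) :
    ∃ d ∈ ⁅O, Y⁆, ∃ d' ∈ ⁅O, Y'⁆, d * d' = v := by
  have h₁ := commutator_le_left_of_le_normalizer hY
  have h₂ := commutator_le_left_of_le_normalizer hY'
  refine (mem_sup_iff_of_le_normalizer (h₁.trans (normalizer_commutator_ge_left O Y'))).1 ?_
  exact commutator_sup_le (le_normalizer_of_commutator_le_of_le le_sup_left (sup_le h₁ h₂))
    (le_normalizer_of_commutator_le_of_le le_sup_right (sup_le h₁ h₂)) le_sup_left le_sup_right hv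

theorem mem_centralizer_conj {h u : G} (hu : u ∈ centralizer (Y : Set G)) :
    h * u * h⁻¹ ∈ centralizer ((Y ^ᶜ h : Subgroup G) : Set G) := by
  rw [← conj_centralizer]; exact conj_mem_conj h hu

theorem inf_centralizer_le_of_sup {h : G} (hL : Y ⊔ Y ^ᶜ h = L) (hh : h ∈ L)
    (hLO : L ≤ normalizer (O : Set G)) (hOY : O ≤ normalizer (Y : Set G))
    (hY : Y ≤ centralizer (Y : Set G)) : ⁅O, L⁆ ⊓ centralizer (Y : Set G) ≤ Y := by
  intro v hv
  obtain ⟨hv₁, hv₂⟩ := mem_inf.1 hv
  have hOY' : O ≤ normalizer ((Y ^ᶜ h : Subgroup G) : Set G) := by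
    have := le_normalizer_conj hOY h
    rwa [conj_eq_of_mem_normalizer (hLO hh)] at this
  obtain ⟨d, hd, d', hd', rfl⟩ := exists_mul_of_mem_commutator (hL ▸ le_sup_left |>.trans hLO)
    (hL ▸ le_sup_right |>.trans hLO) (hL ▸ hv₁)
  have h₁ := commutator_le_right_of_le_normalizer hOY hd
  have h₂ := commutator_le_right_of_le_normalizer hOY' hd'
  have h₃ : d' ∈ centralizer (L : Set G) := by
    rw [← hL, centralizer_sup]
    refine ⟨(Subgroup.mul_mem_cancel_left _ (hY h₁)).1 hv₂, ?_⟩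
    rw [← conj_centralizer]; exact conj_mono h hY h₂
  refine Y.mul_mem h₁ ?_
  have := mem_conj_iff.1 h₂
  rwa [mul_assoc, ← h₃ h hh, inv_mul_cancel_left] at this

theorem inf_centralizer_le_sup {h : G} (hL : Y ⊔ Y ^ᶜ h = L) (hh : h ∈ L)
    (hLO : L ≤ normalizer (O : Set G)) (hOY : O ≤ normalizer (Y : Set G))
    (hY : Y ≤ centralizer (Y : Set G)) {u : G} (hu : u ∈ O ⊓ centralizer (Y : Set G)) :
    ∃ c ∈ O ⊓ centralizer (L : Set G), ∃ d ∈ ⁅O, Y⁆, u = d * c := by
  obtain ⟨hu₁, hu₂⟩ := mem_inf.1 hu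
  have hOY' : O ≤ normalizer ((Y ^ᶜ h : Subgroup G) : Set G) := by
    have := le_normalizer_conj hOY h
    rwa [conj_eq_of_mem_normalizer (hLO hh)] at this
  have hYO := hL ▸ le_sup_left |>.trans hLO
  obtain ⟨d, hd, d', hd', e⟩ := exists_mul_of_mem_commutator hYO
    (hL ▸ le_sup_right |>.trans hLO) (hL ▸ commutator_mem_commutator hu₁ hh)
  have h₁ := commutator_le_right_of_le_normalizer hOY hd
  have h₂ := commutator_le_right_of_le_normalizer hOY' hd'
  refine ⟨d⁻¹ * u, mem_inf.2 ⟨O.mul_mem (O.inv_mem (commutator_le_left_of_le_normalizer hYO hd)) hu₁,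
    ?_⟩, d, hd, by group⟩
  rw [← hL, centralizer_sup]
  refine mem_inf.2 ⟨mul_mem (inv_mem (hY h₁)) hu₂, ?_⟩
  have e' : d⁻¹ * u = d' * (h * u * h⁻¹) := by
    rw [commutatorElement_def] at e
    calc d⁻¹ * u = d⁻¹ * (u * h * u⁻¹ * h⁻¹) * (h * u * h⁻¹) := by group
      _ = _ := by rw [← e]; group
  rw [e']
  refine mul_mem ?_ (mem_centralizer_conj hu₂)
  rw [← conj_centralizer]; exact conj_mono h hY h₂

/-- The key step: the normalizer in `L` of `D = [O, L] ∩ Y` normalizes `Y`. -/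
theorem inf_normalizer_le [Finite G] {p : ℕ} [Fact p.Prime] {R H : Subgroup G} {h : G}
    (hL : Y ⊔ Y ^ᶜ h = L) (hh : h ∈ L) (hH : CharPIn p H) (hO : O = pCoreOf p H) (hLH : L ≤ H)
    (hRH : R ≤ H) (hwc : WCIn p R ⊤) (hN : normalizer (R : Set G) ≤ normalizer (Y : Set G))
    (hYR : Y ≤ R) (hRY : R ≤ centralizer (Y : Set G)) :
    L ⊓ normalizer ((⁅O, L⁆ ⊓ Y : Subgroup G) : Set G) ≤ normalizer (Y : Set G) := by
  have hOp : IsPGroup p O := hO ▸ pCoreOf_isPGroup p H
  have nO : H ≤ normalizer (O : Set G) := hO ▸ le_normalizer_pCoreOf p H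
  have hOR : O ≤ normalizer (R : Set G) :=
    hwc.le_normalizer_of_le_normalizer hOp le_top (hRH.trans nO)
  have hY := hYR.trans hRY
  have hYL : Y ≤ L := hL ▸ le_sup_left
  set D := ⁅O, L⁆ ⊓ Y with hD
  set X := L ⊓ normalizer (D : Set G) with hX
  set F := O ⊓ centralizer (Y : Set G) with hF
  set Z := O ⊓ centralizer (O : Set G) with hZ
  have hXH : X ≤ H := inf_le_left.trans hLH
  have hDO : D ≤ O := inf_le_left.trans (commutator_le_left_of_le_normalizer (hLH.trans nO))
  have hDF : D ≤ F := le_inf hDO (inf_le_right.trans hY)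
  have hOY : ⁅O, Y⁆ ≤ D := le_inf (commutator_mono le_rfl hYL)
    (commutator_le_right_of_le_normalizer (hOR.trans hN))
  have hFX : ⁅F, X⁆ ≤ D := by
    refine commutator_le.2 fun u hu x hx => ?_
    obtain ⟨c, hc, d, hd, rfl⟩ := inf_centralizer_le_sup hL hh (hLH.trans nO) (hOR.trans hN) hY hu
    have e : ⁅d * c, x⁆ = d * (x * d⁻¹ * x⁻¹) := by
      have := (mem_inf.1 hc).2 x (mem_inf.1 hx).1
      rw [commutatorElement_def, mul_assoc d, ← this]; group
    rw [e]
    exact D.mul_mem (hOY hd) ((mem_normalizer_iff.1 (mem_inf.1 hx).2 _).1 (D.inv_mem (hOY hd)))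
  have nF : X ≤ normalizer (F : Set G) := le_normalizer_of_commutator_le (hFX.trans hDF)
  have nFR : R ≤ normalizer (F : Set G) := le_normalizer_inf (hRH.trans nO)
    (le_normalizer_centralizer (le_normalizer_of_le_centralizer hRY))
  have nZ : H ≤ normalizer (Z : Set G) := le_normalizer_inf nO (le_normalizer_centralizer nO)
  have hRD : R ≤ centralizer (D : Set G) := hRY.trans (centralizer_anti inf_le_right)
  set K := nclIn R X with hK
  have hKH : K ≤ H := nclIn_le hRH (hXH.trans le_normalizer)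
  have hKD : K ≤ centralizer (D : Set G) := nclIn_le_centralizer inf_le_right hRD
  have hOK : ⁅O, K⁆ ≤ F := commutator_nclIn_le nF nFR (hXH.trans nO)
    (le_inf (commutator_le_left_of_le_normalizer (hRH.trans nO))
      ((commutator_le_right_of_le_normalizer hOR).trans hRY))
  have nb : ∀ A : Subgroup G, A ≤ normalizer ((⊥ : Subgroup G) : Set G) := fun A => by
    rw [normalizer_eq_top]; exact le_top
  have hYK : ⁅Y, K⁆ ≤ Z := by
    have h₁ : ⁅⁅Y, K⁆, O⁆ ≤ ⊥ := by
      refine three_subgroups (nb _) (nb _) (nb _) ?_ ?_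
      · rw [commutator_comm K O]
        exact (commutator_mono hOK le_rfl).trans
          (commutator_eq_bot_iff_le_centralizer.2 inf_le_right).le
      · exact (commutator_mono hOY le_rfl).trans
          (commutator_eq_bot_iff_le_centralizer'.2 hKD).le
    have h₂ := commutator_eq_bot_iff_le_centralizer.1 (le_bot_iff.1 h₁)
    refine le_inf ?_ h₂
    rw [hO] at h₂ ⊢
    exact hH.le_pCoreOf ((commutator_mono (hYR.trans hRH) hKH).trans
      (commutator_le_left_of_le_normalizer le_normalizer)) h₂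
  set K₀ := ⁅R, X⁆ with hK₀
  have hK₀K : K₀ ≤ K := commutator_le_nclIn R X
  have hKe : K = R ⊔ K₀ := nclIn_eq_sup_commutator R X
  have hZF : ⁅K₀, Z ⊓ F⁆ ≤ D := by
    refine three_subgroups (le_normalizer_of_le_centralizer hRD) inf_le_right
      (le_normalizer_of_le_centralizer (inf_le_left.trans (inf_le_right.trans
        (centralizer_anti hDO)))) ?_ ?_
    · rw [commutator_comm X]
      exact (commutator_mono ((commutator_mono inf_le_right le_rfl).trans hFX) le_rfl).trans
        ((commutator_eq_bot_iff_le_centralizer'.2 hRD).le.trans bot_le)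
    · exact (commutator_mono ((commutator_mono inf_le_right le_rfl).trans
        (commutator_le_left_of_le_normalizer nFR)) le_rfl).trans hFX
  have hE : pResidualOf p K₀ ≤ K := (pResidualOf_le p K₀).trans hK₀K
  have nFK : K ≤ normalizer (F : Set G) := le_normalizer_of_commutator_le
    ((commutator_mono inf_le_left le_rfl).trans hOK)
  have c₁ : pResidualOf p K₀ ≤ centralizer ((Z ⊓ F : Subgroup G) : Set G) :=
    pResidualOf_le_centralizer_of_le (hOp.to_le (inf_le_left.trans inf_le_left))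
      (hE.trans (le_normalizer_inf (hKH.trans nZ) nFK))
      ((commutator_comm _ _).le.trans ((commutator_mono (pResidualOf_le p K₀) le_rfl).trans hZF))
      (hE.trans hKD)
  have c₂ : pResidualOf p K₀ ≤ centralizer (Z : Set G) :=
    pResidualOf_le_centralizer_of_le (hOp.to_le inf_le_left) (hE.trans (hKH.trans nZ))
      (le_inf (commutator_le_left_of_le_normalizer (hE.trans (hKH.trans nZ)))
        ((commutator_mono inf_le_left hE).trans hOK)) c₁
  have hYZ : ⁅Y ⊔ Z, K⁆ ≤ Z := by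
    rw [commutator_comm]
    refine commutator_sup_le ((hYR.trans hRH).trans nZ) le_normalizer ?_
      (commutator_le_right_of_le_normalizer (hKH.trans nZ))
    rwa [commutator_comm]
  have c₃ : pResidualOf p K₀ ≤ centralizer ((Y ⊔ Z : Subgroup G) : Set G) :=
    pResidualOf_le_centralizer_of_le (IsPGroup.to_sup_of_normal_right' (hwc.isPGroup.to_le hYR)
      (hOp.to_le inf_le_left) ((hYR.trans hRH).trans nZ))
      (hE.trans (le_normalizer_of_commutator_le (hYZ.trans le_sup_right)))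
      ((commutator_mono le_rfl hE).trans hYZ) c₂
  obtain ⟨T, hT, -, hTR⟩ := hwc.exists_isSylowIn (le_nclIn R X) le_top
  have hKY : K ≤ normalizer (Y : Set G) := by
    rw [hKe]
    refine sup_le (le_normalizer_of_le_centralizer hRY) ?_
    rw [← pResidualOf_sup_of_isSylowIn (hT.inf_normal hK₀K (hKe.le.trans
      (sup_le (normalizer_commutator_ge_left R X) le_normalizer)))]
    exact sup_le (le_normalizer_of_le_centralizer (c₃.trans (centralizer_anti le_sup_left)))
      (inf_le_left.trans (hTR.trans hN))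
  intro x hx
  obtain ⟨k, hk, e⟩ := hwc.exists_conj_eq (le_nclIn R X) le_top (mem_top x) (conj_le_nclIn R hx)
  have h₁ : k⁻¹ * x ∈ normalizer (R : Set G) := by
    rw [mem_normalizer_iff_conj_eq, ← conj_conj, e, conj_conj_inv]
  have := mul_mem (hKY hk) (hN h₁)
  rwa [mul_inv_cancel_left] at this

end

/-- Standing hypotheses: G a finite group, S a Sylow p-subgroup, Q a nontrivial large p-subgroup of G contained in S, M a subgroup containing S with the basic property (M ∈ 𝔐_G(S)); Y_M the largest p-reduced normal subgroup of M and M† = M·C_G(Y_M). Suppose Y_M is char-p-tall and asymmetric in G, H ∈ ℌ_G(O_p(M)), and L is minimal among the subgroups of H containing Y_M with Y_M ≰ O_p(L). Then H = ⟨L, O_p(M)⟩ = ⟨hY_Mh⁻¹, O_p(M)⟩ for every h ∈ L outside N_L(Y_M); L is Y_M-minimal and of characteristic p, with N_L(Y_M) the unique maximal subgroup of L containing Y_M; [V, O^p(L)] ≠ 1 for every noncentral chief factor V/W of H inside O_p(H) (that is, O^p(L) does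 not act trivially on V/W); and the normal closure of O_p(L) ∩ Y_M in L lies in O_p(H). -/
theorem result {G : Type*} [Group G] [Finite G] {p : ℕ} [Fact p.Prime] (S : Sylow p G) (Q : Subgroup G) (hQp : IsPGroup p ↥Q) (hQ1 : Q ≠ ⊥) (hQS : Q ≤ (S : Subgroup G)) (hQ : Cfsg.IsLarge Q) (M : Subgroup G) (hSM : (S : Subgroup G) ≤ M) (hM : Cfsg.IsInFrakM p M) (htall : Cfsg.IsCharPTall p (Cfsg.largestPReducedOf p M)) (hasym : ¬ Cfsg.IsSymmetricIn (Cfsg.largestPReducedOf p M)) (H : Subgroup G) (hH : Cfsg.IsInFrakH p M H) (L : Subgroup G) (hLH : L ≤ H) (hYL : (Cfsg.largestPReducedOf p M) ≤ L) (hYO : ¬ (Cfsg.largestPReducedOf p M) ≤ (Cfsg.pCoreOf p L)) (hmin : ∀ L' : Subgroup G, L' ≤ L → (Cfsg.largestPReducedOf p M) ≤ L' → ¬ (Cfsg.largestPReducedOf p M) ≤ (Cfsg.pCoreOf p L') → L' = L) : (L ⊔ (Cfsg.pCoreOf p M) = H ∧ ∀ h ∈ L, h ∉ Subgroup.normalizer (((Cfsg.largestPReducedOf p M) : Subgroup G) : Set G) → (((Cfsg.largestPReducedOf p M) : Subgroup G).map (MulAut.conj (h :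 G)).toMonoidHom) ⊔ (Cfsg.pCoreOf p M) = H) ∧ (Cfsg.IsMinimalOver (((Cfsg.largestPReducedOf p M)).subgroupOf L) ∧ Subgroup.centralizer (Cfsg.pCore p ↥L : Set ↥L) ≤ Cfsg.pCore p ↥L ∧ L ⊓ Subgroup.normalizer (((Cfsg.largestPReducedOf p M) : Subgroup G) : Set G) < L ∧ ∀ X : Subgroup G, (Cfsg.largestPReducedOf p M) ≤ X → X < L → X ≤ L ⊓ Subgroup.normalizer (((Cfsg.largestPReducedOf p M) : Subgroup G) : Set G)) ∧ (∀ V W' : Subgroup G, V ≤ (Cfsg.pCoreOf p H) → H ≤ Subgroup.normalizer ((V : Subgroup G) : Set G) → H ≤ Subgroup.normalizer ((W' : Subgroup G) : Set G) → W' < V → (∀ Z' : Subgroup G, H ≤ Subgroup.normalizer ((Z' : Subgroup G) : Set G) → W' ≤ Z' → Z' ≤ V → Z' = W' ∨ Z' = V) → ¬ ⁅V, H⁆ ≤ W' → ¬ ⁅V, ((Cfsg.pResidual p ↥L).map (L).subtype)⁆ ≤ W') ∧ (Subgroup.normalClosure (((((Cfsg.pCoreOf p L) ⊓ (Cfsg.largestPReducedOf p M)).subgroupOf L : Subgroup ↥L)) : Set ↥L)).map L.subtype ≤ (Cfsg.pCoreOf p H) := by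
  have hG := isOfParabolicCharacteristic_of_isLarge hQ hQp hQ1
  have hT := isSylowIn_top S
  have hwc := wcIn_pCoreOf hG hT hSM hM hasym
  have hN := normalizer_pCoreOf_le hT hSM hM
  have hYR := largestPReducedOf_le_pCoreOf p M
  have hRY := pCoreOf_le_centralizer_largest p M
  have hYp := largest_isPGroup p M
  have hirr := frakH_pIrrIn hH
  have hres := frakH_pResidualOf_le hH
  obtain ⟨hcp, hRH, hYH, hP⟩ := hH
  replace hcp := charPIn_iff.1 hcp
  rw [pResidualOf_def]
  set Y := largestPReducedOf p M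
  set R := pCoreOf p M
  set O := pCoreOf p H with hO
  have hY := hYR.trans hRY
  have hOp : IsPGroup p O := pCoreOf_isPGroup p H
  have nO : H ≤ normalizer (O : Set G) := le_normalizer_pCoreOf p H
  have hOY : O ≤ normalizer (Y : Set G) :=
    (hwc.le_normalizer_of_le_normalizer hOp le_top (hRH.trans nO)).trans hN
  have hgen : ∀ g ∈ L, ¬ IsPGroup p ↥(Y ⊔ Y ^ᶜ g) → Y ⊔ Y ^ᶜ g = L := by
    intro g hg hnp
    refine hmin _ (sup_le hYL (conj_le_of_mem hYL hg)) le_sup_left fun hc => hnp ?_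
    refine (IsPGroup.to_sup_of_normal_left' (pCoreOf_isPGroup p (Y ⊔ Y ^ᶜ g)) (isPGroup_conj hYp g)
      (le_sup_right.trans (le_normalizer_pCoreOf p _))).to_le (sup_le_sup_right hc _)
  obtain ⟨h, hh, hL⟩ : ∃ h ∈ L, Y ⊔ Y ^ᶜ h = L := by
    by_contra hc
    refine hYO (Lib.CoprimeBaerSuzuki.le_pCoreOf_of_forall_sup_conj hYL fun g hg => ?_)
    by_contra hnp
    exact hc ⟨g, hg, hgen g hg hnp⟩
  have hwY : WCIn p Y L := by
    refine wcIn_of_forall_commutator hYL hYp fun g hg h₁ h₂ => ?_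
    have h₃ := le_centralizer_of_not_isSymmetricIn hasym h₁ h₂
    refine conj_eq_of_mem_normalizer (inf_normalizer_le hL hh hcp hO hLH hRH hwc hN hYR hRY
      ⟨hg, mem_normalizer_of_conj_le ?_⟩)
    have e : ⁅O, L⁆ ^ᶜ g = ⁅O, L⁆ :=
      conj_eq_of_mem_normalizer (normalizer_commutator_ge_right O L hg)
    rw [conj_inf, e]
    exact le_inf inf_le_left ((inf_le_inf_left _ h₃).trans
      (inf_centralizer_le_of_sup hL hh (hLH.trans nO) hOY hY))
  have hLR : L ⊔ R = H := by
    by_contra hne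
    exact hYO ((le_inf (hP _ le_sup_right (lt_of_le_of_ne (sup_le hLH hRH) hne)) hYL).trans
      (pCoreOf_inf_le le_sup_left))
  have ha : ∀ g ∈ L, g ∉ normalizer (Y : Set G) → Y ^ᶜ g ⊔ R = H := by
    intro g hg hgn
    have := hgen g hg fun hc => hgn (mem_normalizer_iff_conj_eq.2 (hwY.eq g hg hc))
    rw [← hLR, ← this, sup_right_comm, sup_eq_right.2 hYR, sup_comm]
  have hlt : L ⊓ normalizer (Y : Set G) < L := lt_of_le_of_ne inf_le_left fun e =>
    hYO (le_pCoreOf hYL (e.ge.trans inf_le_right) hYp)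
  have hmax : ∀ X : Subgroup G, Y ≤ X → X < L → X ≤ L ⊓ normalizer (Y : Set G) := by
    intro X h₁ h₂
    have h₃ : Y ≤ pCoreOf p X := by
      by_contra hc
      exact h₂.ne (hmin X h₂.le h₁ hc)
    exact le_inf h₂.le ((le_inf h₂.le (le_normalizer_pCoreOf p X)).trans
      (hwY.inf_normalizer_le (pCoreOf_isPGroup p X) h₃))
  have hncl : nclIn Y L = L := le_antisymm (nclIn_le_of_le hYL)
    (hL.ge.trans (sup_le (le_nclIn _ _) (conj_le_nclIn Y hh)))
  have hOY' : O ≤ normalizer ((Y ^ᶜ h : Subgroup G) : Set G) := by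
    have := le_normalizer_conj hOY h
    rwa [conj_eq_of_mem_normalizer (nO (hLH hh))] at this
  have hY'L : Y ^ᶜ h ≤ L := conj_le_of_mem hYL hh
  refine ⟨⟨hLR, ha⟩, ⟨isMinimalOver_iff.2 ⟨_, MinOver.subgroupOf ⟨hncl,
    le_inf hYL le_normalizer, hlt, hmax⟩⟩, charPIn_iff.2 ?_, hlt, hmax⟩, ?_, ?_⟩
  · refine (hcp.of_pCoreOf_le le_sup_right (sup_le hLH (pCoreOf_le p H))).normal le_sup_left
      (sup_le le_normalizer (le_normalizer_of_commutator_le ?_))
    rw [commutator_comm]
    intro v hv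
    obtain ⟨d, hd, d', hd', rfl⟩ := exists_mul_of_mem_commutator (hYL.trans (hLH.trans nO))
      (hY'L.trans (hLH.trans nO)) (hL ▸ hv)
    exact L.mul_mem (hYL (commutator_le_right_of_le_normalizer hOY hd))
      (hY'L (commutator_le_right_of_le_normalizer hOY' hd'))
  · intro V W hVO nV nW hWV hch hnc hc
    have hEH := (pResidualOf_le p L).trans hLH
    have h₁ := commutator_nclIn_le nW (hEH.trans nW) nV hc
    have h₂ : H ≤ nclIn (pResidualOf p L) H ⊔ R := by
      refine hLR.ge.trans (sup_le ?_ le_sup_right)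
      exact (pResidualOf_sup_eq_of_nclIn hYL hncl).ge.trans (sup_le_sup (le_nclIn _ _) hYR)
    have nVH : H ≤ normalizer ((⁅V, H⁆ : Subgroup G) : Set G) := normalizer_commutator_ge_right V H
    have h₃ : W ⊔ ⁅V, H⁆ = V := (hch _ (le_normalizer_sup nW nVH) le_sup_left
      (sup_le hWV.le (commutator_le_left_of_le_normalizer nV))).resolve_left
      fun e => hnc (le_sup_right.trans e.le)
    have hVH := hVO.trans (pCoreOf_le p H)
    refine hWV.not_ge (le_of_le_sup_commutator hwc.isPGroup (hOp.to_le hVO) (hRH.trans nV)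
      (hRH.trans nW) (hVH.trans nW) (h₃.ge.trans (sup_le le_sup_left ?_)))
    have hle : W ⊔ ⁅V, R⁆ ≤ V := sup_le hWV.le (commutator_le_left_of_le_normalizer (hRH.trans nV))
    exact (commutator_mono le_rfl h₂).trans (commutator_sup_le
      (le_normalizer_of_commutator_le_of_le (h₁.trans le_sup_left) hle)
      (le_normalizer_of_commutator_le_of_le le_sup_right hle) (h₁.trans le_sup_left) le_sup_right)
  · rw [map_normalClosure_subgroupOf (inf_le_right.trans hYL)]
    refine nclIn_le ?_ (hLH.trans nO)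
    by_contra hc
    set Y₀ := pCoreOf p L ⊓ Y
    have hhn : h ∉ normalizer (Y : Set G) := fun hn => by
      rw [conj_eq_of_mem_normalizer hn, sup_idem] at hL
      exact hYO (hL.le.trans (pCoreOf_eq_self (hL ▸ hYp)).ge)
    have hH' := ha h hh hhn
    have hZ : H ≤ centralizer ((Y ⊓ Y ^ᶜ h : Subgroup G) : Set G) := by
      rw [← hH']
      refine sup_le (le_trans ?_ (centralizer_anti inf_le_right))
        (hRY.trans (centralizer_anti inf_le_left))
      rw [← conj_centralizer]; exact conj_mono h hY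
    have nZ := le_normalizer_of_le_centralizer hZ
    have hY'H := hY'L.trans hLH
    have h₀ : ⁅O, Y ^ᶜ h⁆ ≤ O := commutator_le_left_of_le_normalizer (hY'H.trans nO)
    set U := nclIn ⁅O, Y ^ᶜ h⁆ R with hU
    have hUO : U ≤ O := nclIn_le h₀ (hRH.trans nO)
    have nU : H ≤ normalizer (U : Set G) := hH'.ge.trans (sup_le
      (le_normalizer_of_commutator_le_of_le (le_nclIn _ _) hUO) (le_normalizer_nclIn _ _))
    have h₁ : ⁅Y₀, U⁆ ≤ Y ⊓ Y ^ᶜ h := by
      refine commutator_nclIn_le (hRH.trans nZ) ((h₀.trans (pCoreOf_le p H)).trans nZ)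
        (le_normalizer_of_le_centralizer (hRY.trans (centralizer_anti inf_le_right))) (le_inf ?_ ?_)
      · exact (commutator_mono inf_le_right h₀).trans (commutator_le_left_of_le_normalizer hOY)
      · refine (commutator_mono inf_le_left (commutator_le_right_of_le_normalizer hOY')).trans
          (commutator_le_right_of_le_normalizer ?_)
        exact (hwY.conj_of_mem hh).le_normalizer_of_le_normalizer (pCoreOf_isPGroup p L)
          (pCoreOf_le p L) (hY'L.trans (le_normalizer_pCoreOf p L))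
    have hY₀H : Y₀ ≤ H := inf_le_right.trans (hYL.trans hLH)
    have h₂ : ⁅U, pResidualOf p H⁆ ≤ Y ⊓ Y ^ᶜ h :=
      (commutator_mono le_rfl (hirr.le_nclIn (hYp.to_le inf_le_right) hY₀H hc)).trans
        (commutator_nclIn_le nZ (hY₀H.trans nZ) nU ((commutator_comm _ _).le.trans h₁))
    have hEH := pResidualOf_le p H
    have h₃ := pResidualOf_le_centralizer_of_le (hOp.to_le hUO) (hEH.trans nU) h₂ (hEH.trans hZ)
    have h₄ : ⁅O, pResidualOf p H⁆ ≤ U := by
      refine (commutator_mono le_rfl hres).trans ?_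
      rw [← nclIn_conj_of_mem Y (hLH hh)]
      exact commutator_nclIn_le nU (hY'H.trans nU) nO (le_nclIn _ _)
    have h₅ := hcp.isPGroup_of_le le_rfl (pResidualOf_le_centralizer_of_le hOp (hEH.trans nO) h₄ h₃)
    exact hYH ((hYR.trans hRH).trans (pCoreOf_eq_self h₅).ge)

end Cfsg.Agent.S2862
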