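import Cfsg.Statements.S2864
import Cfsg.Agent.Lib.Large

set_option autoImplicit false
open Cfsg

namespace Cfsg.Agent.S2864

open Subgroup Cfsg.Agent.Lib.PCoreConj Cfsg.Agent.Lib.PCore Cfsg.Agent.Lib.PCoreResidual Cfsg.Agent.Lib.PCoreMod
open Cfsg.Agent.Lib.PReduced Cfsg.Agent.Lib.PIrred Cfsg.Agent.Lib.Large
open scoped Pointwise commutatorElement

/-- Standing hypotheses: G a finite group, S a Sylow p-subgroup, Q a nontrivial large p-subgroup of G contained in S, M a subgroup containing S with the basic property (M ∈ 𝔐_G(S)); Y_M the largest p-reduced normal subgroup of M and M† = M·C_G(Y_M). Let I be a nontrivial normal p-subgroup of M and Y ≤ O_p(M†); let L be a subgroup of G containing Y and A a normal p-subgroup of L with I ≤ A ≤ M. If [Y, A] ≤ [I, A], then Y ≤ O_p(L). -/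
theorem result {G : Type*} [Group G] [Finite G] {p : ℕ} [Fact p.Prime] (S : Sylow p G) (Q : Subgroup G) (hQp : IsPGroup p ↥Q) (hQ1 : Q ≠ ⊥) (hQS : Q ≤ (S : Subgroup G)) (hQ : Cfsg.IsLarge Q) (M : Subgroup G) (hSM : (S : Subgroup G) ≤ M) (hM : Cfsg.IsInFrakM p M) (I : Subgroup G) (hI1 : I ≠ ⊥) (hIp : IsPGroup p ↥I) (hIM : I ≤ M ∧ M ≤ Subgroup.normalizer ((I : Subgroup G) : Set G)) (Y : Subgroup G) (hY : Y ≤ (Cfsg.pCoreOf p (M ⊔ Subgroup.centralizer (((Cfsg.largestPReducedOf p M) : Subgroup G) : Set G)))) (L : Subgroup G) (hYL : Y ≤ L) (A : Subgroup G) (hAp : IsPGroup p ↥A) (hAL : A ≤ L ∧ L ≤ Subgroup.normalizer ((A : Subgroup G) : Set G)) (hIA : I ≤ A) (hAM : A ≤ M) (hc : ⁅Y, A⁆ ≤ ⁅I, A⁆) : Y ≤ (Cfsg.pCoreOf p L) := by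
  have hG := isOfParabolicCharacteristic_of_isLarge hQ hQp hQ1
  have hN := normalizer_le_dagger hG (isSylowIn_top S) hSM hM hIp hI1 hIM.2
  obtain ⟨K, hYK, hKL, hK, -⟩ := exists_subnormalClosure_in hYL
  have hKA : K ⊔ A ≤ normalizer (A : Set G) := sup_le (hKL.le.trans hAL.2) le_normalizer
  set Z := nclIn I (K ⊔ A) with hZ
  have hZA : Z ≤ A := nclIn_le hIA hKA
  have nZ : K ⊔ A ≤ normalizer (Z : Set G) := le_normalizer_nclIn _ _
  have nC : K ⊔ A ≤ normalizer ((⁅Z, A⁆ : Subgroup G) : Set G) := le_normalizer_commutator nZ hKA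
  have hIZ : ⁅I, A⁆ ≤ ⁅Z, A⁆ := commutator_mono (le_nclIn _ _) le_rfl
  have h1 : ⁅A, K⁆ ≤ ⁅Z, A⁆ := by
    have := commutator_nclIn_le (le_sup_left.trans nC) ((hYK.trans le_sup_left).trans nC)
      (le_sup_left.trans hKA) ((commutator_comm A Y).le.trans (hc.trans hIZ))
    rwa [hK] at this
  have h2 : Z ≤ I ⊔ ⁅Z, A⁆ := by
    conv_lhs => rw [hZ, nclIn_eq_sup_commutator]
    exact sup_le_sup_left (commutator_sup_le (le_sup_left.trans nC) (le_sup_right.trans nC)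
      ((commutator_mono hIA le_rfl).trans h1) hIZ) _
  have h3 : Z = I := le_antisymm (le_of_le_sup_commutator hAp (hAp.to_le hZA)
    (le_sup_right.trans nZ) (hAM.trans hIM.2) (hZA.trans (hAM.trans hIM.2)) h2) (le_nclIn _ _)
  have h4 := (le_sup_left.trans (h3 ▸ nZ)).trans hN
  exact ((le_inf hY hYK).trans (pCoreOf_inf_le h4)).trans (pCoreOf_le_of_subnormalIn hKL)

end Cfsg.Agent.S2864
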