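import Cfsg.Statements.S2872
import Cfsg.Agent.Lib.PCoreResidual
import Cfsg.Agent.Lib.LocIdx
import Cfsg.Agent.Lib.FrattiniFacts

set_option autoImplicit false
open Cfsg

namespace Cfsg.Agent.S2872

open Subgroup Cfsg.Agent.Lib Cfsg.Agent.Lib.PCoreConj Cfsg.Agent.Lib.PCore
  Cfsg.Agent.Lib.PCoreResidual Cfsg.Agent.Lib.LocIdx

/-- Let S be a Sylow 2-subgroup of the finite group G. Then G has a proper normal subgroup of 2-power index (O²(G) ≠ G), or Ω₁(Z(S)) is contained in the Frattini subgroup of S, or N_G(S) acts nontrivially on Ω₁(Z(S)) by conjugation. -/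
theorem result {G : Type*} [Group G] [Finite G] (S : Sylow 2 G) : Cfsg.pResidual 2 G ≠ ⊤ ∨ Cfsg.omegaOne 2 ((S : Subgroup G) ⊓ Subgroup.centralizer ((S : Subgroup G) : Set G)) ≤ (frattini ↥(S : Subgroup G)).map (S : Subgroup G).subtype ∨ ∃ g ∈ Subgroup.normalizer ((S : Subgroup G) : Set G), ∃ z ∈ Cfsg.omegaOne 2 ((S : Subgroup G) ⊓ Subgroup.centralizer ((S : Subgroup G) : Set G)), g * z * g⁻¹ ≠ z := by
  classical
  by_contra hn
  push Not at hn
  obtain ⟨hG, h1, h2⟩ := hn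
  obtain ⟨z, hz, hz'⟩ := SetLike.not_le_iff_exists.1 h1
  obtain ⟨hzS, hzC, hz2⟩ := mem_omegaOneCenter_iff.1 hz
  obtain ⟨M₀, hM₀, h3⟩ : ∃ M₀ : Subgroup (S : Subgroup G), IsCoatom M₀ ∧ ⟨z, hzS⟩ ∉ M₀ := by
    by_contra hn
    push Not at hn
    exact hz' ⟨⟨z, hzS⟩, FrattiniFacts.le_frattini_iff.2 (fun M hM => zpowers_le.2 (hn M hM))
      (mem_zpowers _), rfl⟩
  haveI := S.2.isNilpotent
  haveI := FrattiniFacts.normal_of_isCoatom hM₀
  obtain ⟨k, hk⟩ := S.2.index M₀
  have h4 := FrattiniFacts.index_prime_of_isCoatom_normal hM₀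
  have h5 : M₀.index = 2 := by
    rw [hk] at h4 ⊢
    rw [h4.eq_one_of_pow, pow_one]
  set M := M₀.map (S : Subgroup G).subtype
  have hMS : M ≤ S := map_subtype_le _
  have hM : M.relIndex S = 2 := by
    rw [relIndex, subgroupOf, comap_map_eq_self_of_injective (subtype_injective _), h5]
  have hzM : z ∉ M := fun ⟨y, hy, e⟩ => h3 (by rwa [← Subtype.ext (a2 := ⟨z, hzS⟩) e])
  have hSM := le_normalizer_of_relIndex_two hM hMS
  let Y : SubMulAction (S : Subgroup G) (G ⧸ (S : Subgroup G)) :=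
    { carrier := {q | ∃ g : G, (g : G ⧸ (S : Subgroup G)) = q ∧ g⁻¹ * z * g ∈ M}
      smul_mem' := by
        rintro s _ ⟨g, rfl, hg⟩
        refine ⟨s * g, rfl, ?_⟩
        rwa [mul_inv_rev, mul_assoc, mul_assoc, ← mul_assoc z, ← mem_centralizer_iff.1 hzC s s.2,
          mul_assoc, inv_mul_cancel_left, ← mul_assoc] }
  have h6 : Nat.card (MulAction.fixedPoints (S : Subgroup G) Y) = 0 := by
    refine Nat.card_eq_zero.2 (Or.inl ⟨fun ⟨⟨_, g, rfl, hg⟩, h⟩ => hzM ?_⟩)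
    have h7 : g⁻¹ ∈ normalizer ((S : Subgroup G) : Set G) :=
      mem_normalizer_of_conj_le (conj_le_iff.2 fun s hs => by
        have := QuotientGroup.eq.1 (congrArg Subtype.val (h ⟨s, hs⟩)).symm
        simpa [mul_assoc] using this)
    have h8 := h2 _ h7 z hz
    rw [inv_inv] at h8
    exact h8 ▸ hg
  have h7 := S.2.card_modEq_card_fixedPoints Y
  haveI := Fintype.ofFinite (G ⧸ M)
  let σ := MulAction.toPermHom G (G ⧸ M) z
  have h8 : Equiv.Perm.sign σ = 1 := by
    have : pResidualOf 2 (⊤ : Subgroup G) ≤ (Equiv.Perm.sign.comp (MulAction.toPermHom G (G ⧸ M))).ker :=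
      pResidualOf_le_ker _ fun x => ⟨1, Subtype.ext (Int.units_sq _)⟩
    exact this (by rw [pResidualOf_top, hG]; trivial)
  have h9 : (QuotientGroup.mk ⁻¹' Function.fixedPoints σ : Set G) =
      QuotientGroup.mk ⁻¹' (Y : Set (G ⧸ (S : Subgroup G))) := by
    ext g
    have e : g ∈ (QuotientGroup.mk ⁻¹' Function.fixedPoints σ : Set G) ↔ g⁻¹ * z * g ∈ M := by
      rw [mul_assoc, ← QuotientGroup.eq, eq_comm]
      rfl
    rw [e]
    refine ⟨fun h => ⟨g, rfl, h⟩, fun ⟨g', h, h'⟩ => ?_⟩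
    have := (mem_normalizer_iff.1 (hSM (inv_mem (QuotientGroup.eq.1 h))) _).1 h'
    simpa [mul_assoc] using this
  have h10 := QuotientGroup.card_preimage_mk M (Function.fixedPoints σ)
  rw [h9, QuotientGroup.card_preimage_mk, ← card_mul_relIndex hMS, hM, mul_assoc] at h10
  have h11 := Nat.eq_of_mul_eq_mul_left Nat.card_pos h10
  have h12 := Equiv.Perm.sign_of_pow_two_eq_one (σ := σ) (by rw [← map_pow, hz2, map_one])
  have h13 : Nat.card (Function.fixedPoints σ) ≤ Nat.card (G ⧸ M) := Finite.card_subtype_le _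
  have h14 := relIndex_mul_index hMS
  have h15 := S.not_dvd_index
  rw [← Nat.card_eq_fintype_card, ← Nat.card_eq_fintype_card, h8, eq_comm,
    neg_one_pow_eq_one_iff_even (by decide), Nat.even_iff, ← h11, ← index_eq_card, ← h14, hM] at h12
  rw [← h11, ← index_eq_card, ← h14, hM] at h13
  rw [h6, Nat.ModEq] at h7
  change Nat.card (Y : Set (G ⧸ (S : Subgroup G))) % 2 = _ at h7
  omega

end Cfsg.Agent.S2872
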