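import Cfsg.Statements.S2873
import Cfsg.Agent.Lib.PCoreResidual
import Cfsg.Agent.Lib.LocFour
import Cfsg.Agent.Lib.CDLattice

set_option autoImplicit false
open Cfsg

namespace Cfsg.Agent.S2873

open Subgroup Cfsg.Agent.Lib Cfsg.Agent.Lib.PCoreConj Cfsg.Agent.Lib.PCore
  Cfsg.Agent.Lib.PCoreResidual Cfsg.Agent.Lib.LocIdx DihedralGroup
open scoped commutatorElement

/-- Let G be a finite group and r an odd prime such that G ⧸ O₂(G) is dihedral of order 2r, and let R be a Sylow r-subgroup of G with C_{O₂(G)}(R) = 1. Then N_G(R) is dihedral of order 2r; for any involution a of N_G(R), every involution of G outside O₂(G) is conjugate to a; and |C_{O₂(G)}(a)|² = |O₂(G)|. -/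
theorem result {G : Type*} [Group G] [Finite G] {r : ℕ} [Fact r.Prime] (hr : r ≠ 2) [hN : (Cfsg.pCore 2 G).Normal] (hquot : Nonempty (G ⧸ Cfsg.pCore 2 G ≃* DihedralGroup r)) (R : Sylow r G) (hC : Cfsg.pCore 2 G ⊓ Subgroup.centralizer ((R : Subgroup G) : Set G) = ⊥) : Nonempty (↥(Subgroup.normalizer ((R : Subgroup G) : Set G)) ≃* DihedralGroup r) ∧ ∀ a : G, a ∈ Subgroup.normalizer ((R : Subgroup G) : Set G) → orderOf a = 2 → (∀ b : G, orderOf b = 2 → b ∉ Cfsg.pCore 2 G → ∃ g : G, g * a * g⁻¹ = b) ∧ Nat.card ↥(Cfsg.pCore 2 G ⊓ Subgroup.centralizer ({a} : Set G)) ^ 2 = Nat.card ↥(Cfsg.pCore 2 G) := by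
  have hr' : r.Prime := Fact.out
  have hco : Nat.Coprime 2 r := (Nat.coprime_primes Nat.prime_two hr').2 hr.symm
  have h2 : (2 : ZMod r) ≠ 0 := fun e => hr ((Nat.prime_dvd_prime_iff_eq hr' Nat.prime_two).1
    ((ZMod.natCast_eq_zero_iff 2 r).1 (by exact_mod_cast e)))
  obtain ⟨e⟩ := hquot
  set Q := pCore 2 G
  let f : G →* DihedralGroup r := e.toMonoidHom.comp (QuotientGroup.mk' Q)
  have hf : Function.Surjective f := e.surjective.comp (QuotientGroup.mk'_surjective Q)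
  have hk : ∀ x, f x = 1 ↔ x ∈ Q := fun x => by simp [f]
  have hker : f.ker = Q := Subgroup.ext hk
  have hQ : IsPGroup 2 Q := pCore_isPGroup 2 G
  have hR := isSylowIn_top R
  have hQR : Q ⊓ R = ⊥ := inf_eq_bot_of_isPGroup_of_coprime hQ (coprime_card_of_isPGroup R.2 hco)
  have hcm : Nat.card ((R : Subgroup G).map f) = Nat.card R := by
    rw [card_eq_card_map_mul f (R : Subgroup G), hker, inf_comm, hQR, card_bot, mul_one]
  have hcR : Nat.card R ∣ r := (coprime_card_of_isPGroup R.2 hco).dvd_of_dvd_mul_left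
    (by rw [← hcm, ← nat_card]; exact card_subgroup_dvd_card _)
  have hQN : ∀ g, ∀ x ∈ Q, x ∈ normalizer (((R : Subgroup G) ^ᶜ g : Subgroup G) : Set G) → x = 1 := by
    intro g x hx hx'
    rw [← conj_normalizer, mem_conj_iff] at hx'
    have h1 : g⁻¹ * x * g ∈ Q := hN.conj_mem' x hx g
    have h3 : g⁻¹ * x * g ∈ Q ⊓ centralizer ((R : Subgroup G) : Set G) := mem_inf.2 ⟨h1,
      mem_centralizer_iff.2 fun y hy => (commutatorElement_eq_one_iff_mul_comm.1 (mem_bot.1 (hQR ▸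
        mem_inf.2 ⟨commutator_le_right ⊤ Q (commutator_mem_commutator (mem_top y) h1),
          commutator_le_left_of_le_normalizer (zpowers_le.2 hx')
            (commutator_mem_commutator hy (mem_zpowers _))⟩)))⟩
    rw [hC, mem_bot, mul_assoc, inv_mul_eq_one, eq_comm, mul_eq_right] at h3
    exact h3
  have hinj : ∀ g, ∀ x ∈ normalizer (((R : Subgroup G) ^ᶜ g : Subgroup G) : Set G),
      ∀ y ∈ normalizer (((R : Subgroup G) ^ᶜ g : Subgroup G) : Set G), f x = f y → x = y :=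
    fun g x hx y hy h => inv_mul_eq_one.1 (hQN g _ ((hk _).1 (by rw [map_mul, map_inv, h, inv_mul_cancel]))
      (mul_mem (inv_mem hx) hy))
  have hK : ∀ (w : G) (i : ZMod r), i ≠ 0 → f w = DihedralGroup.r i → ∃ g k,
      zpowers (w ^ k) = (R : Subgroup G) ^ᶜ g := fun w i hi hw => by
    have h0 : f w ^ r = 1 := by rw [hw, r_pow]; simp
    obtain ⟨k, h1⟩ := isPGroup_iff_forall_mem.1 hQ _ ((hk (w ^ r)).1 (by rw [map_pow, h0]))
    rw [← pow_mul, mul_comm, pow_mul] at h1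
    have h3 : w ^ 2 ^ k ≠ 1 := fun e => hi (by
      have := congrArg f e
      rw [map_pow, hw, r_pow, map_one, one_def, DihedralGroup.r.injEq, Nat.cast_pow, Nat.cast_ofNat] at this
      exact (mul_eq_zero.1 this).resolve_right (pow_ne_zero _ h2))
    obtain ⟨g, -, hg⟩ := hR.exists_le_conj le_top (isPGroup_zpowers (k := 1) (by rwa [pow_one]))
    refine ⟨g, _, eq_of_le_of_card_le hg ?_⟩
    rw [card_conj, Nat.card_zpowers, orderOf_eq_prime h1 h3]
    exact Nat.le_of_dvd hr'.pos hcR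
  have hinv : ∀ {b c : G} (k : ℕ), b ^ 2 = 1 → c ^ 2 = 1 →
      b ∈ normalizer (zpowers ((b * c) ^ k) : Set G) := fun {b c} k hb hc =>
    mem_normalizer_of_conj_le (by
      rw [conj_zpowers, ← conj_pow, zpowers_le, show b * (b * c) * b⁻¹ = (b * c)⁻¹ by
        rw [← mul_assoc, mul_self_of_sq hb, one_mul, mul_inv_rev, inv_eq_self_of_sq hc], inv_pow]
      exact inv_mem (mem_zpowers _))
  obtain ⟨y, hy⟩ := hf (DihedralGroup.r 1)
  have hsurj : (normalizer ((R : Subgroup G) : Set G)).map f = ⊤ := by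
    obtain ⟨g, k, h1⟩ := hK y 1 one_ne_zero hy
    have h3 : Nat.card R = r := ((Nat.dvd_prime hr').1 hcR).resolve_left fun e =>
      hR.ne_bot ((Dvd.intro_left 2 nat_card.symm).trans (by
        rw [card_top]; exact card_dvd_of_surjective f hf)) (card_eq_one.1 e)
    haveI : ((R : Subgroup G).map f).Normal := normal_of_index_eq_two (by
      have := ((R : Subgroup G).map f).index_mul_card
      rw [hcm, h3, nat_card] at this
      exact Nat.eq_of_mul_eq_mul_right hr'.pos this)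
    have h4 := (hR.of_le (le_comap_map f _) le_top).frattini_top
    rw [comap_map_eq, sup_right_comm, sup_eq_right.2 le_normalizer] at h4
    rw [← map_top_of_surjective f hf, ← h4, Subgroup.map_sup, (Subgroup.map_eq_bot_iff _).2 le_rfl,
      sup_bot_eq]
  have hsr : ∀ b : G, b ^ 2 = 1 → b ∉ Q → ∃ i, f b = sr i := fun b hb hb' => by
    rcases h : f b with i | i
    · have := congrArg f hb
      rw [map_pow, h, r_pow, map_one, one_def, DihedralGroup.r.injEq, Nat.cast_ofNat] at this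
      exact absurd ((hk b).1 (by rw [h, (mul_eq_zero.1 this).resolve_right h2, r_zero])) hb'
    · exact ⟨i, rfl⟩
  have hN1 : ∀ {x}, x ∈ normalizer ((R : Subgroup G) : Set G) →
      x ∈ normalizer (((R : Subgroup G) ^ᶜ (1 : G) : Subgroup G) : Set G) := fun hx => by rwa [conj_one]
  refine ⟨⟨MulEquiv.ofBijective (f.comp (Subgroup.subtype _)) ⟨fun x y h => Subtype.ext
    (hinj 1 _ (hN1 x.2) _ (hN1 y.2) h), fun d => ?_⟩⟩, fun a ha ha2 => ?_⟩
  · obtain ⟨x, hx, rfl⟩ : d ∈ (normalizer ((R : Subgroup G) : Set G)).map f := hsurj ▸ mem_top d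
    exact ⟨⟨x, hx⟩, rfl⟩
  have ha' : a ^ 2 = 1 := ha2 ▸ pow_orderOf_eq_one a
  obtain ⟨i, hi⟩ := hsr a ha' fun h => by
    rw [hQN 1 a h (hN1 ha), orderOf_one] at ha2
    omega
  have hsq : ∀ (g : G) {b : G}, b ^ 2 = 1 → (g * b * g⁻¹) ^ 2 = 1 := fun g b hb => by
    rw [conj_pow, hb, mul_one, mul_inv_cancel]
  have hw : ∀ (b c : G) (j : ZMod r), f b = sr j → f c = sr j → ∃ g k,
      zpowers ((b * (y * c * y⁻¹)) ^ k) = (R : Subgroup G) ^ᶜ g := fun b c j hb hc =>
    hK _ (-2) (neg_ne_zero.2 h2) (by simp [hb, hc, hy]; ring)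
  constructor
  · intro b hb hb'
    have hb2 : b ^ 2 = 1 := hb ▸ pow_orderOf_eq_one b
    obtain ⟨j, hj⟩ := hsr b hb2 hb'
    obtain ⟨g, k, h1⟩ := hw b b j hj hj
    have h3 := hinv k hb2 (hsq y hb2)
    rw [h1, ← conj_normalizer, mem_conj_iff] at h3
    obtain ⟨l, hl⟩ := hsr (g⁻¹ * b * g) (by simpa using hsq g⁻¹ hb2)
      fun h => hb' (by simpa [mul_assoc] using hN.conj_mem _ h g)
    obtain ⟨n, hn, hn'⟩ : DihedralGroup.r ((i - l) / 2) ∈
      (normalizer ((R : Subgroup G) : Set G)).map f := hsurj ▸ mem_top _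
    have h4 := hinj 1 _ (hN1 (mul_mem (mul_mem hn ha) (inv_mem hn))) _ (hN1 h3)
      (by rw [hl]; simp [hn', hi]; field_simp; ring)
    exact ⟨g * n, by rw [show g * n * a * (g * n)⁻¹ = g * (n * a * n⁻¹) * g⁻¹ by group, h4]; group⟩
  have hC' : Q ⊓ centralizer ({y * a * y⁻¹} : Set G) = (Q ⊓ centralizer ({a} : Set G)) ^ᶜ y := by
    rw [conj_inf, conj_eq_of_normal, conj_centralizer_singleton]
  have h5 := card_inf_mul_relIndex (centralizer ({a} : Set G)) Q
  have h6 := card_inf_mul_relIndex (centralizer ({y * a * y⁻¹} : Set G)) Q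
  rw [inf_comm] at h5 h6
  rw [hC', card_conj] at h6
  have h7 := CDLattice.card_mul_card_le (inf_le_left : Q ⊓ centralizer ({a} : Set G) ≤ Q)
    (inf_le_left : Q ⊓ centralizer ({y * a * y⁻¹} : Set G) ≤ Q)
  have h8 : Q ⊓ centralizer ({a} : Set G) ⊓ (Q ⊓ centralizer ({y * a * y⁻¹} : Set G)) = ⊥ := by
    refine eq_bot_iff.2 fun x hx => ?_
    obtain ⟨g, k, h1⟩ := hw a a i hi hi
    refine hQN g x hx.1.1 (h1 ▸ centralizer_le_normalizer _ ?_)
    rw [LocFour.mem_centralizer_iff_le, zpowers_le]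
    exact pow_mem (mul_mem (mem_centralizer_singleton_iff.2 (mem_centralizer_singleton_iff.1 hx.1.2).symm)
      (mem_centralizer_singleton_iff.2 (mem_centralizer_singleton_iff.1 hx.2.2).symm)) k
  have hq : ∀ (q : Q) (b : G), f (q * b * (q : G)⁻¹) = f b := fun q b => by simp [(hk _).2 q.2]
  have h9 : (centralizer ({a} : Set G)).relIndex Q *
      (centralizer ({y * a * y⁻¹} : Set G)).relIndex Q ≤ Nat.card Q := by
    rw [relIndex, relIndex, index, index, ← Nat.card_prod]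
    refine Nat.card_le_card_of_injective (fun s => (⟨(a * (y * a * y⁻¹))⁻¹ * ((s.1.out * a * (s.1.out : G)⁻¹) *
      (s.2.out * (y * a * y⁻¹) * (s.2.out : G)⁻¹)), (hk _).1 (by
        rw [map_mul, map_mul, hq, hq, ← map_mul, map_inv, inv_mul_cancel])⟩ : Q)) ?_
    have key : ∀ (c : G) (s t : Q ⧸ (centralizer ({c} : Set G)).subgroupOf Q),
        s.out * c * (s.out : G)⁻¹ = t.out * c * (t.out : G)⁻¹ → s = t := fun c s t h => by
      rw [← s.out_eq', ← t.out_eq', QuotientGroup.eq, mem_subgroupOf, mem_centralizer_singleton_iff]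
      simp only [coe_mul, coe_inv]
      calc _ = (s.out : G)⁻¹ * (t.out * c * (t.out : G)⁻¹) * t.out := by group
        _ = _ := by rw [← h]; group
    rintro ⟨s, t⟩ ⟨s', t'⟩ h
    have h1 := mul_left_cancel (congrArg Subtype.val h)
    obtain ⟨g, k, h3⟩ := hK (s.out * a * (s.out : G)⁻¹ * (t.out * (y * a * y⁻¹) * (t.out : G)⁻¹)) (-2)
      (neg_ne_zero.2 h2) (by rw [map_mul, hq, hq]; simp [hi, hy]; ring)
    have h4 := hinj g _ (h3 ▸ hinv k (hsq _ ha') (hsq _ (hsq y ha'))) _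
      (h3 ▸ h1 ▸ hinv k (hsq _ ha') (hsq _ (hsq y ha'))) ((hq _ _).trans (hq s'.out _).symm)
    rw [h4] at h1
    exact Prod.ext (key a s s' h4) (key _ t t' (mul_left_cancel h1))
  rw [h8, card_bot, hC', card_conj] at h7
  have h10 := Nat.card_pos (α := Q)
  generalize Nat.card (Q ⊓ centralizer ({a} : Set G) : Subgroup G) = c at *
  generalize Nat.card Q = q at *
  refine le_antisymm (by nlinarith) (Nat.le_of_mul_le_mul_right ?_ h10)
  calc q * q = c ^ 2 * ((centralizer ({a} : Set G)).relIndex Q *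
      (centralizer ({y * a * y⁻¹} : Set G)).relIndex Q) := by nth_rw 1 [← h5, ← h6]; ring
    _ ≤ _ := Nat.mul_le_mul_left _ h9

end Cfsg.Agent.S2873
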