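import Cfsg.Statements.S2874
import Mathlib.Tactic

set_option autoImplicit false
open Cfsg

namespace Cfsg.Agent.S2874

section ring
variable {R : Type*} [CommRing R]

/-- The matrix `a0 + a1 C + (b0 + b1 C) σ`. -/
def mk4 (a0 a1 b0 b1 : R) : Matrix (Fin 2) (Fin 2) R :=
  !![a0 - b1, b0 - a1; a1 + b0 - b1, a0 - a1 + b1]

def matC : Matrix (Fin 2) (Fin 2) R := !![0, -1; 1, -1]

theorem mk4_inj (h3 : IsUnit (3 : R)) {a0 a1 b0 b1 c0 c1 d0 d1 : R}
    (h : mk4 a0 a1 b0 b1 = mk4 c0 c1 d0 d1) : a0 = c0 ∧ a1 = c1 ∧ b0 = d0 ∧ b1 = d1 := by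
  have h00 := congrFun (congrFun h 0) 0
  have h01 := congrFun (congrFun h 0) 1
  have h10 := congrFun (congrFun h 1) 0
  have h11 := congrFun (congrFun h 1) 1
  simp [mk4] at h00 h01 h10 h11
  have e1 : a1 = c1 := h3.mul_left_cancel (by linear_combination 2 * h10 - 2 * h01 + h11 - h00)
  have e2 : b1 = d1 := h3.mul_left_cancel (by linear_combination h10 - h01 + 2 * h11 - 2 * h00)
  exact ⟨by linear_combination h00 + e2, e1, by linear_combination h01 + e1, e2⟩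

theorem mk4_surj (h3 : IsUnit (3 : R)) (M : Matrix (Fin 2) (Fin 2) R) :
    ∃ a0 a1 b0 b1, M = mk4 a0 a1 b0 b1 := by
  obtain ⟨u, hu⟩ := h3.exists_right_inv
  refine ⟨M 0 0 + u * (M 1 0 - M 0 1 + 2 * (M 1 1 - M 0 0)),
    u * (2 * (M 1 0 - M 0 1) + (M 1 1 - M 0 0)),
    M 0 1 + u * (2 * (M 1 0 - M 0 1) + (M 1 1 - M 0 0)),
    u * (M 1 0 - M 0 1 + 2 * (M 1 1 - M 0 0)), ?_⟩
  ext i j
  fin_cases i <;> fin_cases j <;> simp [mk4]
  · linear_combination (-(M 1 0 - M 0 1)) * hu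
  · linear_combination (-(M 1 1 - M 0 0)) * hu

theorem mk4_mul (a0 a1 b0 b1 c0 c1 d0 d1 : R) :
    mk4 a0 a1 b0 b1 * mk4 c0 c1 d0 d1 =
      mk4 (a0 * c0 - a1 * c1 + (b0 * (d0 - d1) + b1 * d1))
        (a0 * c1 + a1 * c0 - a1 * c1 + (-(b0 * d1) + b1 * (d0 - d1) + b1 * d1))
        (a0 * d0 - a1 * d1 + (b0 * (c0 - c1) + b1 * c1))
        (a0 * d1 + a1 * d0 - a1 * d1 + (-(b0 * c1) + b1 * (c0 - c1) + b1 * c1)) := by
  ext i j
  fin_cases i <;> fin_cases j <;> simp [mk4, Matrix.mul_apply, Fin.sum_univ_two] <;> ring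

theorem matC_eq : (matC : Matrix (Fin 2) (Fin 2) R) = mk4 0 1 0 0 := by
  ext i j
  fin_cases i <;> fin_cases j <;> simp [mk4, matC]

theorem one_eq : (1 : Matrix (Fin 2) (Fin 2) R) = mk4 1 0 0 0 := by
  ext i j
  fin_cases i <;> fin_cases j <;> simp [mk4]

theorem conjC (a0 a1 b0 b1 : R) :
    matC * mk4 a0 a1 b0 b1 * (matC * matC) = mk4 a0 a1 (b1 - b0) (-b0) := by
  ext i j
  fin_cases i <;> fin_cases j <;> simp [mk4, matC, Matrix.mul_apply, Fin.sum_univ_two] <;> ring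

theorem invol_form (h3 : IsUnit (3 : R)) (v : Matrix (Fin 2) (Fin 2) R) (h1 : v * v = 1)
    (h2 : v * (matC * v * (matC * matC)) = matC * (matC * v * (matC * matC)) * (matC * matC))
    (h4 : (matC * v * (matC * matC)) * v = matC * (matC * v * (matC * matC)) * (matC * matC)) :
    ∃ b0 b1 : R, 2 * b0 = 0 ∧ 2 * b1 = 0 ∧ v = mk4 1 0 b0 b1 := by
  obtain ⟨a0, a1, b0, b1, rfl⟩ := mk4_surj h3 v
  rw [conjC, conjC, mk4_mul] at h2 h4
  rw [mk4_mul, one_eq] at h1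
  obtain ⟨p0, p1, p2, p3⟩ := mk4_inj h3 h1
  obtain ⟨q0, q1, -, -⟩ := mk4_inj h3 h2
  obtain ⟨r0, r1, -, -⟩ := mk4_inj h3 h4
  have hn : b0 * b0 - b0 * b1 + b1 * b1 = 0 := by linear_combination q0 - r0
  have e0 : a0 = 1 := by linear_combination p0 - q0 - hn
  have e1 : a1 = 0 := by linear_combination p1 - q1 + hn
  subst e0 e1
  exact ⟨b0, b1, by linear_combination p2, by linear_combination p3, rfl⟩

theorem order_three (hodd : ∀ x : R, IsUnit (2 * x + 1)) (hpar : ∀ x : R, ∃ y, x = 2 * y ∨ x = 2 * y + 1)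
    (ρ : Matrix (Fin 2) (Fin 2) R) (h3 : ρ * ρ * ρ = 1) (hne : ρ ≠ 1) :
    ∃ P : Matrix (Fin 2) (Fin 2) R, IsUnit P.det ∧ ρ * P = P * matC := by
  have hq : ∀ x : R, IsUnit (x * x + x + 1) := by
    intro x
    obtain ⟨y, rfl | rfl⟩ := hpar x
    · have := hodd (2 * y * y + y)
      convert this using 1; ring
    · have := hodd (2 * y * y + 3 * y + 1)
      convert this using 1; ring
  have hcube : ∀ x : R, x * x * x = 1 → x = 1 := by
    intro x hx
    have : (x * x + x + 1) * (x - 1) = (x * x + x + 1) * 0 := by linear_combination hx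
    exact sub_eq_zero.1 ((hq x).mul_left_cancel this)
  have hdet : ρ.det = 1 := by
    apply hcube
    rw [← Matrix.det_mul, ← Matrix.det_mul, h3, Matrix.det_one]
  obtain ⟨a, b, c, d, rfl⟩ : ∃ a b c d : R, ρ = !![a, b; c, d] :=
    ⟨_, _, _, _, Matrix.eta_fin_two ρ⟩
  rw [Matrix.det_fin_two_of] at hdet
  have h00 := congrFun (congrFun h3 0) 0
  have h01 := congrFun (congrFun h3 0) 1
  have h10 := congrFun (congrFun h3 1) 0
  have h11 := congrFun (congrFun h3 1) 1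
  simp [Matrix.mul_apply, Fin.sum_univ_two] at h00 h01 h10 h11
  -- ((a+d)^2 - 1) ρ = (1 + (a+d))
  have k00 : ((a + d) * (a + d) - 1) * a = 1 + (a + d) := by
    linear_combination h00 + (2 * a + d) * hdet
  have k01 : ((a + d) * (a + d) - 1) * b = 0 := by
    linear_combination h01 + b * hdet
  have k10 : ((a + d) * (a + d) - 1) * c = 0 := by
    linear_combination h10 + c * hdet
  have k11 : ((a + d) * (a + d) - 1) * d = 1 + (a + d) := by
    linear_combination h11 + (a + 2 * d) * hdet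
  have ht : a + d = -1 := by
    obtain ⟨y, hy | hy⟩ := hpar (a + d)
    · exfalso
      have hu : IsUnit ((a + d) * (a + d) - 1) := by
        have := hodd (2 * y * y - 1)
        convert this using 1; rw [hy]; ring
      have hb : b = 0 := hu.mul_left_cancel (by rw [k01, mul_zero])
      have hc : c = 0 := hu.mul_left_cancel (by rw [k10, mul_zero])
      have had : a = d := hu.mul_left_cancel (by rw [k00, k11])
      subst hb hc had
      have ha : a = 1 := hcube a (by linear_combination h00)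
      subst ha
      exact hne (by ext i j; fin_cases i <;> fin_cases j <;> simp)
    · have hu : IsUnit (2 * y * a - 1) := by
        have := hodd (y * a - 1)
        convert this using 1; ring
      have : (2 * y * a - 1) * (a + d + 1) = (2 * y * a - 1) * 0 := by
        rw [hy] at k00 ⊢
        linear_combination k00
      have := hu.mul_left_cancel this
      linear_combination this
  have hc : IsUnit c := by
    have : c * (-b) = a * a + a + 1 := by linear_combination hdet - a * ht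
    exact isUnit_of_mul_isUnit_left (this ▸ hq a)
  refine ⟨!![1, a; 0, c], by simpa [Matrix.det_fin_two_of] using hc, ?_⟩
  ext i j
  fin_cases i <;> fin_cases j <;> simp [matC, Matrix.mul_apply, Fin.sum_univ_two]
  · linear_combination a * ht - hdet
  · linear_combination c * ht

end ring

section alt

theorem perm_facts1 : ∀ ρ : Equiv.Perm (Fin 4), ρ * ρ * ρ = 1 → ρ ≠ 1 →
    ∀ v : Equiv.Perm (Fin 4), Equiv.Perm.sign v = 1 →
      (v * v = 1 → v * (ρ * v * (ρ * ρ)) = ρ * (ρ * v * (ρ * ρ)) * (ρ * ρ) ∧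
        (ρ * v * (ρ * ρ)) * v = ρ * (ρ * v * (ρ * ρ)) * (ρ * ρ)) ∧
      (v * v = 1 ∨ (v * ρ) * (v * ρ) = 1 ∨ (v * (ρ * ρ)) * (v * (ρ * ρ)) = 1) := by
  decide +kernel

theorem alt_facts {H : Type*} [Group H] (h : Nonempty (H ≃* alternatingGroup (Fin 4))) :
    (∃ ρ : H, ρ * ρ * ρ = 1 ∧ ρ ≠ 1) ∧ (∃ v : H, v * v = 1 ∧ v ≠ 1) ∧
    ∀ ρ : H, ρ * ρ * ρ = 1 → ρ ≠ 1 → ∀ v : H,
      (v * v = 1 → v * (ρ * v * (ρ * ρ)) = ρ * (ρ * v * (ρ * ρ)) * (ρ * ρ) ∧
        (ρ * v * (ρ * ρ)) * v = ρ * (ρ * v * (ρ * ρ)) * (ρ * ρ)) ∧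
      (v * v = 1 ∨ (v * ρ) * (v * ρ) = 1 ∨ (v * (ρ * ρ)) * (v * (ρ * ρ)) = 1) := by
  obtain ⟨e⟩ := h
  obtain ⟨f, hf, hs, hsurj⟩ : ∃ f : H →* Equiv.Perm (Fin 4), Function.Injective f ∧
      (∀ x, Equiv.Perm.sign (f x) = 1) ∧ ∀ y, Equiv.Perm.sign y = 1 → ∃ x, f x = y := by
    refine ⟨(alternatingGroup (Fin 4)).subtype.comp e.toMonoidHom,
      Subtype.val_injective.comp e.injective, fun x => (e x).2, fun y hy => ?_⟩
    exact ⟨e.symm ⟨y, hy⟩, by simp⟩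
  refine ⟨?_, ?_, ?_⟩
  · obtain ⟨x, hx⟩ := hsurj (Equiv.swap 0 1 * Equiv.swap 1 2) (by decide)
    refine ⟨x, hf ?_, fun h1 => ?_⟩
    · simp only [map_mul, map_one, hx]; decide
    · rw [h1, map_one] at hx; revert hx; decide
  · obtain ⟨x, hx⟩ := hsurj (Equiv.swap 0 1 * Equiv.swap 2 3) (by decide)
    refine ⟨x, hf ?_, fun h1 => ?_⟩
    · simp only [map_mul, map_one, hx]; decide
    · rw [h1, map_one] at hx; revert hx; decide
  · intro ρ h3 hne v
    have := perm_facts1 (f ρ) (by rw [← map_mul, ← map_mul, h3, map_one])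
      (fun h1 => hne (hf (by rw [h1, map_one]))) (f v) (hs v)
    simp only [← map_mul, ← map_one f, hf.eq_iff] at this
    exact this

end alt

section gl
variable {R : Type*} [CommRing R]

theorem key (h3 : IsUnit (3 : R)) (z : R) (hz : ∀ x : R, 2 * x = 0 → x = 0 ∨ x = z)
    (H : Subgroup (GL (Fin 2) R)) (h : Nonempty (H ≃* alternatingGroup (Fin 4)))
    (c : GL (Fin 2) R) (hc : c ∈ H) (hcC : (c : Matrix (Fin 2) (Fin 2) R) = matC)
    (hc3 : c * c * c = 1) (hc1 : c ≠ 1) (g : GL (Fin 2) R) :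
    g ∈ H ↔ ∃ w : GL (Fin 2) R, (g = w ∨ g * c = w ∨ g * (c * c) = w) ∧
      ∃ b0 b1 : R, 2 * b0 = 0 ∧ 2 * b1 = 0 ∧ (w : Matrix (Fin 2) (Fin 2) R) = mk4 1 0 b0 b1 := by
  obtain ⟨-, ⟨v, hv2, hv1⟩, hall⟩ := alt_facts h
  have hall' := hall ⟨c, hc⟩ (Subtype.ext hc3) (fun h1 => hc1 (congrArg Subtype.val h1))
  have hform : ∀ w : H, w * w = 1 → ∃ b0 b1 : R, 2 * b0 = 0 ∧ 2 * b1 = 0 ∧
      ((w : GL (Fin 2) R) : Matrix (Fin 2) (Fin 2) R) = mk4 1 0 b0 b1 := by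
    intro w hw
    obtain ⟨e1, e2⟩ := (hall' w).1 hw
    apply invol_form h3
    · have := congrArg (fun x : H => ((x : GL (Fin 2) R) : Matrix (Fin 2) (Fin 2) R)) hw
      simpa using this
    · have := congrArg (fun x : H => ((x : GL (Fin 2) R) : Matrix (Fin 2) (Fin 2) R)) e1
      simpa [hcC] using this
    · have := congrArg (fun x : H => ((x : GL (Fin 2) R) : Matrix (Fin 2) (Fin 2) R)) e2
      simpa [hcC] using this
  constructor
  · intro hg
    rcases (hall' ⟨g, hg⟩).2 with h1 | h1 | h1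
    · exact ⟨_, Or.inl rfl, hform _ h1⟩
    · exact ⟨_, Or.inr (Or.inl rfl), hform _ h1⟩
    · exact ⟨_, Or.inr (Or.inr rfl), hform _ h1⟩
  · rintro ⟨w, hw, b0, b1, hb0, hb1, hwb⟩
    suffices hwH : w ∈ H by
      rcases hw with rfl | rfl | rfl
      · exact hwH
      · exact (H.mul_mem_cancel_right hc).1 hwH
      · exact (H.mul_mem_cancel_right (H.mul_mem hc hc)).1 hwH
    -- the set of pairs realised in `H`
    have hS : ∀ x y : R, (∃ u ∈ H, (u : Matrix (Fin 2) (Fin 2) R) = mk4 1 0 x y) →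
        ∃ u ∈ H, (u : Matrix (Fin 2) (Fin 2) R) = mk4 1 0 (y - x) (-x) := by
      rintro x y ⟨u, hu, hxy⟩
      refine ⟨c * u * (c * c), H.mul_mem (H.mul_mem hc hu) (H.mul_mem hc hc), ?_⟩
      simp only [Units.val_mul, hcC, hxy, conjC]
    obtain ⟨x, y, hx, hy, hxy⟩ := hform v hv2
    have hz2 : 2 * z = 0 := by
      rcases hz x hx with rfl | rfl
      · rcases hz y hy with rfl | rfl
        · exact absurd (Subtype.ext (Units.ext (by rw [hxy, ← one_eq]; rfl))) hv1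
        · exact hy
      · exact hx
    have hneg : -z = z := by linear_combination -hz2
    have hz0 : ∃ u ∈ H, (u : Matrix (Fin 2) (Fin 2) R) = mk4 1 0 z 0 := by
      have h0 : ∃ u ∈ H, (u : Matrix (Fin 2) (Fin 2) R) = mk4 1 0 x y := ⟨v, v.2, hxy⟩
      rcases hz x hx with rfl | rfl <;> rcases hz y hy with rfl | rfl
      · exact absurd (Subtype.ext (Units.ext (by rw [hxy, ← one_eq]; rfl))) hv1
      · simpa using hS _ _ h0
      · exact h0
      · simpa [hneg] using hS _ _ (hS _ _ h0)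
    have hzz : ∃ u ∈ H, (u : Matrix (Fin 2) (Fin 2) R) = mk4 1 0 z z := by
      simpa [hneg] using hS _ _ hz0
    have h0z : ∃ u ∈ H, (u : Matrix (Fin 2) (Fin 2) R) = mk4 1 0 0 z := by
      simpa [hneg] using hS _ _ hzz
    have h00 : ∃ u ∈ H, (u : Matrix (Fin 2) (Fin 2) R) = mk4 1 0 0 0 :=
      ⟨1, H.one_mem, one_eq⟩
    have fin : (∃ u ∈ H, (u : Matrix (Fin 2) (Fin 2) R) = mk4 1 0 b0 b1) → w ∈ H := by
      rintro ⟨u, hu, hub⟩
      rwa [show w = u from Units.ext (hwb.trans hub.symm)]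
    apply fin
    rcases hz b0 hb0 with rfl | rfl <;> rcases hz b1 hb1 with rfl | rfl <;> assumption

theorem conj_to (hodd : ∀ x : R, IsUnit (2 * x + 1)) (hpar : ∀ x : R, ∃ y, x = 2 * y ∨ x = 2 * y + 1)
    (H : Subgroup (GL (Fin 2) R)) (h : Nonempty (H ≃* alternatingGroup (Fin 4))) :
    ∃ g c : GL (Fin 2) R, c ∈ H.map (MulAut.conj g).toMonoidHom ∧
      (c : Matrix (Fin 2) (Fin 2) R) = matC ∧ c * c * c = 1 ∧ c ≠ 1 := by
  obtain ⟨⟨ρ, h3, h1⟩, -, -⟩ := alt_facts h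
  have h3' : (ρ : GL (Fin 2) R) * ρ * ρ = 1 := congrArg Subtype.val h3
  obtain ⟨P, hP, hPC⟩ := order_three hodd hpar ((ρ : GL (Fin 2) R) : Matrix (Fin 2) (Fin 2) R)
    (by simpa using congrArg (fun x : GL (Fin 2) R => (x : Matrix (Fin 2) (Fin 2) R)) h3')
    (fun h' => h1 (Subtype.ext (Units.ext h')))
  obtain ⟨Q, rfl⟩ := (Matrix.isUnit_iff_isUnit_det P).2 hP
  refine ⟨Q⁻¹, Q⁻¹ * ρ * Q, ⟨ρ, ρ.2, by simp⟩, ?_, ?_, ?_⟩
  · rw [Units.val_mul, Units.val_mul, Matrix.mul_assoc, hPC, ← Matrix.mul_assoc, ← Units.val_mul]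
    simp
  · calc _ = Q⁻¹ * ((ρ : GL (Fin 2) R) * ρ * ρ) * Q := by group
      _ = 1 := by rw [h3']; group
  · intro h'
    apply h1
    apply Subtype.ext
    calc (ρ : GL (Fin 2) R) = Q * (Q⁻¹ * ρ * Q) * Q⁻¹ := by group
      _ = 1 := by rw [h']; group

theorem general (hodd : ∀ x : R, IsUnit (2 * x + 1)) (hpar : ∀ x : R, ∃ y, x = 2 * y ∨ x = 2 * y + 1)
    (z : R) (hz : ∀ x : R, 2 * x = 0 → x = 0 ∨ x = z) (H₁ H₂ : Subgroup (GL (Fin 2) R))
    (h₁ : Nonempty (H₁ ≃* alternatingGroup (Fin 4))) (h₂ : Nonempty (H₂ ≃* alternatingGroup (Fin 4))) :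
    ∃ g : GL (Fin 2) R, H₂ = H₁.map (MulAut.conj g).toMonoidHom := by
  have h3 : IsUnit (3 : R) := by
    have := hodd 1
    convert this using 1; norm_num
  obtain ⟨g₁, c₁, hc₁, hC₁, h31, h11⟩ := conj_to hodd hpar H₁ h₁
  obtain ⟨g₂, c₂, hc₂, hC₂, h32, h12⟩ := conj_to hodd hpar H₂ h₂
  have hcc : c₁ = c₂ := Units.ext (hC₁.trans hC₂.symm)
  subst hcc
  have hiso : ∀ (g : GL (Fin 2) R) (H : Subgroup (GL (Fin 2) R)),
      Nonempty (H ≃* alternatingGroup (Fin 4)) →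
      Nonempty (H.map (MulAut.conj g).toMonoidHom ≃* alternatingGroup (Fin 4)) := by
    rintro g H ⟨e⟩
    exact ⟨(H.equivMapOfInjective _ (MulAut.conj g).injective).symm.trans e⟩
  have heq : H₁.map (MulAut.conj g₁).toMonoidHom = H₂.map (MulAut.conj g₂).toMonoidHom := by
    ext g
    rw [key h3 z hz _ (hiso g₁ H₁ h₁) c₁ hc₁ hC₁ h31 h11, key h3 z hz _ (hiso g₂ H₂ h₂) c₁ hc₂ hC₁ h31 h11]
  refine ⟨g₂⁻¹ * g₁, ?_⟩
  ext x
  constructor
  · intro hx
    have : g₂ * x * g₂⁻¹ ∈ H₂.map (MulAut.conj g₂).toMonoidHom := ⟨x, hx, by simp⟩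
    rw [← heq] at this
    obtain ⟨y, hy, hyx⟩ := this
    refine ⟨y, hy, ?_⟩
    have hyx' : g₁ * y * g₁⁻¹ = g₂ * x * g₂⁻¹ := by simpa using hyx
    calc _ = g₂⁻¹ * (g₁ * y * g₁⁻¹) * g₂ := by simp [mul_assoc]
      _ = x := by rw [hyx']; group
  · rintro ⟨y, hy, rfl⟩
    have : g₁ * y * g₁⁻¹ ∈ H₁.map (MulAut.conj g₁).toMonoidHom := ⟨y, hy, by simp⟩
    rw [heq] at this
    obtain ⟨x, hx, hxy⟩ := this
    have hxy' : g₂ * x * g₂⁻¹ = g₁ * y * g₁⁻¹ := by simpa using hxy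
    have : (MulAut.conj (g₂⁻¹ * g₁)).toMonoidHom y = x := by
      calc _ = g₂⁻¹ * (g₁ * y * g₁⁻¹) * g₂ := by simp [mul_assoc]
        _ = x := by rw [← hxy']; group
    rwa [this]

end gl

/-- For k ≥ 2, any two subgroups of GL₂(ℤ/2ᵏℤ) (the automorphism group of the homocyclic group ℤ/2ᵏ × ℤ/2ᵏ) that are isomorphic to the alternating group of degree 4 are conjugate. -/
theorem result (k : ℕ) (hk : 2 ≤ k) (H₁ H₂ : Subgroup (GL (Fin 2) (ZMod (2 ^ k)))) (h₁ : Nonempty (↥H₁ ≃* ↥(alternatingGroup (Fin 4)))) (h₂ : Nonempty (↥H₂ ≃* ↥(alternatingGroup (Fin 4)))) : ∃ g : GL (Fin 2) (ZMod (2 ^ k)), H₂ = H₁.map (MulAut.conj g).toMonoidHom := by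
  obtain ⟨m, rfl⟩ : ∃ m, k = m + 1 := ⟨k - 1, by omega⟩
  haveI : NeZero (2 ^ (m + 1)) := ⟨by positivity⟩
  have hnil : IsNilpotent (2 : ZMod (2 ^ (m + 1))) := by
    refine ⟨m + 1, ?_⟩
    have := ZMod.natCast_self (2 ^ (m + 1))
    exact_mod_cast this
  refine general (fun x => ?_) (fun x => ?_) ((2 ^ m : ℕ) : ZMod (2 ^ (m + 1))) (fun x hx => ?_) H₁ H₂ h₁ h₂
  · exact ((Commute.all _ x).isNilpotent_mul_right hnil).isUnit_add_one
  · obtain ⟨n, rfl⟩ := ZMod.natCast_zmod_surjective x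
    obtain ⟨y, rfl | rfl⟩ := Nat.even_or_odd' n
    · exact ⟨y, Or.inl (by push_cast; ring)⟩
    · exact ⟨y, Or.inr (by push_cast; ring)⟩
  · have hlt := ZMod.val_lt x
    have hdvd : 2 ^ (m + 1) ∣ 2 * x.val := by
      rw [← ZMod.natCast_eq_zero_iff]
      push_cast
      rw [ZMod.natCast_zmod_val]; exact hx
    have hp : 2 ^ (m + 1) = 2 * 2 ^ m := by ring
    have hdvd' : 2 * 2 ^ m ∣ 2 * x.val := hp ▸ hdvd
    obtain ⟨t, ht⟩ := Nat.dvd_of_mul_dvd_mul_left (by norm_num) hdvd'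
    have ht2 : t < 2 := by
      by_contra hcon
      have : 2 ^ m * 2 ≤ 2 ^ m * t := Nat.mul_le_mul_left _ (by omega)
      omega
    interval_cases t
    · left; rw [← ZMod.natCast_zmod_val x, ht]; simp
    · right; rw [← ZMod.natCast_zmod_val x, ht]; simp

end Cfsg.Agent.S2874
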