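import Cfsg.Statements.S2879
import Cfsg.Agent.Lib.SL23
import Cfsg.Agent.Lib.LocFour
import Cfsg.Agent.Lib.LocIsolated
import Cfsg.Agent.Lib.PCoreMod
import Cfsg.Agent.Lib.FStar
import Cfsg.Agent.Lib.CyclicPGroup

set_option autoImplicit false
open Cfsg

namespace Cfsg.Agent.S2879

open Subgroup Cfsg.Agent.Lib Cfsg.Agent.Lib.PCoreConj Cfsg.Agent.Lib.PCore
  Cfsg.Agent.Lib.PCoreResidual Cfsg.Agent.Lib.PCoreMod
open scoped commutatorElement

/-- the structural facts used about `T` -/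
def Str (S : Type*) [Group S] : Prop :=
  ∃ a : S, (∀ t : S, t ∉ zpowers a → t ^ 4 = 1) ∧
    (∀ s t : S, s ∉ zpowers a → t ∉ zpowers a → s * t ∈ zpowers a) ∧
    ∃ y : S, y * a ≠ a * y

theorem Str.of_equiv {S S' : Type*} [Group S] [Group S'] (e : S ≃* S') (h : Str S') : Str S := by
  obtain ⟨a, h1, h2, y, hy⟩ := h
  have key : ∀ t : S, t ∈ zpowers (e.symm a) ↔ e t ∈ zpowers a := fun t => by
    constructor
    · rintro ⟨k, rfl⟩; exact ⟨k, by simp⟩
    · rintro ⟨k, hk⟩; exact ⟨k, e.injective (by simpa using hk)⟩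
  refine ⟨e.symm a, fun t ht => e.injective ?_, fun s t hs ht => ?_, e.symm y, fun h => hy ?_⟩
  · rw [map_pow, map_one]; exact h1 _ (by rwa [← key])
  · rw [key, map_mul]; exact h2 _ _ (by rwa [← key]) (by rwa [← key])
  · simpa using congrArg e h

theorem str_dihedral {n : ℕ} (hn : 4 ≤ n) : Str (DihedralGroup n) := by
  haveI : NeZero n := ⟨by omega⟩
  have hr : ∀ i : ZMod n, DihedralGroup.r i ∈ zpowers (DihedralGroup.r (1 : ZMod n)) := fun i =>
    ⟨(i.val : ℤ), by simp⟩
  refine ⟨DihedralGroup.r 1, ?_, ?_, DihedralGroup.sr 0, ?_⟩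
  · rintro (i | i) h
    · exact absurd (hr i) h
    · rw [show 4 = 2 * 2 from rfl, pow_mul, sq (DihedralGroup.sr i), DihedralGroup.sr_mul_self,
        one_pow]
  · rintro (i | i) (j | j) h1 h2
    · exact absurd (hr i) h1
    · exact absurd (hr i) h1
    · exact absurd (hr j) h2
    · exact hr _
  · intro h
    simp only [DihedralGroup.sr_mul_r, DihedralGroup.r_mul_sr, DihedralGroup.sr.injEq] at h
    have h2 : ((2 : ℕ) : ZMod n) = 0 := by push_cast; linear_combination h
    have := Nat.le_of_dvd (by norm_num) ((ZMod.natCast_eq_zero_iff 2 n).1 h2)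
    omega

theorem str_quasi {S : Type*} [Group S] (h : IsQuasiDihedral S) : Str S := by
  obtain ⟨n, hn, hcard, x, y, hx, hy, hyx⟩ := h
  obtain ⟨m, rfl⟩ : ∃ m, n = m + 3 := ⟨n - 3, by omega⟩
  have hi : (zpowers x).index = 2 := by
    have := (zpowers x).card_mul_index
    rw [Nat.card_zpowers, hx, hcard, pow_succ 2 (m + 3)] at this
    exact Nat.eq_of_mul_eq_mul_left (by positivity) this
  have hmul : ∀ s t : S, s ∉ zpowers x → t ∉ zpowers x → s * t ∈ zpowers x := fun s t hs ht =>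
    (mul_mem_iff_of_index_two hi).2 (iff_of_false hs ht)
  have hne : y * x ≠ x * y := by
    intro h
    rw [h, mul_inv_cancel_right] at hyx
    have h1 : x ^ 1 = x ^ (2 ^ (m + 3 - 1) - 1) := by rw [pow_one]; exact hyx
    rw [pow_eq_pow_iff_modEq, hx] at h1
    have h2 : 4 ≤ 2 ^ (m + 2) := by
      rw [pow_add]; have := Nat.one_le_two_pow (n := m); omega
    have h3 := (Nat.modEq_iff_dvd' (by simp; omega)).1 h1
    have h4 := Nat.le_of_dvd (by simp; omega) h3
    simp only [show m + 3 - 1 = m + 2 from rfl, pow_succ 2 (m + 2)] at h4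
    omega
  refine ⟨x, fun t ht => ?_, hmul, y, hne⟩
  have hy' : y ∉ zpowers x := by
    rintro ⟨k, rfl⟩
    exact hne (Commute.zpow_left (Commute.refl x) k).eq
  have hy2 : y * y = 1 := by rw [← sq, ← hy, pow_orderOf_eq_one]
  obtain ⟨k, hk⟩ := hmul t y ht hy'
  have hk' : x ^ k = t * y := hk
  have ht' : t = x ^ k * y := by rw [hk', mul_assoc, hy2, mul_one]
  have h1 : t ^ 2 = (x ^ 2 ^ (m + 2)) ^ k := by
    have h2 : y * x ^ k * y⁻¹ = (x ^ (2 ^ (m + 2) - 1)) ^ k := by
      rw [← conj_zpow, hyx]; rfl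
    have h3 : x ^ 2 ^ (m + 2) = x * x ^ (2 ^ (m + 2) - 1) := by
      rw [← pow_succ', Nat.sub_add_cancel Nat.one_le_two_pow]
    rw [h3, Commute.mul_zpow ((Commute.refl x).pow_right _), ← h2, ht', sq,
      inv_eq_of_mul_eq_one_right hy2]
    group
  rw [show 4 = 2 * 2 from rfl, pow_mul, h1, ← zpow_natCast, ← zpow_mul, mul_comm, zpow_mul,
    zpow_natCast, ← pow_mul, ← pow_succ, ← hx, pow_orderOf_eq_one, one_zpow]

theorem card_le_of_cyclic {G : Type*} [Group G] [Finite G] {C : Subgroup G} {a : G}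
    (h : C ≤ zpowers a) {m : ℕ} (hm : 0 < m) (hC : ∀ c ∈ C, c ^ m = 1) : Nat.card C ≤ m := by
  haveI : IsCyclic C := isCyclic_of_le h
  rw [← IsCyclic.exponent_eq_card]
  exact Nat.le_of_dvd hm (Monoid.exponent_dvd_of_forall_pow_eq_one fun c => Subtype.ext (hC c c.2))

theorem main {G : Type*} [Group G] [Finite G] (T : Sylow 2 G) (a : G)
    (h4 : ∀ t ∈ (T : Subgroup G), t ∉ zpowers a → t ^ 4 = 1)
    (hmul : ∀ s ∈ (T : Subgroup G), ∀ t ∈ (T : Subgroup G), s ∉ zpowers a → t ∉ zpowers a →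
      s * t ∈ zpowers a)
    (hQ : centralizer (pCore 2 G : Set G) ≤ pCore 2 G) {y : G} {r : ℕ} (hr : r.Prime) (hr2 : r ≠ 2)
    (hy : orderOf y = r) {z : G} (hz : z ∈ center G) (hz1 : z ≠ 1) (hz2 : z ^ 2 = 1)
    (hza : z ∈ zpowers a) :
    ∃ U : Subgroup G, U.Normal ∧ Nonempty (↥U ≃* Matrix.SpecialLinearGroup (Fin 2) (ZMod 3)) := by
  set Q := pCore 2 G with hQdef
  have hQp : IsPGroup 2 Q := pCore_isPGroup 2 G
  have hQT : Q ≤ T := pCore_le_sylow T
  have hycop : (orderOf y).Coprime 2 := hy ▸ (Nat.coprime_primes hr Nat.prime_two).2 hr2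
  have hy1 : y ≠ 1 := fun h => hr.ne_one (by rw [← hy, h, orderOf_one])
  have hodd : ∀ x : G, (orderOf x).Coprime 2 → x ∈ Q → x = 1 := fun x hx hxQ => by
    obtain ⟨k, hk⟩ := isPGroup_iff_forall_mem.1 hQp x hxQ
    exact eq_one_of_coprime_of_pow_eq_one hx hk
  have hzQ : z ∈ Q := hQ fun x _ => mem_center_iff.1 hz x
  set C := Q ⊓ zpowers a with hC
  have hcardQ : Nat.card Q ≤ Nat.card C * 2 := by
    rw [← card_mul_relIndex (inf_le_left : C ≤ Q)]
    refine Nat.mul_le_mul_left _ ?_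
    by_cases h : Q ≤ zpowers a
    · rw [relIndex_eq_one.2 (le_inf le_rfl h)]; norm_num
    · obtain ⟨x, hx, hx'⟩ := SetLike.not_le_iff_exists.1 h
      exact (LocIdx.relIndex_eq_two_of (Q := C) hx (fun h => hx' h.2) fun w hw hw' =>
        ⟨mul_mem hw hx, hmul _ (hQT hw) _ (hQT hx) (fun h => hw' ⟨hw, h⟩) hx'⟩).le
  have hC4 : ∀ c ∈ C, c ^ 4 = 1 := by
    by_contra hcon
    push Not at hcon
    obtain ⟨d, hd, hd4⟩ := hcon
    have hcm : ∀ u ∈ C, ∀ v ∈ C, Commute u v := by
      rintro _ ⟨-, k, rfl⟩ _ ⟨-, l, rfl⟩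
      exact Commute.zpow_zpow_self a k l
    have hn : ∀ g : G, ∀ c ∈ C, c ^ 4 ≠ 1 → g * c * g⁻¹ ∈ C := fun g c hc hc4 => by
      have h1 : g * c * g⁻¹ ∈ Q := Normal.conj_mem inferInstance _ hc.1 g
      refine ⟨h1, by_contra fun h => hc4 ?_⟩
      have := h4 _ (hQT h1) h
      rw [conj_pow] at this
      simpa [mul_assoc] using congrArg (fun u => g⁻¹ * u * g) this
    haveI hCn : C.Normal := ⟨fun c hc g => by
      by_cases hc4 : c ^ 4 = 1
      · have h1 := hn g (c * d) (mul_mem hc hd) (by rwa [(hcm c hc d hd).mul_pow, hc4, one_mul])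
        have h2 := mul_mem h1 (inv_mem (hn g d hd hd4))
        convert h2 using 1; group
      · exact hn g c hc hc4⟩
    haveI : IsCyclic C := isCyclic_of_le (inf_le_right : C ≤ zpowers a)
    have h1 : pResidualOf 2 (⊤ : Subgroup G) ≤ centralizer (Q : Set G) := by
      refine pResidualOf_le_centralizer_of_le hQp le_normalizer_of_normal (N := C) ?_ ?_
      · rw [commutator_le]
        intro q hq g _
        by_cases hqC : q ∈ C
        · exact commutator_le_left C ⊤ (commutator_mem_commutator hqC (mem_top g))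
        · have h2 : g * q⁻¹ * g⁻¹ ∈ Q := Normal.conj_mem inferInstance _ (inv_mem hq) g
          have e : ⁅q, g⁆ = q * (g * q⁻¹ * g⁻¹) := by rw [commutatorElement_def]; group
          rw [e]
          refine ⟨mul_mem hq h2, hmul _ (hQT hq) _ (hQT h2) (fun h => hqC ⟨hq, h⟩) fun h => hqC ?_⟩
          have := hCn.conj_mem _ (⟨h2, h⟩ : _ ∈ C) g⁻¹
          simpa [mul_assoc] using this
      · refine pResidualOf_le_iff.2 fun x _ hx => ?_
        exact LocIsolated.mem_centralizer_of_isCyclic (hQp.to_le inf_le_left) ⟨hzQ, hza⟩ hz1 hx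
          (le_normalizer_of_normal (mem_top x))
          (mem_centralizer_singleton_iff.2 (mem_center_iff.1 hz x))
    exact hy1 (hodd y hycop (hQ (h1 (mem_pResidualOf (mem_top y) hycop))))
  haveI hZn : (zpowers z).Normal := ⟨fun x hx g => by
    rw [mem_center_iff.1 (zpowers_le.2 hz hx) g]; simpa using hx⟩
  let q := QuotientGroup.mk' (zpowers z)
  have hcardZ : Nat.card (zpowers z) = 2 := by rw [Nat.card_zpowers, orderOf_eq_prime hz2 hz1]
  set W := Q.map q with hW
  haveI hWn : W.Normal := Normal.map inferInstance q (QuotientGroup.mk'_surjective _)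
  have hQW : Nat.card Q = Nat.card W * 2 := by
    have := card_eq_card_map_mul q Q
    rwa [QuotientGroup.ker_mk', inf_eq_right.2 (zpowers_le.2 hzQ), hcardZ] at this
  set K := (centralizer (W : Set (G ⧸ zpowers z))).comap q with hK
  haveI hKn : K.Normal := Normal.comap inferInstance q
  have hKQ : K ≤ Q := by
    refine le_pCore hKn (isPGroup_of_pResidualOf_le hQp (le_trans ?_ hQ))
    refine pResidualOf_le_centralizer_of_le hQp le_normalizer_of_normal (N := zpowers z) ?_ ?_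
    · rw [commutator_le]
      intro x hx k hk
      rw [← QuotientGroup.eq_one_iff, ← QuotientGroup.mk'_apply, map_commutatorElement,
        commutatorElement_eq_one_iff_mul_comm]
      exact pResidualOf_le 2 K hk _ (mem_map_of_mem q hx)
    · intro x _ w hw
      exact (mem_center_iff.1 (zpowers_le.2 hz hw) x).symm
  have hyK : q y ∉ centralizer (W : Set (G ⧸ zpowers z)) := fun h => hy1 (hodd y hycop (hKQ h))
  have hWp : IsPGroup 2 W := hQp.map q
  have hW4 : Nat.card W = 4 := by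
    have h1 : Nat.card C ≤ 4 := card_le_of_cyclic (inf_le_right : C ≤ zpowers a) (by norm_num) hC4
    obtain ⟨k, hk⟩ := (IsPGroup.iff_card (p := 2)).1 hWp
    have h2 : 2 ^ k ≤ 2 ^ 2 := by omega
    have h3 := (Nat.pow_le_pow_iff_right (by norm_num)).1 h2
    interval_cases k
    · rw [pow_zero, card_eq_one] at hk
      exact absurd (by rw [hk, centralizer_bot']; exact mem_top _) hyK
    · exact absurd (LocFour.mem_centralizer_of_card_two hk (le_normalizer_of_normal (mem_top _))) hyK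
    · exact hk
  have hidx : K.index ∣ 6 := by
    have := LocFour.relIndex_centralizer_dvd_six (D := ⊤) le_normalizer_of_normal hW4
    rwa [relIndex_top_right, ← index_comap_of_surjective _ (QuotientGroup.mk'_surjective _)] at this
  have hy3 : y ^ 3 = 1 := by
    have h1 : y ^ 6 ∈ K := by
      obtain ⟨k, hk⟩ := hidx
      rw [hk, pow_mul]; exact pow_mem (K.pow_index_mem y) k
    have h2 : y ^ 6 = 1 := hodd _ (Nat.Coprime.coprime_dvd_left (orderOf_pow_dvd _) hycop) (hKQ h1)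
    have h3 := hycop.dvd_of_dvd_mul_left (orderOf_dvd_of_pow_eq_one (n := 2 * 3) h2)
    exact orderOf_dvd_iff_pow_eq_one.1 h3
  have hqy3 : q y ^ 3 = 1 := by rw [← map_pow, hy3, map_one]
  have hfix : W ⊓ centralizer ((zpowers (q y) : Subgroup _) : Set (G ⧸ zpowers z)) = ⊥ := by
    haveI : Fact (Nat.Prime 3) := ⟨Nat.prime_three⟩
    have h1 := LocFour.card_modEq_inf_centralizer (V := W)
      (isPGroup_zpowers (p := 3) (k := 1) (x := q y) (by simpa using hqy3)) le_normalizer_of_normal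
    rcases LocFour.card_cases_of_le_four hW4 (inf_le_left : W ⊓ centralizer
      ((zpowers (q y) : Subgroup _) : Set (G ⧸ zpowers z)) ≤ W) with h | h | h
    · exact h
    · rw [h, hW4] at h1; exact absurd h1 (by decide)
    · exact absurd (le_centralizer_iff.1 (inf_eq_left.1 h) (mem_zpowers _)) hyK
  have hWc : IsMulCommutative W := IsPGroup.isMulCommutative_of_card_eq_prime_sq (p := 2) hW4
  have hW2 : ∀ w ∈ W, w ^ 2 = 1 := by
    have hne : W ≠ ⊥ := fun h => by rw [h] at hW4; simp at hW4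
    rcases LocFour.eq_bot_or_eq hW4 hfix (omegaOne_le 2 W)
      (le_normalizer_omegaOne le_normalizer_of_normal) with h | h
    · exact absurd h (omegaOne_ne_bot hWp hne)
    · intro w hw
      exact ((mem_omegaOne_iff hWc).1 (h.ge hw)).2
  have hW3 : ∀ w ∈ W, (w * q y) ^ 3 = 1 := by
    intro w hw
    set u := q y with hu
    have h1 : u * w * u⁻¹ ∈ W := hWn.conj_mem _ hw _
    have h2 : u * (u * w * u⁻¹) * u⁻¹ ∈ W := hWn.conj_mem _ h1 _
    have e : (w * u) ^ 3 = w * (u * w * u⁻¹) * (u * (u * w * u⁻¹) * u⁻¹) := by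
      calc (w * u) ^ 3 = w * (u * w * u⁻¹) * (u * (u * w * u⁻¹) * u⁻¹) * u ^ 3 := by
            simp only [pow_succ, pow_zero]; group
        _ = _ := by rw [hqy3, mul_one]
    have hm : (w * u) ^ 3 ∈ W := e ▸ mul_mem (mul_mem hw h1) h2
    refine mem_bot.1 (hfix ▸ ⟨hm, ?_⟩)
    rw [LocFour.centralizer_zpowers]
    refine mem_centralizer_singleton_iff.2 ?_
    have h3 := isMulCommutative_iff_forall.1 hWc _ hw _ hm
    have h5 : (w * u) * (w * u) ^ 3 = (w * u) ^ 3 * (w * u) := (Commute.self_pow _ _).eq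
    apply mul_left_cancel (a := w)
    rw [← mul_assoc, h3, mul_assoc, ← h5, mul_assoc]
  have hmemZ : ∀ x : G, q x = 1 → x = 1 ∨ x = z := fun x hx =>
    LocFour.eq_one_or_eq_of_mem_zpowers hz2 ((QuotientGroup.eq_one_iff _).1 hx)
  obtain ⟨i, hiQ, hi⟩ : ∃ i ∈ Q, i ^ 2 = z := by
    by_contra hcon
    push Not at hcon
    have h1 : Nat.card C ≤ 2 := card_le_of_cyclic (inf_le_right : C ≤ zpowers a) (m := 2) (by norm_num)
      fun c hc => (hmemZ _ (by rw [map_pow]; exact hW2 _ (mem_map_of_mem q hc.1))).resolve_right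
        (hcon c hc.1)
    omega
  obtain ⟨j, hj, hjy⟩ : ∃ j : G, j ^ 2 = z ∧ (j * y) ^ 3 = z := by
    have hzc : ∀ x, Commute x z := fun x => mem_center_iff.1 hz x
    rcases hmemZ ((i * y) ^ 3) (by rw [map_pow, map_mul]; exact hW3 _ (mem_map_of_mem q hiQ))
      with h | h
    · refine ⟨i * z, by rw [(hzc i).mul_pow, hi, hz2, mul_one], ?_⟩
      rw [mul_assoc, ← (hzc y).eq, ← mul_assoc, (hzc _).mul_pow, h, one_mul, pow_succ, hz2, one_mul]
    · exact ⟨i, hi, h⟩
  obtain ⟨f, hf, -, -⟩ := SL23.exists_hom hz hz2 hz1 hj hy3 hjy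
  have e := MonoidHom.ofInjective hf
  refine ⟨f.range, ?_, ⟨e.symm⟩⟩
  have h1 : Nat.card f.range = 24 := by rw [← Nat.card_congr e.toEquiv, SL23.card_SL23]
  have h2 := f.range.card_mul_index
  have h3 := K.card_mul_index
  have h5 : Nat.card K ≤ Nat.card Q := Nat.le_of_dvd Nat.card_pos (card_dvd_of_le hKQ)
  have h6 := Nat.le_of_dvd (by norm_num) hidx
  have h7 : Nat.card G ≤ 48 := by
    rw [← h3]; calc _ ≤ 8 * 6 := Nat.mul_le_mul (by omega) h6
      _ = 48 := rfl
  have h8 : f.range.index ≠ 0 := index_ne_zero_of_finite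
  have h9 : f.range.index = 1 ∨ f.range.index = 2 := by rw [h1] at h2; omega
  rcases h9 with h | h
  · rw [index_eq_one.1 h]; infer_instance
  · exact normal_of_index_eq_two h

/-- Let G be a finite solvable group with O(G) = 1 whose Sylow 2-subgroup T is dihedral of order at least 8 or semidihedral, with G ≠ T and Z(T) normal in G. Then G has a normal subgroup isomorphic to SL₂(3). -/
theorem result {G : Type*} [Group G] [Finite G] (hsol : IsSolvable G) (hO : Cfsg.oddCore G = ⊥) (T : Sylow 2 G) (hT : (∃ n : ℕ, 4 ≤ n ∧ Nonempty (↥(T : Subgroup G) ≃* DihedralGroup n)) ∨ Cfsg.IsQuasiDihedral ↥(T : Subgroup G)) (hne : (T : Subgroup G) ≠ ⊤) (hZ : ((T : Subgroup G) ⊓ Subgroup.centralizer ((T : Subgroup G) : Set G)).Normal) : ∃ U : Subgroup G, U.Normal ∧ Nonempty (↥U ≃* Matrix.SpecialLinearGroup (Fin 2) (ZMod 3)) := by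
  have hS : Str (T : Subgroup G) := by
    rcases hT with ⟨n, hn, ⟨e⟩⟩ | h
    · exact (str_dihedral hn).of_equiv e
    · exact str_quasi h
  obtain ⟨a, h4, hmul, y₀, hy₀⟩ := hS
  have key : ∀ t : (T : Subgroup G), (t : G) ∈ zpowers (a : G) ↔ t ∈ zpowers a := fun t => by
    constructor
    · rintro ⟨k, hk⟩; exact ⟨k, Subtype.ext hk⟩
    · rintro ⟨k, rfl⟩; exact ⟨k, rfl⟩
  have hQ : centralizer (pCore 2 G : Set G) ≤ pCore 2 G := by
    haveI : Group.IsSolvable G := hsol
    have h1 : fittingSubgroup G ≤ pCore 2 G := FStar.fitting_le_of_forall_pCore_le fun p hp => by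
      by_cases hp2 : p = 2
      · rw [hp2]
      · refine le_trans (le_pPrimeCore (p := 2) inferInstance (coprime_card_of_isPGroup
          (pCore_isPGroup p G) ((Nat.coprime_primes Nat.prime_two hp.out).2 (Ne.symm hp2)))) ?_
        exact hO.le.trans bot_le
    exact (centralizer_anti (FStar.pCore_le_fitting 2 |>.antisymm h1).ge).trans
      (FStar.centralizer_fitting_le_of_isSolvable.trans h1)
  obtain ⟨r, hr, hrd, hr2⟩ : ∃ r : ℕ, r.Prime ∧ r ∣ Nat.card G ∧ r ≠ 2 := by
    by_contra hcon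
    push Not at hcon
    have hG : IsPGroup 2 G := IsPGroup.of_card (Nat.eq_prime_pow_of_unique_prime_dvd
      Nat.card_pos.ne' fun {d} hd hdG => hcon d hd hdG)
    exact hne (T.is_maximal' (hG.to_subgroup ⊤) le_top).symm
  haveI := Fact.mk hr
  obtain ⟨y, hy⟩ := exists_prime_orderOf_dvd_card' r hrd
  set Z := (T : Subgroup G) ⊓ centralizer ((T : Subgroup G) : Set G) with hZdef
  have hTne : (T : Subgroup G) ≠ ⊥ := by
    intro h
    haveI := (T : Subgroup G).eq_bot_iff_forall.1 h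
    exact hy₀ (Subtype.ext (by rw [this _ (y₀ * a).2, this _ (a * y₀).2]))
  have hZa : Z ≤ zpowers (a : G) := by
    intro t ht
    by_contra h
    apply hy₀
    have ht' : (⟨t, ht.1⟩ : (T : Subgroup G)) ∉ zpowers a := fun h' => h ((key _).2 h')
    have hta : (⟨t, ht.1⟩ : (T : Subgroup G)) * a = a * ⟨t, ht.1⟩ := Subtype.ext (ht.2 _ a.2).symm
    by_cases hy : y₀ ∈ zpowers a
    · obtain ⟨k, rfl⟩ := hy
      exact (Commute.zpow_left (Commute.refl a) k).eq
    · obtain ⟨k, hk⟩ := hmul _ _ ht' hy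
      have h1 : Commute (⟨t, ht.1⟩ * y₀) a := hk ▸ Commute.zpow_left (Commute.refl a) k
      apply mul_left_cancel (a := (⟨t, ht.1⟩ : (T : Subgroup G)))
      rw [← mul_assoc, h1.eq, ← mul_assoc, ← hta, mul_assoc]
  obtain ⟨z, hzZ, hz1, hz2⟩ := exists_mem_pow_eq_one (p := 2) (T.isPGroup'.to_le (inf_le_left : Z ≤ _))
    (center_ne_bot T.isPGroup' hTne)
  have hz : z ∈ center G := by
    refine mem_center_iff.2 fun g => ?_
    have h1 : g * z * g⁻¹ ∈ zpowers z := CyclicPGroup.mem_zpowers_of_mem_cyclic (hZa hzZ)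
      (hZa (hZ.conj_mem _ hzZ g)) (by rw [orderOf_eq_prime hz2 hz1, conj_pow, hz2]; simp)
    rcases LocFour.eq_one_or_eq_of_mem_zpowers hz2 h1 with h | h
    · exact absurd (by simpa [mul_assoc] using congrArg (fun u => g⁻¹ * u * g) h) hz1
    · exact mul_inv_eq_iff_eq_mul.1 h
  refine main T a (fun t ht h => ?_) (fun s hs t ht h1 h2 => ?_) hQ hr hr2 hy hz hz1 hz2 (hZa hzZ)
  · exact congrArg Subtype.val (h4 ⟨t, ht⟩ fun h' => h ((key _).2 h'))
  · exact (key _).2 (hmul ⟨s, hs⟩ ⟨t, ht⟩ (fun h' => h1 ((key _).2 h')) fun h' => h2 ((key _).2 h'))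

end Cfsg.Agent.S2879
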