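import Cfsg.Statements.S2880
import Cfsg.Agent.Lib.PIrred
import Cfsg.Agent.Lib.LocIdx
import Cfsg.Agent.Lib.SolvBasic

set_option autoImplicit false
open Cfsg

namespace Cfsg.Agent.S2880

open Subgroup Cfsg.Agent.Lib Cfsg.Agent.Lib.PCoreConj Cfsg.Agent.Lib.LocIdx
open scoped commutatorElement

/-- Let E be an extraspecial 2-group of order 2^(2m+1) of plus type, that is, containing an elementary abelian subgroup of order 2^(m+1) (equivalently, a central product of m dihedral groups of order 8). Then E has exactly 2^(2m) − 2^m elements of order 4. -/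
theorem result {E : Type*} [Group E] [Finite E] (m : ℕ) (hm : 1 ≤ m) (hE : Cfsg.IsExtraspecial 2 E) (hcard : Nat.card E = 2 ^ (2 * m + 1)) (hplus : ∃ A : Subgroup E, Cfsg.IsElementaryAbelian 2 A ∧ Nat.card A = 2 ^ (m + 1)) : Nat.card {x : E // orderOf x = 4} = 2 ^ (2 * m) - 2 ^ m := by
  classical
  haveI := Fintype.ofFinite E
  obtain ⟨A, ⟨hA, hA2⟩, hcA⟩ := hplus
  obtain ⟨⟨hp, hΦ, hD⟩, hZ⟩ := hE
  have hsq : ∀ x : E, x ^ 2 ∈ center E := fun x => hΦ ▸ PIrred.pow_mem_frattini hp x
  have hc : ∀ x y : E, ⁅x, y⁆ ∈ center E := fun x y =>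
    hD ▸ commutator_mem_commutator (mem_top x) (mem_top y)
  have hZ2 : ∀ u ∈ center E, u ^ 2 = 1 := fun u hu =>
    congrArg Subtype.val (hZ ▸ pow_card_eq_one' (x := (⟨u, hu⟩ : center E)))
  let χ : E → ℤ := fun u => if u = 1 then 1 else -1
  have hχ : ∀ u ∈ center E, ∀ v ∈ center E, χ (u * v) = χ u * χ v := fun u hu v hv => by
    by_cases h1 : u = 1
    · simp [χ, h1]
    by_cases h2 : v = 1
    · simp [χ, h2]
    obtain ⟨w, -, hw⟩ := (Nat.card_eq_two_iff' (1 : center E)).1 hZ
    have e : u = v := congrArg Subtype.val ((hw ⟨u, hu⟩ fun e => h1 (congrArg Subtype.val e)).trans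
      (hw ⟨v, hv⟩ fun e => h2 (congrArg Subtype.val e)).symm)
    simp [χ, e, h2, mul_self_of_sq (hZ2 v hv)]
  have hsum : ∀ (H : Subgroup E) (x : E), ∑ y : H, χ ⁅x, (y : E)⁆ =
      if x ∈ centralizer (H : Set E) then (Nat.card H : ℤ) else 0 := fun H x => by
    let f : H →* ℤ := ⟨⟨fun y => χ ⁅x, (y : E)⁆, by simp [χ]⟩, fun y y' => by
      change χ ⁅x, (y : E) * y'⁆ = χ ⁅x, (y : E)⁆ * χ ⁅x, (y' : E)⁆
      rw [← hχ _ (hc _ _) _ (hc _ _), commutatorElement_mul_right_eq_mul_conj,
        mul_assoc, mul_assoc, ← mul_assoc (y : E), mem_center_iff.1 (hc x y') y, mul_inv_cancel_right]⟩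
    have h1 : f = 1 ↔ x ∈ centralizer (H : Set E) := by
      rw [MonoidHom.ext_iff, mem_centralizer_iff]
      simp [f, χ, commutatorElement_eq_one_iff_mul_comm, eq_comm]
    have h2 := sum_hom_units f
    simp only [h1] at h2
    rw [Nat.card_eq_fintype_card]
    exact_mod_cast h2
  have hcount : ∀ (H K : Subgroup E) (c : ℤ), (∑ x : K, if (x : E) ∈ H then c else 0) =
      Nat.card (H ⊓ K : Subgroup E) * c := fun H K c => by
    rw [← Finset.sum_filter, Finset.sum_const, nsmul_eq_mul, ← SolvBasic.card_subgroupOf',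
      Nat.card_eq_fintype_card, Fintype.card_subtype]
    rfl
  have hχ' : ∀ x y : E, χ ⁅x, y⁆ = χ ⁅y, x⁆ := fun x y => by
    simp only [χ, commutatorElement_eq_one_iff_mul_comm, eq_comm]
  have h1 : (Nat.card (centralizer (A : Set E)) : ℤ) * Nat.card A =
      Nat.card (center E ⊓ A : Subgroup E) * Nat.card E := by
    have h2 := hcount (centralizer (A : Set E)) ⊤ (Nat.card A)
    have h3 := hcount (center E) A (Nat.card E)
    rw [inf_top_eq] at h2
    rw [← h2, ← h3]
    simp only [← hsum]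
    rw [Finset.sum_comm]
    refine Finset.sum_congr rfl fun a _ => ?_
    simp only [hχ' _ (a : E), hsum, card_top, coe_top, centralizer_univ]
    congr
  have hAC : A ≤ centralizer (A : Set E) := le_centralizer A
  have h2 : A = centralizer (A : Set E) := by
    refine eq_of_le_of_card_le hAC ?_
    have h3 := card_le_of_le (inf_le_left : center E ⊓ A ≤ _)
    have h4 : Nat.card (centralizer (A : Set E)) * Nat.card A =
      Nat.card (center E ⊓ A : Subgroup E) * Nat.card E := by exact_mod_cast h1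
    refine Nat.le_of_mul_le_mul_right (h4.le.trans ((Nat.mul_le_mul_right _ h3).trans ?_))
      (Nat.card_pos (α := A))
    rw [hZ, hcA, hcard]
    exact le_of_eq (by ring)
  have h3 : (∑ x : E, χ (x ^ 2)) * Nat.card A = Nat.card A * Nat.card A := by
    calc _ = ∑ a : A, ∑ x : E, χ ((x * a) ^ 2) := by
          have : ∀ a : A, ∑ x : E, χ ((x * a) ^ 2) = ∑ x : E, χ (x ^ 2) := fun a =>
            Equiv.sum_comp (Equiv.mulRight (a : E)) fun x => χ (x ^ 2)
          simp only [this]
          rw [Finset.sum_const, nsmul_eq_mul, mul_comm, Nat.card_eq_fintype_card]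
          rfl
      _ = ∑ x : E, χ (x ^ 2) * ∑ a : A, χ ⁅x⁻¹, (a : E)⁆ := by
          rw [Finset.sum_comm]
          refine Finset.sum_congr rfl fun x _ => ?_
          rw [Finset.mul_sum]
          refine Finset.sum_congr rfl fun a _ => ?_
          rw [← hχ _ (hsq x) _ (hc _ _), commutatorElement_def, inv_eq_self_of_sq (hA2 a a.2)]
          congr 1
          simp [sq, mul_assoc]
      _ = ∑ x : (⊤ : Subgroup E), if (x : E) ∈ A then (Nat.card A : ℤ) else 0 := by
          rw [← Equiv.sum_comp topEquiv.toEquiv]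
          refine Finset.sum_congr rfl fun x _ => ?_
          rw [hsum, ← h2]
          by_cases hx : (x : E) ∈ A <;> simp [hx, χ, hA2]
      _ = _ := by rw [hcount, inf_top_eq]
  have h4 := mul_right_cancel₀ (Int.natCast_ne_zero.2 (Nat.card_pos (α := A)).ne') h3
  have h5 : ∀ x : E, χ (x ^ 2) = 1 - 2 * if orderOf x = 4 then 1 else 0 := fun x => by
    by_cases hx : x ^ 2 = 1
    · have : orderOf x ≠ 4 := fun e => absurd (e ▸ orderOf_dvd_of_pow_eq_one hx) (by norm_num)
      simp [χ, hx, this]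
    · have : orderOf x = 4 := orderOf_eq_prime_pow (p := 2) (n := 1) (by simpa using hx)
        (by rw [show 2 ^ (1 + 1) = 2 * 2 by norm_num, pow_mul]; exact hZ2 _ (hsq x))
      simp [χ, hx, this]
  simp only [h5, Finset.sum_sub_distrib, ← Finset.mul_sum, Finset.sum_boole, Finset.sum_const,
    Finset.card_univ, ← Nat.card_eq_fintype_card, hcard, hcA] at h4
  rw [Nat.card_eq_fintype_card, Fintype.card_subtype]
  refine Nat.eq_sub_of_add_eq ?_
  generalize (Finset.univ.filter fun x : E => orderOf x = 4).card = n at h4 ⊢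
  zify
  push_cast at h4
  simp only [nsmul_eq_mul, pow_succ] at h4
  push_cast at h4
  linarith

end Cfsg.Agent.S2880
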