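import Cfsg.Statements.S2881
import Cfsg.Agent.S2880

set_option autoImplicit false
open Cfsg

namespace Cfsg.Agent.S2881

open Subgroup

theorem orderOf_two : orderOf (2 : ZMod 5) = 4 :=
  orderOf_eq_prime_pow (p := 2) (n := 1) (by decide) (by decide)

/-- Let E be an extraspecial 2-group of order 2^(2m+1) of plus type (containing an elementary abelian subgroup of order 2^(m+1)), and let ω be an automorphism of E of order 5 whose fixed points are exactly the centre of E. Then m is divisible by 4. -/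
theorem result {E : Type*} [Group E] [Finite E] (m : ℕ) (hm : 1 ≤ m) (hE : Cfsg.IsExtraspecial 2 E) (hcard : Nat.card E = 2 ^ (2 * m + 1)) (hplus : ∃ A : Subgroup E, Cfsg.IsElementaryAbelian 2 A ∧ Nat.card A = 2 ^ (m + 1)) (ω : E ≃* E) (hω : orderOf ω = 5) (hfix : ∀ x : E, ω x = x ↔ x ∈ Subgroup.center E) : 4 ∣ m := by
  classical
  haveI := Fintype.ofFinite E
  haveI : Fact (Nat.Prime 5) := ⟨by norm_num⟩
  have h1 := S2880.result m hm hE hcard hplus
  have h2 : 5 ∣ 2 ^ (2 * m) - 2 ^ m := by
    by_contra hn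
    rw [← h1, Nat.card_eq_fintype_card] at hn
    obtain ⟨⟨x, hx⟩, h3⟩ := Equiv.Perm.exists_fixed_point_of_prime (n := 1) hn
      (σ := (MulAut.toPerm E ω).subtypePerm (p := fun x => orderOf x = 4) fun x => by
        rw [show orderOf (MulAut.toPerm E ω x) = orderOf x from ω.orderOf_eq x]) (by
      rw [Equiv.Perm.subtypePerm_pow]
      simp only [← map_pow, pow_one, ← hω, pow_orderOf_eq_one, map_one]
      rfl)
    have h4 : x ^ 2 = 1 := congrArg Subtype.val (hE.2 ▸ pow_card_eq_one'
      (x := (⟨x, (hfix x).1 (congrArg Subtype.val h3)⟩ : center E)))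
    exact absurd (hx ▸ orderOf_dvd_of_pow_eq_one h4) (by norm_num)
  rw [two_mul, pow_add, ← Nat.mul_sub_one] at h2
  have h3 := (Nat.Coprime.pow_right m (by norm_num : Nat.Coprime 5 2)).dvd_of_dvd_mul_left h2
  have h4 : (2 : ZMod 5) ^ m = 1 := by
    have := (ZMod.natCast_eq_zero_iff _ _).2 h3
    rw [Nat.cast_sub Nat.one_le_two_pow, sub_eq_zero] at this
    exact_mod_cast this
  exact orderOf_two ▸ orderOf_dvd_of_pow_eq_one h4

end Cfsg.Agent.S2881
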