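import Cfsg.Statements.S2882
import Cfsg.Agent.Lib.Golay

set_option autoImplicit false
open Cfsg

namespace Cfsg.Agent.S2882

open Cfsg.Agent.Lib.Golay Subgroup

/-- Affine coordinates on the complement of an octad; the octad has the label `16`. -/
def lab (p : GolayPt) : ℕ :=
  [16, 0, 1, 2, 4, 3, 8, 14, 6, 12, 9, 7, 16, 5, 16, 15, 16, 16, 16, 10, 11, 13, 16, 16].getD (idx p) 0

/-- The point with a given label. -/
def un (l : ℕ) : GolayPt := pt ([1, 2, 3, 5, 4, 13, 8, 11, 6, 10, 19, 20, 9, 21, 7, 15].getD l 0)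

theorem un_lab : ∀ p, lab p < 16 → un (lab p) = p := by decide +kernel

theorem lab_un : ∀ l < 16, lab (un l) = l := by decide +kernel

/-- The stabiliser of the octad and of a flag of block systems. -/
def S0 : Subgroup (Equiv.Perm GolayPt) where
  carrier := {g | g ∈ M24 ∧ (∀ p, lab (g p) < 16 ↔ lab p < 16) ∧
    ∀ k < 4, ∀ p q, lab (g p) / 2 ^ k = lab (g q) / 2 ^ k ↔ lab p / 2 ^ k = lab q / 2 ^ k}
  one_mem' := ⟨one_mem _, fun _ => Iff.rfl, fun _ _ _ _ => Iff.rfl⟩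
  mul_mem' {a b} ha hb := ⟨mul_mem ha.1 hb.1, fun p => (ha.2.1 _).trans (hb.2.1 p),
    fun k hk p q => (ha.2.2 k hk _ _).trans (hb.2.2 k hk p q)⟩
  inv_mem' {a} ha := ⟨inv_mem ha.1, fun p => by rw [← ha.2.1 (a⁻¹ p)]; simp,
    fun k hk p q => by rw [← ha.2.2 k hk (a⁻¹ p)]; simp⟩

/-- The translations. -/
def tabT : List (List ℕ) :=
    [[0,1,2,3,4,5,6,7,8,9,10,11,12,13,14,15,16,17,18,19,20,21,22,23],
    [0,2,1,5,13,3,10,15,11,21,6,8,12,4,14,7,16,17,18,20,19,9,22,23],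
    [0,3,5,1,8,2,19,9,4,7,20,13,12,11,14,21,16,17,18,6,10,15,22,23],
    [0,5,3,2,11,1,20,21,13,15,19,4,12,8,14,9,16,17,18,10,6,7,22,23],
    [0,4,13,8,1,11,9,19,3,6,21,5,12,2,14,20,16,17,18,7,15,10,22,23],
    [0,13,4,11,2,8,21,20,5,10,9,3,12,1,14,19,16,17,18,15,7,6,22,23],
    [0,8,11,4,3,13,7,6,1,19,15,2,12,5,14,10,16,17,18,9,21,20,22,23],
    [0,11,8,13,5,4,15,10,2,20,7,1,12,3,14,6,16,17,18,21,9,19,22,23],
    [0,6,10,19,9,20,1,8,7,4,2,15,12,21,14,11,16,17,18,3,5,13,22,23],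
    [0,10,6,20,21,19,2,11,15,13,1,7,12,9,14,8,16,17,18,5,3,4,22,23],
    [0,19,20,6,7,10,3,4,9,8,5,21,12,15,14,13,16,17,18,1,2,11,22,23],
    [0,20,19,10,15,6,5,13,21,11,3,9,12,7,14,4,16,17,18,2,1,8,22,23],
    [0,9,21,7,6,15,4,3,19,1,13,20,12,10,14,5,16,17,18,8,11,2,22,23],
    [0,21,9,15,10,7,13,5,20,2,4,19,12,6,14,3,16,17,18,11,8,1,22,23],
    [0,7,15,9,19,21,8,1,6,3,11,10,12,20,14,2,16,17,18,4,13,5,22,23],
    [0,15,7,21,20,9,11,2,10,5,8,6,12,19,14,1,16,17,18,13,4,3,22,23]]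

/-- Elements fixing the origin. -/
def tabU : List (List ℕ) :=
    [[0,1,2,3,4,5,6,7,8,9,10,11,12,13,14,15,16,17,18,19,20,21,22,23],
    [0,1,2,3,4,5,6,7,8,9,10,11,12,13,14,15,16,17,18,19,20,21,22,23],
    [0,1,2,3,4,5,6,7,8,9,10,11,12,13,14,15,16,17,18,19,20,21,22,23],
    [0,1,2,5,4,3,21,19,11,10,9,8,18,13,17,20,16,14,12,7,15,6,22,23],
    [0,1,2,3,4,5,6,7,8,9,10,11,12,13,14,15,16,17,18,19,20,21,22,23],
    [0,1,2,3,13,5,19,21,11,15,20,8,18,4,14,9,22,17,12,6,10,7,16,23],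
    [0,1,2,3,8,5,20,15,4,21,19,13,16,11,14,7,12,17,22,10,6,9,18,23],
    [0,1,2,3,11,5,10,9,13,7,6,4,22,8,14,21,18,17,16,20,19,15,12,23],
    [0,1,2,3,4,5,6,7,8,9,10,11,12,13,14,15,16,17,18,19,20,21,22,23],
    [23,1,2,3,4,5,10,15,8,21,6,11,18,13,17,7,22,14,12,20,19,9,16,0],
    [17,1,2,3,4,5,19,9,8,7,20,11,16,13,23,21,12,0,22,6,10,15,18,14],
    [14,1,2,3,4,5,20,21,8,15,19,11,22,13,0,9,18,23,16,10,6,7,12,17],
    [22,1,2,3,4,5,9,19,8,6,21,11,14,13,12,20,23,18,17,7,15,10,0,16],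
    [16,1,2,3,4,5,21,20,8,10,9,11,17,13,18,19,0,12,14,15,7,6,23,22],
    [18,1,2,3,4,5,7,6,8,19,15,11,23,13,16,10,14,22,0,9,21,20,17,12],
    [12,1,2,3,4,5,15,10,8,20,7,11,0,13,22,6,17,16,23,21,9,19,14,18]]

theorem tabT_inv : ∀ l : Fin 16, ∀ p,
    pt ((tabT.getD l []).getD (idx (pt ((tabT.getD l []).getD (idx p) 0))) 0) = p := by
  decide +kernel

theorem tabU_inv : ∀ l : Fin 16, ∀ p,
    pt ((tabU.getD l []).getD (idx (pt ((tabU.getD l []).getD (idx p) 0))) 0) = p := by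
  decide +kernel

/-- The translations. -/
def T (l : Fin 16) : Equiv.Perm GolayPt := ofList _ _ (tabT_inv l)

/-- Elements fixing the origin. -/
def U (l : Fin 16) : Equiv.Perm GolayPt := ofList _ _ (tabU_inv l)

theorem T_mem (l : Fin 16) : T l ∈ S0 :=
  ⟨mem_M24_of (by revert l; decide +kernel), by revert l; decide +kernel,
    by revert l; decide +kernel⟩

theorem U_mem (l : Fin 16) : U l ∈ S0 :=
  ⟨mem_M24_of (by revert l; decide +kernel), by revert l; decide +kernel,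
    by revert l; decide +kernel⟩

theorem T_spec : ∀ l : Fin 16, T l (un 0) = un l := by decide +kernel

theorem U_spec' : ∀ k < 4, ∀ l : Fin 16, (2 ^ k ≤ l.1 ∧ l.1 < 2 ^ (k + 1)) → ∀ q,
    U l (un (2 ^ k)) = un l ∧ (lab q < 2 ^ k → U l q = q) := by decide +kernel

theorem U_spec (k : ℕ) (hk : k < 4) (l : Fin 16) (h1 : 2 ^ k ≤ l.1) (h2 : l.1 < 2 ^ (k + 1)) :
    U l (un (2 ^ k)) = un l ∧ ∀ q, lab q < 2 ^ k → U l q = q :=
  ⟨(U_spec' k hk l ⟨h1, h2⟩ none).1, fun q => (U_spec' k hk l ⟨h1, h2⟩ q).2⟩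

/-- The octad. -/
def ol : List ℕ := [0, 12, 14, 16, 17, 18, 22, 23]

/-- The complement of the octad. -/
def al : List ℕ := [1, 2, 3, 4, 5, 6, 7, 8, 9, 10, 11, 13, 15, 19, 20, 21]

theorem mem_al : ∀ p, lab p < 16 ↔ idx p ∈ al := by decide +kernel

theorem mem_ol : ∀ p, ¬ lab p < 16 ↔ idx p ∈ ol := by decide +kernel

/-- The search plan. -/
def plan : List (ℕ × List ℕ × List ℕ) :=
  [(1, [1], []), (2, [2], []), (3, [3], []), (4, [4], []), (6, [6], []), (18, ol, []), (23, ol, []),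
   (15, al, [255]), (14, ol, []), (16, ol, []), (17, ol, []), (21, al, [2655]), (0, ol, []),
   (12, ol, []), (22, ol, [887]), (20, al, [37795]), (13, al, [36367]), (19, al, [132891]),
   (5, al, [13709]), (7, al, [23125]), (8, al, [43577]), (9, al, [15569]), (10, al, [125569]),
   (11, al, [225921])]

theorem eq_one {g : Equiv.Perm GolayPt} (hg : g ∈ M24) (h2 : ∀ p, lab (g p) < 16 ↔ lab p < 16)
    (h0 : g (un 0) = un 0) (h : ∀ k < 4, g (un (2 ^ k)) = un (2 ^ k)) : g = 1 := by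
  have hd : ∀ i ∈ al, act g i ∈ al := fun i hi => (mem_al _).1 ((h2 _).2
    ((mem_al _).2 (by revert i; decide +kernel)))
  have hc : ∀ i ∈ ol, act g i ∈ ol := fun i hi => (mem_ol _).1 ((h2 _).not.2
    ((mem_ol _).2 (by revert i; decide +kernel)))
  have hf : ∀ i < 24, g (pt i) = pt i → act g i ∈ [i] := fun i hi e => by
    rw [act, e, idx_pt i hi]; exact List.mem_singleton_self _
  refine eq_one_of_srch hg plan (by decide +kernel) (by decide +kernel) (by decide +kernel) ?_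
  simp only [plan, List.forall_mem_cons]
  refine ⟨hf 1 (by decide) h0, hf 2 (by decide) (h 0 (by decide)), hf 3 (by decide) (h 1 (by decide)),
    hf 4 (by decide) (h 2 (by decide)), hf 6 (by decide) (h 3 (by decide)),
    ?_, ?_, ?_, ?_, ?_, ?_, ?_, ?_, ?_, ?_, ?_, ?_, ?_, ?_, ?_, ?_, ?_, ?_, ?_, by simp⟩
  all_goals first | exact hd _ (by decide) | exact hc _ (by decide)

theorem step {g : Equiv.Perm GolayPt} (hg : g ∈ S0) {k : ℕ} (hk : k < 4)
    (h : ∀ p, lab p < 16 → lab (g p) / 2 ^ (k + 1) = lab p / 2 ^ (k + 1)) (p : GolayPt)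
    (hp : lab p < 16) : lab ((g * g) p) / 2 ^ k = lab p / 2 ^ k := by
  have h1 := h p hp
  have h2 := h (g p) ((hg.2.1 p).2 hp)
  have h3 := hg.2.2 k hk (g p) p
  rw [pow_succ, ← Nat.div_div_eq_div_mul, ← Nat.div_div_eq_div_mul] at h1 h2
  rw [Equiv.Perm.mul_apply]
  omega

theorem pow_eq_one {g : Equiv.Perm GolayPt} (hg : g ∈ S0) : g ^ 16 = 1 := by
  have m2 := mul_mem hg hg
  have m4 := mul_mem m2 m2
  have m8 := mul_mem m4 m4
  have h1 := step hg (k := 3) (by decide) fun p hp => by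
    have := (hg.2.1 p).2 hp
    omega
  have h4 := step m8 (k := 0) (by decide) (step m4 (k := 1) (by decide)
    (step m2 (k := 2) (by decide) h1))
  have e : g ^ 16 = g * g * (g * g) * (g * g * (g * g)) * (g * g * (g * g) * (g * g * (g * g))) := by
    simp only [pow_succ, pow_zero, one_mul, mul_assoc]
  rw [← e] at h4
  have m16 := pow_mem hg 16
  have h5 : ∀ l < 16, (g ^ 16) (un l) = un l := fun l hl => by
    have h6 := h4 (un l) (by rwa [lab_un l hl])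
    rw [pow_zero, Nat.div_one, Nat.div_one] at h6
    rw [← un_lab _ ((m16.2.1 (un l)).2 (by rwa [lab_un l hl])), h6, lab_un l hl]
  exact eq_one m16.1 m16.2.1 (h5 0 (by decide)) fun k hk =>
    h5 _ (Nat.pow_lt_pow_right (a := 2) (by decide) hk)

/-- A permutation that normalises `Q` maps a `Q`-orbit into each invariant set it meets. -/
theorem maps_to {g : Equiv.Perm GolayPt} {Q : Equiv.Perm GolayPt → Prop}
    (hg : ∀ s, Q s → Q (g * s * g⁻¹)) {X Y : GolayPt → Prop} {x : GolayPt}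
    (hX : ∀ y, X y → ∃ s, Q s ∧ s x = y) (hY : ∀ s, Q s → ∀ y, Y y → Y (s y)) (hx : Y (g x))
    (y : GolayPt) (hy : X y) : Y (g y) := by
  obtain ⟨s, hs, rfl⟩ := hX y hy
  simpa using hY _ (hg s hs) _ hx

theorem card_le_of_maps {g : Equiv.Perm GolayPt} {X Y : GolayPt → Prop} [DecidablePred X]
    [DecidablePred Y] (h : ∀ y, X y → Y (g y)) :
    (Finset.univ.filter X).card ≤ (Finset.univ.filter Y).card :=
  Finset.card_le_card_of_injOn g (fun y hy => by simpa using h y (by simpa using hy))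
    g.injective.injOn

theorem iff_of_maps {g : Equiv.Perm GolayPt} {X : GolayPt → Prop} (h : ∀ y, X y → X (g y))
    (y : GolayPt) : X (g y) ↔ X y :=
  ⟨fun hy => by simpa using Equiv.Perm.perm_symm_mapsTo_of_mapsTo g (s := {y | X y}) h hy, h y⟩

theorem pres_A {g : Equiv.Perm GolayPt} (hg : ∀ s ∈ S0, g * s * g⁻¹ ∈ S0) (p : GolayPt) :
    lab (g p) < 16 ↔ lab p < 16 := by
  have hX : ∀ y, lab y < 16 → ∃ s ∈ S0, s (un 0) = y := fun y hy =>
    ⟨T ⟨_, hy⟩, T_mem _, (T_spec _).trans (un_lab y hy)⟩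
  refine iff_of_maps (X := fun p => lab p < 16)
    (maps_to hg hX (fun s hs y hy => (hs.2.1 y).2 hy) ?_) p
  by_contra h
  have := card_le_of_maps (Y := fun p => ¬ lab p < 16) (maps_to (Y := fun p => ¬ lab p < 16) hg hX
    (fun s hs y hy => (hs.2.1 y).not.2 hy) h)
  exact absurd this (by decide +kernel)

theorem lt_iff {s : Equiv.Perm GolayPt} (hs : s ∈ S0) (h0 : s (un 0) = un 0) {k : ℕ} (hk : k < 5)
    (p : GolayPt) : lab (s p) < 2 ^ k ↔ lab p < 2 ^ k := by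
  rcases Nat.lt_succ_iff_lt_or_eq.1 hk with hk | rfl
  · have := hs.2.2 k hk p (un 0)
    rw [h0, lab_un 0 (by decide), Nat.zero_div, Nat.div_eq_zero_iff_lt (by positivity),
      Nat.div_eq_zero_iff_lt (by positivity)] at this
    exact this
  · exact hs.2.1 p

theorem cards : ∀ k < 4, (Finset.univ.filter fun p => lab p < 2 ^ k ∧ ¬ lab p < 2 ^ 0).card <
    (Finset.univ.filter fun p => lab p < 2 ^ (k + 1) ∧ ¬ lab p < 2 ^ k).card := by decide +kernel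

theorem pres_Y {g : Equiv.Perm GolayPt} (hg : ∀ s ∈ S0, g * s * g⁻¹ ∈ S0) (h0 : g (un 0) = un 0)
    {k : ℕ} (hk : k < 4) (h : ∀ p, lab (g p) < 2 ^ (k + 1) ↔ lab p < 2 ^ (k + 1)) (p : GolayPt) :
    lab (g p) < 2 ^ k ↔ lab p < 2 ^ k := by
  have hg' : ∀ s, s ∈ S0 ∧ s (un 0) = un 0 → g * s * g⁻¹ ∈ S0 ∧ (g * s * g⁻¹) (un 0) = un 0 :=
    fun s hs => ⟨hg s hs.1, by
      have : g⁻¹ (un 0) = un 0 := Equiv.Perm.inv_eq_iff_eq.2 h0.symm
      rw [Equiv.Perm.mul_apply, Equiv.Perm.mul_apply, this, hs.2, h0]⟩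
  have h16 : 2 ^ (k + 1) ≤ 16 := Nat.pow_le_pow_right (n := 2) two_pos hk
  have hlt : 2 ^ k < 2 ^ (k + 1) := Nat.pow_lt_pow_right (by decide) k.lt_succ_self
  have hX : ∀ y, lab y < 2 ^ (k + 1) ∧ ¬ lab y < 2 ^ k →
      ∃ s, (s ∈ S0 ∧ s (un 0) = un 0) ∧ s (un (2 ^ k)) = y := fun y hy => by
    have := U_spec k hk ⟨lab y, by omega⟩ (not_lt.1 hy.2) hy.1
    exact ⟨_, ⟨U_mem _, this.2 _ (by rw [lab_un 0 (by decide)]; positivity)⟩,
      this.1.trans (un_lab y (by omega))⟩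
  have hx := lab_un (2 ^ k) (by omega)
  have h1 : ¬ lab (g (un (2 ^ k))) < 2 ^ k := fun h1 => by
    refine absurd (card_le_of_maps (maps_to (Y := fun p => lab p < 2 ^ k ∧ ¬ lab p < 2 ^ 0) hg' hX
      (fun s hs y hy => ⟨(lt_iff hs.1 hs.2 (by omega) y).2 hy.1,
        (lt_iff hs.1 hs.2 (by omega) y).not.2 hy.2⟩) ⟨h1, fun h2 => ?_⟩)) (not_le.2 (cards k hk))
    have h3 : lab (g (un (2 ^ k))) = 0 := by omega
    have h4 := un_lab (g (un (2 ^ k))) (by omega)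
    rw [h3, ← h0] at h4
    have h5 := congrArg lab (g.injective h4)
    rw [hx, lab_un 0 (by decide)] at h5
    exact absurd h5 (by positivity)
  have h2 := iff_of_maps (maps_to hg' hX
    (fun s hs y hy => ⟨(lt_iff hs.1 hs.2 (by omega) y).2 hy.1,
      (lt_iff hs.1 hs.2 (by omega) y).not.2 hy.2⟩) ⟨(h _).2 (by omega), h1⟩) p
  have h3 := h p
  omega

theorem adjust {g : Equiv.Perm GolayPt} (hY : ∀ k < 5, ∀ p, lab (g p) < 2 ^ k ↔ lab p < 2 ^ k)
    {k : ℕ} (hk : k < 4) (h0 : g (un 0) = un 0) (h : ∀ j < k, g (un (2 ^ j)) = un (2 ^ j)) :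
    ∃ s ∈ S0, (∀ k < 5, ∀ p, lab ((s * g) p) < 2 ^ k ↔ lab p < 2 ^ k) ∧ (s * g) (un 0) = un 0 ∧
      ∀ j < k + 1, (s * g) (un (2 ^ j)) = un (2 ^ j) := by
  have h16 : 2 ^ (k + 1) ≤ 16 := Nat.pow_le_pow_right (n := 2) two_pos hk
  have hlt : 2 ^ k < 2 ^ (k + 1) := Nat.pow_lt_pow_right (by decide) k.lt_succ_self
  have hx := lab_un (2 ^ k) (by omega)
  have h1 := hY k (by omega) (un (2 ^ k))
  have h2 := hY (k + 1) (by omega) (un (2 ^ k))
  obtain ⟨h3, h4⟩ := U_spec k hk ⟨lab (g (un (2 ^ k))), by omega⟩ (by simp only; omega)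
    (by simp only; omega)
  rw [un_lab _ (by omega)] at h3
  have h5 : ∀ q, lab q < 2 ^ k → (U ⟨lab (g (un (2 ^ k))), by omega⟩)⁻¹ q = q := fun q hq =>
    Equiv.Perm.inv_eq_iff_eq.2 (h4 q hq).symm
  have h6 := h5 (un 0) (by rw [lab_un 0 (by decide)]; positivity)
  refine ⟨_, inv_mem (U_mem ⟨lab (g (un (2 ^ k))), by omega⟩), fun j hj p =>
    (lt_iff (inv_mem (U_mem _)) h6 hj _).trans (hY j hj p), by rw [Equiv.Perm.mul_apply, h0, h6],
    fun j hj => ?_⟩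
  rw [Equiv.Perm.mul_apply]
  rcases Nat.lt_succ_iff_lt_or_eq.1 hj with hj | rfl
  · have h7 : 2 ^ j < 2 ^ k := Nat.pow_lt_pow_right (by decide) hj
    rw [h j hj, h5 _ (by rwa [lab_un _ (by omega)])]
  · exact Equiv.Perm.inv_eq_iff_eq.2 h3.symm

theorem mem_S0 {g : Equiv.Perm GolayPt} (hM : g ∈ M24) (hg : ∀ s ∈ S0, g * s * g⁻¹ ∈ S0) :
    g ∈ S0 := by
  have hA := pres_A hg
  have h1 := (hA (un 0)).2 (by rw [lab_un 0 (by decide)]; decide)
  have ht := inv_mem (T_mem ⟨_, h1⟩)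
  have h0 : ((T ⟨_, h1⟩)⁻¹ * g) (un 0) = un 0 :=
    Equiv.Perm.inv_eq_iff_eq.2 ((T_spec ⟨_, h1⟩).trans (un_lab _ h1)).symm
  generalize (T ⟨_, h1⟩)⁻¹ = t at ht h0
  have hg' : ∀ s ∈ S0, t * g * s * (t * g)⁻¹ ∈ S0 := fun s hs => by
    have := mul_mem (mul_mem ht (hg s hs)) (inv_mem ht)
    convert this using 1; group
  have y4 : ∀ p, lab ((t * g) p) < 2 ^ 4 ↔ lab p < 2 ^ 4 := fun p => (ht.2.1 _).trans (hA p)
  have y3 := pres_Y hg' h0 (k := 3) (by decide) y4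
  have y2 := pres_Y hg' h0 (k := 2) (by decide) y3
  have y1 := pres_Y hg' h0 (k := 1) (by decide) y2
  have y0 := pres_Y hg' h0 (k := 0) (by decide) y1
  have hY : ∀ k < 5, ∀ p, lab ((t * g) p) < 2 ^ k ↔ lab p < 2 ^ k := fun k hk => by
    interval_cases k <;> assumption
  obtain ⟨s0, m0, a0, b0, c0⟩ := adjust hY (k := 0) (by decide) h0 (by simp)
  obtain ⟨s1, m1, a1, b1, c1⟩ := adjust a0 (k := 1) (by decide) b0 c0
  obtain ⟨s2, m2, a2, b2, c2⟩ := adjust a1 (k := 2) (by decide) b1 c1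
  obtain ⟨s3, m3, a3, b3, c3⟩ := adjust a2 (k := 3) (by decide) b2 c2
  have := eq_one (mul_mem m3.1 (mul_mem m2.1 (mul_mem m1.1 (mul_mem m0.1 (mul_mem ht.1 hM)))))
    (a3 4 (by decide)) b3 c3
  have e : g = (s3 * s2 * s1 * s0 * t)⁻¹ := by
    refine eq_inv_of_mul_eq_one_right ?_
    simp only [mul_assoc]
    exact this
  rw [e]
  exact inv_mem (mul_mem (mul_mem (mul_mem (mul_mem m3 m2) m1) m0) ht)

/-- In the Mathieu group of degree 24 (realised as the automorphism group of the extended binary Golay code) every Sylow 2-subgroup is self-normalizing. -/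
theorem result (S : Sylow 2 ↥Cfsg.M24) : Subgroup.normalizer ((S : Subgroup ↥Cfsg.M24) : Set ↥Cfsg.M24) = (S : Subgroup ↥Cfsg.M24) := by
  have hP : IsPGroup 2 (S0.subgroupOf M24) := fun g => ⟨4, Subtype.ext (Subtype.ext (pow_eq_one g.2))⟩
  have hN : normalizer ((S0.subgroupOf M24 : Subgroup M24) : Set M24) = S0.subgroupOf M24 :=
    le_antisymm (fun g hg => mem_S0 g.2 fun s hs =>
      (mem_normalizer_iff.1 hg ⟨s, hs.1⟩).1 hs) le_normalizer
  obtain ⟨P, hSP⟩ := hP.exists_le_sylow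
  have hPS : (P : Subgroup M24) = S0.subgroupOf M24 := by
    haveI := P.isPGroup'.isNilpotent
    have h1 := normalizerCondition_iff_only_full_group_self_normalizing.1
      (normalizerCondition_of_isNilpotent (G := P)) ((S0.subgroupOf M24).subgroupOf P) (by
        rw [← subgroupOf_normalizer_eq hSP, hN])
    exact le_antisymm (subgroupOf_eq_top.1 h1) hSP
  obtain ⟨k, rfl⟩ := MulAction.exists_smul_eq M24 P S
  refine le_antisymm (fun g hg => ?_) le_normalizer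
  have h1 : k⁻¹ * g * k ∈ normalizer ((P : Subgroup M24) : Set M24) := by
    have hg' := Sylow.smul_eq_iff_mem_normalizer.2 hg
    refine Sylow.smul_eq_iff_mem_normalizer.1 ?_
    rw [mul_smul, mul_smul, hg', inv_smul_smul]
  rw [hPS, hN, ← hPS] at h1
  rw [Sylow.coe_subgroup_smul, mem_pointwise_smul_iff_inv_smul_mem]
  simpa using h1

end Cfsg.Agent.S2882
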