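import Cfsg.Statements.S2931
import Cfsg.Agent.Lib.SuzG1
import Cfsg.Agent.Lib.FormOrder
import Cfsg.Agent.Lib.GF4
import Cfsg.Agent.Lib.PCore

set_option autoImplicit false
open Cfsg

namespace Cfsg.Agent.S2931

open Subgroup Cfsg.Agent.Lib Cfsg.Agent.Lib.PCore Matrix

section
variable {G : Type*} [Group G]

/-- normal forms of a polycyclic sequence with factors of order two -/
def nf : List G → List G
  | [] => [1]
  | g :: l => nf l ++ (nf l).map (g * ·)

theorem length_nf (l : List G) : (nf l).length = 2 ^ l.length := by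
  induction l with
  | nil => rfl
  | cons g l ih => simp [nf, ih, pow_succ, mul_two]

theorem nf_map {H : Type*} [Group H] (φ : G →* H) (l : List G) :
    nf (l.map φ) = (nf l).map φ := by
  induction l with
  | nil => simp [nf]
  | cons g l ih => simp [nf, ih, Function.comp_def]

theorem nf_mem {K : Subgroup G} {l : List G} (h : ∀ g ∈ l, g ∈ K) : ∀ x ∈ nf l, x ∈ K := by
  induction l with
  | nil => simp [nf]
  | cons g l ih =>
    have ih := ih fun y hy => h y (List.mem_cons_of_mem _ hy)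
    intro x hx
    rcases List.mem_append.1 hx with hx | hx
    · exact ih x hx
    · obtain ⟨y, hy, rfl⟩ := List.mem_map.1 hx
      exact mul_mem (h g List.mem_cons_self) (ih y hy)

theorem step {g : G} {S : Set G} (h1 : g * g ∈ closure S) (h2 : ∀ y ∈ S, g⁻¹ * y * g ∈ closure S)
    {x : G} (hx : x ∈ closure (insert g S)) : x ∈ closure S ∨ g⁻¹ * x ∈ closure S := by
  induction hx using closure_induction_left with
  | one => exact Or.inl (one_mem _)
  | mul_left y hy x _ ih =>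
    rcases hy with rfl | hy <;> rcases ih with ih | ih
    · exact Or.inr (by simpa using ih)
    · exact Or.inl (by simpa [mul_assoc] using mul_mem h1 ih)
    · exact Or.inl (mul_mem (subset_closure hy) ih)
    · exact Or.inr (by simpa [mul_assoc] using mul_mem (h2 y hy) ih)
  | inv_mul_cancel y hy x _ ih =>
    rcases hy with rfl | hy <;> rcases ih with ih | ih
    · exact Or.inr (by simpa [mul_assoc] using mul_mem (inv_mem h1) ih)
    · exact Or.inl ih
    · exact Or.inl (mul_mem (inv_mem (subset_closure hy)) ih)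
    · exact Or.inr (by simpa [mul_assoc] using mul_mem (inv_mem (h2 y hy)) ih)

/-- the relations of the sequence -/
def Rel {n : ℕ} (t : Fin n → Fin n → List (Fin n)) (f : Fin n → G) : Prop :=
  ∀ i j, i ≤ j → f j * f i = (((if i = j then [] else [i]) ++ t i j).map f).prod

theorem mem_nf {n : ℕ} {t : Fin n → Fin n → List (Fin n)} (ht : ∀ i j, ∀ k ∈ t i j, i < k)
    {f : Fin n → G} (h : Rel t f) (l : List (Fin n)) (h1 : l.Pairwise (· < ·))
    (h2 : ∀ i ∈ l, ∀ k, i < k → k ∈ l) : ∀ x ∈ closure {y | y ∈ l.map f}, x ∈ nf (l.map f) := by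
  induction l with
  | nil => intro x hx; simpa [nf] using hx
  | cons i l ih =>
    obtain ⟨h3, h4⟩ := List.pairwise_cons.1 h1
    have h5 : ∀ k, i < k → k ∈ l := fun k hk =>
      (List.mem_cons.1 (h2 i List.mem_cons_self k hk)).resolve_left hk.ne'
    have ih := ih h4 fun j hj k hk => h5 k ((h3 j hj).trans hk)
    have hw : ∀ j, ((t i j).map f).prod ∈ closure {y | y ∈ l.map f} := fun j =>
      list_prod_mem fun y hy => by
        obtain ⟨k, hk, rfl⟩ := List.mem_map.1 hy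
        exact subset_closure (List.mem_map_of_mem (h5 k (ht i j k hk)))
    intro x hx
    rw [List.map_cons, show {y | y ∈ f i :: l.map f} = insert (f i) {y | y ∈ l.map f} from
      Set.ext fun _ => List.mem_cons] at hx
    rcases step (by simpa [h i i le_rfl] using hw i) (fun y hy => by
      obtain ⟨j, hj, rfl⟩ := List.mem_map.1 hy
      simpa [mul_assoc, h i j (h3 j hj).le, (h3 j hj).ne] using hw j) hx with e | e
    · exact List.mem_append_left _ (ih x e)
    · exact List.mem_append_right _ (List.mem_map.2 ⟨_, ih _ e, by simp⟩)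

end

theorem sylow_equiv {G : Type*} [Group G] [Finite G] {n : ℕ} {K : Subgroup G}
    (h : Nat.card K = 2 ^ n) (h2 : ¬ 2 ^ (n + 1) ∣ Nat.card G) (P : Sylow 2 G) :
    Nonempty (K ≃* P) := ⟨Sylow.equiv ((IsPGroup.of_card h).toSylow fun e => h2 (by
      rw [← K.card_mul_index, h, pow_succ]; exact Nat.mul_dvd_mul_left _ e)) P⟩

theorem key {A B : Type*} [Group A] [Group B] [Finite A] [Finite B] {n : ℕ}
    (t : Fin n → Fin n → List (Fin n)) (ht : ∀ i j, ∀ k ∈ t i j, i < k) (f : Fin n → A)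
    (g : Fin n → B) (w : List (Fin n)) (hf : Rel t f) (hg : Rel t g)
    (h1 : (nf ((List.finRange n).map f)).Nodup)
    (h2 : ∀ x, (∀ i, f i * x = x * f i) → x = 1 ∨ x = (w.map f).prod)
    (h3 : (w.map g).prod ≠ 1) (hA : ¬ 2 ^ (n + 1) ∣ Nat.card A) (hB : ¬ 2 ^ (n + 1) ∣ Nat.card B)
    (P : Sylow 2 A) (Q : Sylow 2 B) : Nonempty (P ≃* Q) := by
  classical
  let u : Fin n → A × B := fun i => (f i, g i)
  have p1 : ∀ l : List (Fin n), (l.map u).prod = ((l.map f).prod, (l.map g).prod) := fun l => by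
    induction l with
    | nil => rfl
    | cons i l ih => simp [ih, u]
  have hu : Rel t u := fun i j e => by rw [p1, ← hf i j e, ← hg i j e]; rfl
  let K := closure {y | y ∈ (List.finRange n).map u}
  have hK := mem_nf ht hu (List.finRange n) (List.sortedLT_finRange n).pairwise
    fun _ _ _ _ => List.mem_finRange _
  have uK : ∀ i, u i ∈ K := fun i => subset_closure (List.mem_map_of_mem (List.mem_finRange i))
  let α := (MonoidHom.fst A B).comp K.subtype
  let β := (MonoidHom.snd A B).comp K.subtype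
  have e1 : nf ((List.finRange n).map f) =
      (nf ((List.finRange n).map u)).map (MonoidHom.fst A B) := by
    rw [← nf_map, List.map_map]; rfl
  have hα : Function.Injective α := fun x y e => Subtype.ext
    (List.inj_on_of_nodup_map (e1 ▸ h1) (hK _ x.2) (hK _ y.2) e)
  have hc : Nat.card K = 2 ^ n := by
    have : (K : Set (A × B)) = (nf ((List.finRange n).map u)).toFinset := Set.ext fun x => by
      rw [Finset.mem_coe, List.mem_toFinset]
      exact ⟨hK x, nf_mem (fun y hy => subset_closure hy) x⟩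
    rw [← SetLike.coe_sort_coe, this, Nat.card_coe_set_eq, Set.ncard_coe_finset,
      List.toFinset_card_of_nodup (List.Nodup.of_map _ (e1 ▸ h1)), length_nf]
    simp
  have hβ : Function.Injective β := by
    rw [← MonoidHom.ker_eq_bot_iff]
    by_contra hne
    have hp : IsPGroup 2 K := IsPGroup.of_card hc
    obtain ⟨x, ⟨hx, hx'⟩, x1⟩ := (bot_or_exists_ne_one _).resolve_left (inf_centralizer_ne_bot
      (hp.to_subgroup ⊤) (hp.to_subgroup β.ker) le_normalizer_of_normal hne)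
    rcases h2 x.1.1
      (fun i => congrArg (fun v : K => v.1.1) (hx' ⟨u i, uK i⟩ trivial)) with e | e
    · exact x1 (hα (e.trans (map_one α).symm))
    · have := hα (a₁ := x) (a₂ := ⟨(w.map u).prod, list_prod_mem fun y hy => by
        obtain ⟨i, -, rfl⟩ := List.mem_map.1 hy; exact uK i⟩) (e.trans (congrArg Prod.fst (p1 w)).symm)
      refine h3 (Eq.trans ?_ hx)
      rw [this]
      exact (congrArg Prod.snd (p1 w)).symm
  obtain ⟨a⟩ := sylow_equiv ((Nat.card_congr (MonoidHom.ofInjective hα).toEquiv).symm.trans hc) hA P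
  obtain ⟨b⟩ := sylow_equiv ((Nat.card_congr (MonoidHom.ofInjective hβ).toEquiv).symm.trans hc) hB Q
  exact ⟨a.symm.trans ((MonoidHom.ofInjective hα).symm.trans ((MonoidHom.ofInjective hβ).trans b))⟩

instance decRel {G : Type*} [Group G] [DecidableEq G] {n : ℕ} (t : Fin n → Fin n → List (Fin n))
    (f : Fin n → G) : Decidable (Rel t f) := inferInstanceAs (Decidable (∀ _ _, _ → _))

theorem transfer {A B : Type*} [Group A] [Group B] [Finite A] [Finite B] (e : A ≃* B)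
    (P : Sylow 2 A) : ∃ Q : Sylow 2 B, Nonempty (P ≃* Q) :=
  ⟨P.mapSurjective (f := e.toMonoidHom) e.surjective, ⟨e.subgroupMap P⟩⟩

theorem cent {n : ℕ} (f : Fin n → Equiv.Perm (Fin 8)) (z : Equiv.Perm (Fin 8))
    (W W' : List (List (Fin n))) (h1 : ∀ k, ∃ w ∈ W, (w.map f).prod 0 = k)
    (h2 : ∀ w ∈ W', (w.map f).prod 0 = 0)
    (h3 : ∀ a, (∀ w ∈ W', (w.map f).prod a = a) → a = 0 ∨ a = z 0) (h4 : ∀ i, f i * z = z * f i)
    (x : Equiv.Perm (Fin 8)) (hx : ∀ i, f i * x = x * f i) : x = 1 ∨ x = z := by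
  have c : ∀ y : Equiv.Perm (Fin 8), (∀ i, f i * y = y * f i) → ∀ (w : List (Fin n)) a,
      (w.map f).prod (y a) = y ((w.map f).prod a) := fun y hy w a => by
    rw [← Equiv.Perm.mul_apply, ← (Commute.list_prod_right (w.map f) y fun g hg => by
      obtain ⟨i, -, rfl⟩ := List.mem_map.1 hg; exact (hy i).symm).eq, Equiv.Perm.mul_apply]
  refine (h3 (x 0) fun w hw => by rw [c x hx, h2 w hw]).imp (fun e => Equiv.ext fun k => ?_)
    fun e => Equiv.ext fun k => ?_ <;> obtain ⟨w, -, rfl⟩ := h1 k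
  · rw [← c x hx, e]; rfl
  · rw [← c x hx, e, c z h4]

open Equiv in
/-- generators of a Sylow subgroup of `S₈` -/
def p7 : Fin 7 → Equiv.Perm (Fin 8) := ![swap 0 4 * swap 1 5 * swap 2 6 * swap 3 7,
  swap 0 2 * swap 1 3, swap 4 6 * swap 5 7, swap 0 1, swap 2 3, swap 4 5, swap 6 7]

open Equiv in
/-- generators of a Sylow subgroup of `A₈` -/
def p6 : Fin 6 → Equiv.Perm (Fin 8) := ![swap 0 4 * swap 1 5 * swap 2 6 * swap 3 7,
  swap 0 2 * swap 1 3, swap 4 6 * swap 5 7, swap 0 1 * swap 4 5, swap 0 1 * swap 2 3,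
  swap 4 5 * swap 6 7]

/-- the same in the alternating group -/
def a6 (i : Fin 6) : alternatingGroup (Fin 8) :=
  ⟨p6 i, Equiv.Perm.mem_alternatingGroup.2 (by fin_cases i <;> simp [p6])⟩

/-- relations -/
def t7 : Fin 7 → Fin 7 → List (Fin 7) := ![![[], [2], [1], [5], [6], [3], [4]],
  ![[], [], [2], [4], [3], [5], [6]], ![[], [], [], [3], [4], [6], [5]],
  ![[], [], [], [], [4], [5], [6]], ![[], [], [], [], [], [5], [6]],
  ![[], [], [], [], [], [], [6]], ![[], [], [], [], [], [], []]]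

/-- relations -/
def t6 : Fin 6 → Fin 6 → List (Fin 6) := ![![[], [2], [1], [3], [5], [4]],
  ![[], [], [2], [3, 4], [4], [5]], ![[], [], [], [3, 5], [4], [5]], ![[], [], [], [], [4], [5]],
  ![[], [], [], [], [], [5]], ![[], [], [], [], [], []]]

/-- coordinates -/
def i6 : SuzG1.Ix → Fin 6 := Sum.elim (Sum.elim ![0, 1] ![2, 3]) ![4, 5]

/-- coordinates -/
def i4 : Fin 2 ⊕ Fin 2 → Fin 4 := Sum.elim ![0, 1] ![2, 3]

/-- orthogonal matrices -/
def m7 (k : Fin 7) : Matrix SuzG1.Ix SuzG1.Ix (ZMod 2) := fun i j =>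
  (![!![1, 0, 0, 0, 0, 0; 0, 1, 0, 1, 0, 1; 0, 0, 1, 0, 0, 0; 0, 0, 0, 1, 0, 0; 0, 0, 0, 1, 1, 0; 0, 0, 0, 0, 0, 1],
    !![1, 0, 0, 0, 0, 0; 0, 1, 0, 1, 1, 0; 0, 0, 1, 0, 0, 0; 0, 0, 0, 1, 0, 0; 0, 0, 0, 0, 1, 0; 0, 0, 0, 1, 1, 1],
    !![1, 0, 0, 0, 0, 0; 0, 1, 0, 0, 0, 0; 0, 0, 1, 0, 0, 0; 0, 0, 0, 1, 0, 0; 0, 0, 0, 0, 1, 0; 0, 0, 0, 0, 1, 1],
    !![1, 1, 1, 1, 0, 0; 0, 1, 1, 0, 0, 0; 0, 0, 1, 0, 0, 0; 0, 0, 1, 1, 0, 0; 0, 0, 0, 0, 1, 0; 0, 0, 0, 0, 0, 1],
    !![1, 1, 1, 0, 1, 0; 0, 1, 0, 0, 0, 0; 0, 0, 1, 0, 0, 0; 0, 0, 1, 1, 0, 0; 0, 0, 0, 0, 1, 0; 0, 0, 1, 0, 0, 1],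
    !![1, 1, 1, 0, 0, 1; 0, 1, 0, 0, 0, 0; 0, 0, 1, 0, 0, 0; 0, 0, 1, 1, 0, 0; 0, 0, 1, 0, 1, 0; 0, 0, 0, 0, 0, 1],
    !![1, 1, 1, 0, 1, 1; 0, 1, 0, 0, 0, 0; 0, 0, 1, 0, 0, 0; 0, 0, 1, 1, 0, 0; 0, 0, 1, 0, 1, 0; 0, 0, 1, 0, 0, 1]] :
    Fin 7 → Matrix (Fin 6) (Fin 6) (ZMod 2)) k (i6 i) (i6 j)

/-- symplectic matrices -/
def m6 (k : Fin 6) : Matrix (Fin 2 ⊕ Fin 2) (Fin 2 ⊕ Fin 2) (ZMod 3) := fun i j =>
  (![!![0, 0, 1, 0; 0, 1, 0, 1; 2, 0, 0, 0; 0, 1, 0, 2], !![0, 0, 0, 1; 0, 0, 1, 0; 0, 2, 0, 0; 2, 0, 0, 0],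
    !![0, 1, 0, 1; 1, 0, 1, 0; 0, 1, 0, 2; 1, 0, 2, 0], !![1, 0, 1, 0; 0, 1, 0, 2; 1, 0, 2, 0; 0, 2, 0, 2],
    !![0, 0, 1, 0; 0, 0, 0, 2; 2, 0, 0, 0; 0, 1, 0, 0], !![0, 0, 1, 0; 0, 0, 0, 1; 2, 0, 0, 0; 0, 2, 0, 0]] :
    Fin 6 → Matrix (Fin 4) (Fin 4) (ZMod 3)) k (i4 i) (i4 j)

theorem m7_sq : ∀ k, m7 k * m7 k = 1 := by decide +kernel

theorem m7_q : ∀ k u, SuzG1.qf (m7 k *ᵥ u) = SuzG1.qf u := by decide +kernel

theorem m7_rel : ∀ i j, i ≤ j →
    m7 j * m7 i = (((if i = j then [] else [i]) ++ t7 i j).map m7).prod := by decide +kernel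

theorem m6_sp : ∀ k, m6 k * J (Fin 2) (ZMod 3) * (m6 k)ᵀ = J (Fin 2) (ZMod 3) := by decide +kernel

theorem m6_rel : ∀ i j, i ≤ j →
    m6 j * m6 i = (((if i = j then [] else [i]) ++ t6 i j).map m6).prod ∨
    m6 j * m6 i = (((if i = j then [] else [i]) ++ t6 i j).map m6).prod * (-1) := by decide +kernel

theorem nd7 : (nf ((List.finRange 7).map p7)).Nodup := by decide +kernel

theorem nd6 : (nf ((List.finRange 6).map a6)).Nodup := by decide +kernel

/-- isometries -/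
def o7 (k : Fin 7) : isometryGroup (ZMod 2) SuzG1.qf :=
  ⟨⟨m7 k, m7 k, m7_sq k, m7_sq k⟩, fun u _ => m7_q k u⟩

/-- symplectic transformations -/
def s6 (k : Fin 6) : symplecticGroup (Fin 2) (ZMod 3) := ⟨m6 k, m6_sp k⟩

theorem card_O : Nat.card (isometryGroup (ZMod 2) SuzG1.qf) = 51840 := by
  have : SuzG1.Fx ∅ = FormMatrix.orth (FormDisc.qMinus 2 (ZMod 2) 1 1) := by
    simp [SuzG1.Fx, FormPerp.fixer_bot]
  refine (Nat.card_congr (FormMatrix.orthEquiv (FormDisc.qMinus 2 (ZMod 2) 1 1)).toEquiv).trans ?_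
  rw [← this, SuzG1.step _ (.inl (.inl 0)) 27 (by decide +kernel), SuzG1.step _ (.inl (.inr 0)) 16
    (by decide +kernel), SuzG1.step _ (.inl (.inl 1)) 5 (by decide +kernel),
    SuzG1.step _ (.inl (.inr 1)) 4 (by decide +kernel), SuzG1.step _ (.inr 0) 3 (by decide +kernel),
    SuzG1.step _ (.inr 1) 2 (by decide +kernel), SuzG1.Fx,
    Set.eq_univ_of_forall (s := ((_ : Finset SuzG1.Ix) : Set SuzG1.Ix))
      (fun x => Finset.mem_coe.2 (by revert x; decide)),
    Set.image_univ, Module.Basis.span_eq, FormPerp.fixer_top, card_bot]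

theorem part2 (P : Sylow 2 (Equiv.Perm (Fin 8))) (Q : Sylow 2 (isometryGroup (ZMod 2) SuzG1.qf)) :
    Nonempty (P ≃* Q) := by
  let ρ := (Units.coeHom _).comp (isometryGroup (ZMod 2) SuzG1.qf).subtype
  have hρ : ∀ l : List (Fin 7), ρ (l.map o7).prod = (l.map m7).prod := fun l => by
    rw [map_list_prod, List.map_map]; rfl
  refine key t7 (by decide) p7 o7 [3, 4, 5, 6] (by decide +kernel)
    (fun i j e => Subtype.ext (Units.ext ((m7_rel i j e).trans (hρ _).symm)))
    nd7 (cent p7 _ [[], [3], [1], [1, 3], [0], [0, 3], [0, 1], [0, 1, 3]] [[4], [5], [6]]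
      (by decide +kernel) (by decide +kernel) (by decide +kernel) (by decide +kernel))
    (fun e => ?_) ?_ (by rw [card_O]; decide) P Q
  · have := hρ [3, 4, 5, 6]
    rw [e, map_one] at this
    revert this
    decide +kernel
  · rw [Nat.card_perm]; simp [Nat.factorial]

attribute [local instance] Nat.fact_prime_three

theorem part1 (P : Sylow 2 (alternatingGroup (Fin 8))) (Q : Sylow 2 (PSp 2 (ZMod 3))) :
    Nonempty (P ≃* Q) := by
  let π := QuotientGroup.mk' (center (symplecticGroup (Fin 2) (ZMod 3)))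
  let ρ := (symplecticGroup (Fin 2) (ZMod 3)).subtype
  have hρ : ∀ l : List (Fin 6), ρ (l.map s6).prod = (l.map m6).prod := fun l => by
    rw [map_list_prod, List.map_map]; rfl
  have hπ : ∀ l : List (Fin 6), π (l.map s6).prod = (l.map fun i => π (s6 i)).prod := fun l => by
    rw [map_list_prod, List.map_map]; rfl
  let z : symplecticGroup (Fin 2) (ZMod 3) := ⟨-1, by simp [SymplecticGroup.mem_iff]⟩
  have hz : z ∈ center _ := mem_center_iff.2 fun g => Subtype.ext (by simp [z])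
  refine key t6 (by decide) a6 (fun i => π (s6 i)) [4, 5] (by decide +kernel) (fun i j e => ?_)
    nd6 (fun x hx => (cent p6 (p6 4 * p6 5) [[], [3], [1], [1, 3], [0], [0, 3], [0, 1], [0, 1, 3]]
      [[2], [5], [3, 4]] (by decide +kernel) (by decide +kernel) (by decide +kernel)
      (by decide +kernel) x.1 fun i => congrArg Subtype.val (hx i)).imp Subtype.ext
        fun e => Subtype.ext (by simpa [a6] using e)) (fun e => ?_) ?_ (fun e => ?_) P Q
  · rw [← hπ, ← map_mul]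
    rcases m6_rel i j e with h | h
    · exact congrArg π (Subtype.ext (h.trans (hρ _).symm))
    · rw [show s6 j * s6 i = (List.map s6 _).prod * z from Subtype.ext (h.trans (by
        rw [← hρ]; rfl)), map_mul, show π z = 1 from (QuotientGroup.eq_one_iff z).2 hz, mul_one]
  · rw [← hπ] at e
    have := congrArg ρ (mem_center_iff.1 ((QuotientGroup.eq_one_iff _).1 e) (s6 1))
    rw [map_mul, map_mul, hρ] at this
    exact absurd (show m6 1 * _ = _ * m6 1 from this) (by decide +kernel)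
  · rw [nat_card_alternatingGroup]; simp [Nat.factorial]
  · have h1 : orderOf z = 2 := orderOf_eq_prime (Subtype.ext (by simp [z]))
      fun h => absurd (show (-1 : Matrix (Fin 2 ⊕ Fin 2) (Fin 2 ⊕ Fin 2) (ZMod 3)) = 1 from
        congrArg Subtype.val h) (by decide +kernel)
    have h2 := Nat.mul_dvd_mul e (h1.symm.dvd.trans (orderOf_dvd_natCard _ hz))
    rw [← card_eq_card_quotient_mul_card_subgroup, FormOrder.card_symplecticGroup, ZMod.card] at h2
    revert h2
    decide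

/-- The Sylow 2-subgroups of the alternating group of degree 8 and of PSp₄(3) are isomorphic, and so are the Sylow 2-subgroups of the symmetric group of degree 8 and of the full isometry group of a non-degenerate quadratic form of minus type in dimension 6 over the field with 2 elements. -/
theorem result (F : Type) [Field F] [Fintype F] (hF : Fintype.card F = 3) (K : Type) [Field K] [Fintype K] (hK : Fintype.card K = 2) (a b : K) (hab : ∀ z₁ z₂ : K, z₁ ^ 2 + a * z₁ * z₂ + b * z₂ ^ 2 = 0 → z₁ = 0 ∧ z₂ = 0) (P : Sylow 2 ↥(alternatingGroup (Fin 8))) (Q : Sylow 2 (Cfsg.PSp 2 F)) (P' : Sylow 2 (Equiv.Perm (Fin 8))) (Q' : Sylow 2 ↥(Cfsg.isometryGroup K (Cfsg.quadFormMinus 2 K a b))) : Nonempty (↥(P : Subgroup ↥(alternatingGroup (Fin 8))) ≃* ↥(Q : Subgroup (Cfsg.PSp 2 F))) ∧ Nonempty (↥(P' : Subgroup (Equiv.Perm (Fin 8))) ≃* ↥(Q' : Subgroup ↥(Cfsg.isometryGroup K (Cfsg.quadFormMinus 2 K a b)))) := by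
  classical
  obtain ⟨e⟩ := GF4.nonempty_equiv_zmod 3 hF
  obtain ⟨e'⟩ := GF4.nonempty_equiv_zmod 2 hK
  have h2 : ∀ x : ZMod 2, x ≠ 0 → x = 1 := by decide
  have hb : e' b = 1 := h2 _ fun h => by
    simpa using hab 0 1 (by simpa using h)
  have ha : e' a = 1 := h2 _ fun h => by
    have := hab 1 1 (e'.injective (by simp [h, hb]; rfl))
    simp at this
  constructor
  · obtain ⟨R, ⟨f⟩⟩ := transfer (GF4.quotCenterCongr (GF4.spCongr e 2)) Q
    obtain ⟨g⟩ := part1 P R
    exact ⟨g.trans f.symm⟩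
  · obtain ⟨R, ⟨f⟩⟩ := transfer (GF4.isometryCongr e' (quadFormMinus 2 K a b) SuzG1.qf fun v => by
      simp [quadFormMinus, ha, hb]) Q'
    obtain ⟨g⟩ := part2 P' R
    exact ⟨g.trans f.symm⟩

end Cfsg.Agent.S2931
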