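import Cfsg.Statements.S2934
import Mathlib
import Cfsg.Agent.Lib.FTBG1
import Cfsg.Agent.Lib.QuatClass

set_option autoImplicit false
set_option linter.unusedSectionVars false
open Cfsg

namespace Cfsg.Agent.S2934

open Subgroup Cfsg.Agent.Lib.PCoreConj Cfsg.Agent.Lib.PCore Cfsg.Agent.Lib.PCoreResidual
  Cfsg.Agent.Lib.PCoreMod Cfsg.Agent.Lib.FTDefs
open scoped commutatorElement

section amb
variable {G : Type*} [Group G] [Finite G] {p : ℕ} {A K Q U C : Subgroup G} {x y z a : G}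

/-- at most one involution -/
def UI (Q : Subgroup G) : Prop := ∀ x ∈ Q, ∀ y ∈ Q, orderOf x = 2 → orderOf y = 2 → x = y

theorem UI.of_le (h : UI Q) (hU : U ≤ Q) : UI U := fun x hx y hy => h x (hU hx) y (hU hy)

theorem conj_mem_of_norm (hn : A ≤ N[Q]) (ha : a ∈ A) (hx : x ∈ Q) : a * x * a⁻¹ ∈ Q :=
  (mem_normalizer_iff.1 (hn ha) x).1 hx

theorem orderOf_conj' (a x : G) : orderOf (a * x * a⁻¹) = orderOf x :=
  (MulAut.conj a).orderOf_eq x

theorem UI.cent (h : UI Q) (hn : A ≤ N[Q]) (hx : x ∈ Q) (h2 : orderOf x = 2) : x ∈ C[A] := by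
  rw [mem_cent_iff]
  intro a ha
  have := h _ (conj_mem_of_norm hn ha hx) _ hx (by rw [orderOf_conj', h2]) h2
  calc a * x = a * x * a⁻¹ * a := by group
    _ = x * a := by rw [this]

theorem cop2 (hp : p.Prime) (hp2 : p ≠ 2) (hA : IsPGroup p A) (hQ : IsPGroup 2 Q) :
    (Nat.card Q).Coprime (Nat.card A) :=
  coprime_of_isPGroup Nat.prime_two hp (Ne.symm hp2) hQ hA

theorem order_two_of_prime (hQ : IsPGroup 2 Q) (hx : x ∈ Q) (h : (orderOf x).Prime) :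
    orderOf x = 2 :=
  eq_of_isPGroup_of_dvd Nat.prime_two hQ h (Subgroup.orderOf_dvd_natCard _ hx)

theorem cent_of_comm (hp : p.Prime) (hp2 : p ≠ 2) (hA : IsPGroup p A) (hQ : IsPGroup 2 Q)
    (h : UI Q) (hn : A ≤ N[Q]) (hc : IsMulCommutative Q) : A ≤ C[Q] :=
  cop_comm_faithful hn (cop2 hp hp2 hA hQ) hc fun _ hx hpr =>
    h.cent hn hx (order_two_of_prime hQ hx hpr)

theorem cent_of_index_two (hp : p.Prime) (hp2 : p ≠ 2) (hA : IsPGroup p A) (hQ : IsPGroup 2 Q)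
    (h : UI Q) (hn : A ≤ N[Q]) (hC : C ≤ Q) (hi : C.relIndex Q = 2) (hc : IsMulCommutative C)
    (hn' : A ≤ N[C]) : A ≤ C[Q] := by
  refine cop_le_cent_of_comm_le hn (cop2 hp hp2 hA hQ) ?_
    (cent_of_comm hp hp2 hA (hQ.to_le hC) (h.of_le hC) hn' hc)
  rw [commutator_le]
  intro g hg a ha
  have h1 : a * g⁻¹ * a⁻¹ ∈ Q := conj_mem_of_norm hn ha (Q.inv_mem hg)
  have h2 := (mul_mem_iff_of_index_two (H := C.subgroupOf Q) hi (a := ⟨g, hg⟩) (b := ⟨_, h1⟩)).2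
    (by
      simp only [mem_subgroupOf]
      rw [← mem_normalizer_iff.1 (hn' ha) g⁻¹, C.inv_mem_iff])
  rw [mem_subgroupOf] at h2
  have e : ⁅g, a⁆ = g * (a * g⁻¹ * a⁻¹) := by rw [commutatorElement_def]; group
  rw [e]; exact h2

theorem card_eq_eight (hp : p.Prime) (hp2 : p ≠ 2) (hA : IsPGroup p A) (hQ : IsPGroup 2 Q)
    (h : UI Q) (hn : A ≤ N[Q]) (hnc : ¬ A ≤ C[Q]) : Nat.card Q = 8 ∧ ∀ x ∈ Q, x ^ 4 = 1 := by
  have hu : ∀ x y : Q, orderOf x = 2 → y ^ 2 = 1 → y ∈ zpowers x := by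
    intro x y hx hy
    by_cases h1 : y = 1
    · rw [h1]; exact one_mem _
    · have hy2 : orderOf y = 2 := orderOf_eq_prime hy h1
      have : y = x := Subtype.ext (h _ y.2 _ x.2 (by rw [orderOf_coe, hy2]) (by rw [orderOf_coe, hx]))
      rw [this]; exact mem_zpowers x
  rcases Lib.QuatClass.isCyclic_or_quaternion hQ hu with hc | ⟨k, hk, ⟨e⟩⟩
  · exact absurd (cent_of_comm hp hp2 hA hQ h hn (comm_of_cyclic hc)) hnc
  haveI : NeZero (2 ^ k) := ⟨by positivity⟩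
  have hcard : Nat.card Q = 4 * 2 ^ k := by
    rw [Nat.card_congr e.toEquiv, Nat.card_eq_fintype_card, QuaternionGroup.card]
  rcases hk.eq_or_lt with rfl | hk2
  · refine ⟨by rw [hcard]; norm_num, fun x hx => ?_⟩
    have h4 : ∀ q : QuaternionGroup (2 ^ 1), q ^ 4 = 1 := by decide
    have : (⟨x, hx⟩ : Q) ^ 4 = 1 := e.injective (by rw [map_pow, h4, map_one])
    exact congrArg Subtype.val this
  exfalso
  apply hnc
  obtain ⟨c, hc⟩ : ∃ c : Q, e c = QuaternionGroup.a 1 := e.surjective _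
  have hco : orderOf (c : G) = 2 * 2 ^ k := by
    rw [orderOf_coe, ← e.orderOf_eq, hc, QuaternionGroup.orderOf_a_one]
  have hle : zpowers (c : G) ≤ Q := (zpowers_le).2 c.2
  refine cent_of_index_two hp hp2 hA hQ h hn hle ?_ (comm_of_cyclic (cyclic_zpowers _)) ?_
  · have h1 := card_mul_relIndex hle
    rw [Nat.card_zpowers, hco, hcard] at h1
    have hpos : 0 < 2 * 2 ^ k := by positivity
    exact Nat.eq_of_mul_eq_mul_left hpos (by rw [h1]; ring)
  · intro α hα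
    apply mem_normalizer_of_conj_le
    rw [conj_zpowers, zpowers_le]
    have h1 : α * c * α⁻¹ ∈ Q := conj_mem_of_norm hn hα c.2
    have h2 : orderOf (e ⟨_, h1⟩) = 2 * 2 ^ k := by
      rw [e.orderOf_eq, ← orderOf_coe, ← hco]; exact orderOf_conj' _ _
    rcases h3 : e ⟨_, h1⟩ with i | i
    · have h4 : (⟨_, h1⟩ : Q) = c ^ i.val := by
        apply e.injective
        rw [h3, map_pow, hc, QuaternionGroup.a_one_pow, ZMod.natCast_zmod_val]
      have h5 : α * c * α⁻¹ = (c : G) ^ i.val := congrArg Subtype.val h4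
      rw [h5]; exact npow_mem_zpowers _ _
    · rw [h3, QuaternionGroup.orderOf_xa] at h2
      have : 2 ^ 2 ≤ 2 ^ k := Nat.pow_le_pow_right (by norm_num) hk2
      omega

theorem comm_of_dvd_four (h : Nat.card U ∣ 4) : IsMulCommutative U := by
  have h' : Nat.card U ∣ 2 ^ 2 := h
  obtain ⟨k, hk, e⟩ := (Nat.dvd_prime_pow Nat.prime_two).1 h'
  haveI : Fact (Nat.Prime 2) := ⟨Nat.prime_two⟩
  interval_cases k
  · rw [pow_zero, card_eq_one] at e
    rw [e]; exact comm_of_cyclic cyclic_bot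
  · exact comm_of_cyclic (isCyclic_of_card_prime (by rw [e]; norm_num))
  · exact IsPGroup.isMulCommutative_of_card_eq_prime_sq e

theorem dvd_four_of_lt (h8 : Nat.card Q = 8) (hU : U ≤ Q) (hne : U ≠ Q) : Nat.card U ∣ 4 := by
  have h1 : Nat.card U ∣ 2 ^ 3 := by
    have := card_dvd_of_le hU
    rwa [h8] at this
  obtain ⟨k, hk, e⟩ := (Nat.dvd_prime_pow Nat.prime_two).1 h1
  interval_cases k
  · rw [e]; norm_num
  · rw [e]; norm_num
  · rw [e]; norm_num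
  · exact absurd (eq_of_le_of_card_eq hU (by rw [e, h8]; norm_num)) hne

theorem UI.mem_zpowers (h : UI Q) (hz : z ∈ Q) (h2 : orderOf z = 2) (hx : x ∈ Q) (hx2 : x ^ 2 = 1) :
    x ∈ zpowers z := by
  by_cases h1 : x = 1
  · rw [h1]; exact one_mem _
  · haveI : Fact (Nat.Prime 2) := ⟨Nat.prime_two⟩
    rw [h _ hx _ hz (orderOf_eq_prime hx2 h1) h2]; exact Subgroup.mem_zpowers z

theorem inv_sub (hp : p.Prime) (hp2 : p ≠ 2) (hA : IsPGroup p A) (hQ : IsPGroup 2 Q)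
    (h : UI Q) (hn : A ≤ N[Q]) (hnc : ¬ A ≤ C[Q]) (hz : z ∈ Q) (h2 : orderOf z = 2) (hU : U ≤ Q)
    (hAU : A ≤ N[U]) : U ≤ zpowers z ∨ U = Q := by
  by_cases hne : U = Q
  · exact Or.inr hne
  left
  have h8 := (card_eq_eight hp hp2 hA hQ h hn hnc).1
  have h4 := dvd_four_of_lt h8 hU hne
  have h2' : Nat.card U ∣ 2 := by
    have h' : Nat.card U ∣ 2 ^ 2 := h4
    obtain ⟨k, hk, e⟩ := (Nat.dvd_prime_pow Nat.prime_two).1 h'
    interval_cases k
    · rw [e]; norm_num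
    · rw [e]; norm_num
    · exfalso
      refine hnc (cent_of_index_two hp hp2 hA hQ h hn hU ?_ (comm_of_dvd_four h4) hAU)
      have := card_mul_relIndex hU
      rw [e, h8] at this
      omega
  intro x hx
  exact h.mem_zpowers hz h2 (hU hx)
    (orderOf_dvd_iff_pow_eq_one.1 ((Subgroup.orderOf_dvd_natCard _ hx).trans h2'))

theorem not_comm (hp : p.Prime) (hp2 : p ≠ 2) (hA : IsPGroup p A) (hQ : IsPGroup 2 Q)
    (h : UI Q) (hn : A ≤ N[Q]) (hnc : ¬ A ≤ C[Q]) : ¬ Q ≤ C[Q] :=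
  fun hc => hnc (cent_of_comm hp hp2 hA hQ h hn (comm_iff_le_cent.2 hc))

theorem fix_le (hp : p.Prime) (hp2 : p ≠ 2) (hA : IsPGroup p A) (hQ : IsPGroup 2 Q)
    (h : UI Q) (hn : A ≤ N[Q]) (hnc : ¬ A ≤ C[Q]) (hz : z ∈ Q) (h2 : orderOf z = 2) :
    Q ⊓ C[A] = zpowers z := by
  apply le_antisymm
  · refine (inv_sub hp hp2 hA hQ h hn hnc hz h2 inf_le_left
      (le_normalizer_inf hn (le_normalizer_centralizer le_normalizer))).resolve_right fun e => ?_
    exact hnc (le_cent_comm.1 (e ▸ inf_le_right))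
  · rw [zpowers_le]; exact ⟨hz, h.cent hn hz h2⟩

theorem relIndex_cent1_le (hn : A ≤ N[Q]) (hx : x ∈ Q) : (c[x]).relIndex A ≤ Nat.card Q := by
  let f : A → Q := fun a => ⟨a * x * (a : G)⁻¹, conj_mem_of_norm hn a.2 hx⟩
  have hf : ∀ a b : A, f a = f b ↔ (QuotientGroup.leftRel ((c[x]).subgroupOf A)) a b := by
    intro a b
    rw [QuotientGroup.leftRel_apply, mem_subgroupOf, mem_cent1, Subtype.ext_iff]
    simp only [f, coe_mul, coe_inv]
    constructor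
    · intro h
      calc (a : G)⁻¹ * b * x = (a : G)⁻¹ * (b * x * (b : G)⁻¹) * b := by group
        _ = x * ((a : G)⁻¹ * b) := by rw [← h]; group
    · intro h
      calc (a : G) * x * (a : G)⁻¹ = a * (x * ((a : G)⁻¹ * b)) * (b : G)⁻¹ := by group
        _ = b * x * (b : G)⁻¹ := by rw [← h]; group
  refine Nat.card_le_card_of_injective (Quotient.lift f fun a b h => (hf a b).2 h) ?_
  intro a b
  induction a using Quotient.inductionOn
  induction b using Quotient.inductionOn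
  exact fun h => Quotient.sound ((hf _ _).1 h)

theorem index_three (hp : p.Prime) (hp2 : p ≠ 2) (hA : IsPGroup p A) (hQ : IsPGroup 2 Q)
    (h : UI Q) (hn : A ≤ N[Q]) (hnc : ¬ A ≤ C[Q]) (hz : z ∈ Q) (h2 : orderOf z = 2) :
    p = 3 ∧ (C[Q]).relIndex A ≤ 3 := by
  have h8 := (card_eq_eight hp hp2 hA hQ h hn hnc).1
  have hm := card_modEq_card_cent hp hA hn
  rw [fix_le hp hp2 hA hQ h hn hnc hz h2, Nat.card_zpowers, h2, h8] at hm
  have hd : p ∣ 2 * 3 := (Nat.modEq_iff_dvd' (by norm_num)).1 hm.symm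
  have hp3 : p = 3 := by
    rcases (Nat.Prime.dvd_mul hp).1 hd with h' | h'
    · exact absurd ((Nat.prime_dvd_prime_iff_eq hp Nat.prime_two).1 h') hp2
    · exact (Nat.prime_dvd_prime_iff_eq hp Nat.prime_three).1 h'
  refine ⟨hp3, ?_⟩
  obtain ⟨i, hi, hiz⟩ : ∃ i ∈ Q, i ∉ zpowers z := by
    by_contra hcon
    push Not at hcon
    have := Subgroup.card_le_of_le (show Q ≤ zpowers z from hcon)
    rw [Nat.card_zpowers, h2, h8] at this
    omega
  have heq : A ⊓ c[i] ≤ C[Q] := by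
    by_contra hcon
    have := fix_le hp hp2 (hA.to_le inf_le_left) hQ h (inf_le_left.trans hn) hcon hz h2
    exact hiz (this ▸ (⟨hi, le_cent1_iff.1 inf_le_right⟩ : i ∈ Q ⊓ C[A ⊓ c[i]]))
  have h1 : (C[Q]).relIndex A ≤ (c[i]).relIndex A := by
    rw [← inf_relIndex_left (H := A) (K := c[i])]
    exact relIndex_le_of_le_left heq (relIndex_ne_zero _)
  have h3 := h1.trans (relIndex_cent1_le hn hi)
  obtain ⟨k, hk⟩ := relIndex_eq_pow hp hA (C[Q])
  rw [hk, h8, hp3] at h3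
  rw [hk, hp3]
  have : k ≤ 1 := by
    by_contra hcon
    have : 3 ^ 2 ≤ 3 ^ k := Nat.pow_le_pow_right (by norm_num) (by omega)
    omega
  calc 3 ^ k ≤ 3 ^ 1 := Nat.pow_le_pow_right (by norm_num) this
    _ = 3 := by norm_num

theorem mem_zpowers_two (h2 : orderOf z = 2) (hx : x ∈ zpowers z) : x = 1 ∨ x = z := by
  have : zpowers z = (zpowers z) := rfl
  obtain ⟨k, hk⟩ := (mem_zpowers_iff.1 hx)
  have hz2 : z ^ (2 : ℤ) = 1 := by
    rw [show (2 : ℤ) = ((2 : ℕ) : ℤ) from rfl, zpow_natCast, ← h2, pow_orderOf_eq_one]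
  obtain ⟨m, rfl | rfl⟩ := Int.even_or_odd' k
  · left; rw [← hk, zpow_mul, hz2, one_zpow]
  · right; rw [← hk, zpow_add, zpow_mul, hz2, one_zpow, one_mul, zpow_one]

/-- central product decomposition -/
theorem decomp (h8 : Nat.card Q = 8) (h2 : orderOf z = 2) (hzc : ∀ g : G, g * z = z * g)
    (hZ : Q ⊓ C[Q] ≤ zpowers z) (hQU : Q ≤ U) (hc : ⁅Q, U⁆ ≤ zpowers z) {u : G} (hu : u ∈ U) :
    ∃ q ∈ Q, q⁻¹ * u ∈ C[Q] := by
  obtain ⟨i, hi, hiz⟩ : ∃ i ∈ Q, i ∉ zpowers z := by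
    by_contra hcon
    push Not at hcon
    have := Subgroup.card_le_of_le (show Q ≤ zpowers z from hcon)
    rw [Nat.card_zpowers, h2, h8] at this
    omega
  obtain ⟨j, hj, hij⟩ : ∃ j ∈ Q, j * i ≠ i * j := by
    by_contra hcon
    push Not at hcon
    exact hiz (hZ ⟨hi, mem_cent_iff.2 hcon⟩)
  have hzz : z * z = 1 := by rw [← pow_two, ← h2, pow_orderOf_eq_one]
  have key : ∀ x ∈ Q, ∀ w ∈ U, w * x = x * w ∨ w * x = x * w * z := by
    intro x hx w hw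
    have := hc (commutator_mem_commutator (Q.inv_mem hx) (U.inv_mem hw))
    rw [commutatorElement_def, inv_inv, inv_inv] at this
    rcases mem_zpowers_two h2 this with e | e
    · left
      calc w * x = w * x * (x⁻¹ * w⁻¹ * x * w) := by rw [e, mul_one]
        _ = x * w := by group
    · right
      calc w * x = w * x * z * z := by rw [mul_assoc _ z z, hzz, mul_one]
        _ = w * x * (x⁻¹ * w⁻¹ * x * w) * z := by rw [e]
        _ = x * w * z := by group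
  have hji : j * i = i * j * z := (key i hi j (hQU hj)).resolve_left hij
  have hij' : i * j = j * i * z := (key j hj i (hQU hi)).resolve_left (Ne.symm hij)
  have fin : ∀ q ∈ Q, u * i * u⁻¹ = q * i * q⁻¹ → u * j * u⁻¹ = q * j * q⁻¹ → q⁻¹ * u ∈ C[Q] := by
    intro q hq e1 e2
    have hi' : i ∈ c[q⁻¹ * u] := by
      rw [mem_cent1]
      calc i * (q⁻¹ * u) = q⁻¹ * (q * i * q⁻¹) * u := by group
        _ = q⁻¹ * u * i := by rw [← e1]; group
    have hj' : j ∈ c[q⁻¹ * u] := by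
      rw [mem_cent1]
      calc j * (q⁻¹ * u) = q⁻¹ * (q * j * q⁻¹) * u := by group
        _ = q⁻¹ * u * j := by rw [← e2]; group
    by_cases e : Q ⊓ c[q⁻¹ * u] = Q
    · exact le_cent1_iff.1 (e ▸ inf_le_right)
    · exfalso
      have := comm_iff_le_cent.1 (comm_of_dvd_four (dvd_four_of_lt h8 inf_le_left e))
      exact hij (mem_cent_iff.1 (this ⟨hi, hi'⟩) j ⟨hj, hj'⟩)
  have c1 : ∀ w x : G, w * x = x * w → w * x * w⁻¹ = x := fun w x h => by rw [h]; group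
  have c2 : ∀ w x : G, w * x = x * w * z → w * x * w⁻¹ = x * z := fun w x h => by
    rw [h, mul_assoc x w z, hzc w]; group
  rcases key i hi u hu with e1 | e1 <;> rcases key j hj u hu with e2 | e2
  · exact ⟨1, Q.one_mem, fin 1 Q.one_mem (by rw [c1 _ _ e1]; group) (by rw [c1 _ _ e2]; group)⟩
  · exact ⟨i, hi, fin i hi (by rw [c1 _ _ e1]; group) (by rw [c2 _ _ e2, c2 _ _ hij'])⟩
  · exact ⟨j, hj, fin j hj (by rw [c2 _ _ e1, c2 _ _ hji]) (by rw [c1 _ _ e2]; group)⟩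
  · refine ⟨i * j, Q.mul_mem hi hj, fin _ (Q.mul_mem hi hj) ?_ ?_⟩
    · rw [c2 _ _ e1]
      calc i * z = i * (i * z) * i⁻¹ := by rw [mul_assoc i (i * z), mul_assoc i z, ← hzc i⁻¹]; group
        _ = i * (j * i * j⁻¹) * i⁻¹ := by rw [c2 _ _ hji]
        _ = _ := by group
    · rw [c2 _ _ e2, ← c2 _ _ hij']; group

/-- The standing hypotheses. -/
structure Hyp (p : ℕ) (A K : Subgroup G) (z : G) : Prop where
  hp : p.Prime
  hp2 : p ≠ 2
  hA : IsPGroup p A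
  hK : IsPGroup 2 K
  hab : IsMulCommutative A
  hnc : ¬ IsCyclic A
  hn : A ≤ N[K]
  ui : ∀ a ∈ A, a ≠ 1 → UI (K ⊓ c[a])
  hz : z ∈ K
  h2 : orderOf z = 2
  fix : K ⊓ C[A] = zpowers z

namespace Hyp

theorem norm_c (h : Hyp p A K z) (ha : a ∈ A) : A ≤ N[c[a]] :=
  le_normalizer_of_le (le_cent1_iff.2 (comm_iff_le_cent.1 h.hab ha))

theorem normQ (h : Hyp p A K z) (ha : a ∈ A) : A ≤ N[K ⊓ c[a]] :=
  le_normalizer_inf h.hn (h.norm_c ha)

theorem zA (h : Hyp p A K z) : z ∈ C[A] := (h.fix.ge (Subgroup.mem_zpowers z)).2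

theorem zQ (h : Hyp p A K z) (ha : a ∈ A) : z ∈ K ⊓ c[a] := ⟨h.hz, cent_le_cent1 ha h.zA⟩

theorem pQ (h : Hyp p A K z) (a : G) : IsPGroup 2 ↥(K ⊓ c[a]) := h.hK.to_le inf_le_left

theorem not_cent (h : Hyp p A K z) (hne : ¬ K ⊓ c[a] ≤ zpowers z) : ¬ A ≤ C[K ⊓ c[a]] :=
  fun hc => hne (h.fix ▸ le_inf inf_le_left (le_cent_comm.1 hc))

theorem eq_of (h : Hyp p A K z) (ha : a ∈ A) (h1 : a ≠ 1) (hU : U ≤ K) (hAU : A ≤ N[U])
    (hne : ¬ U ⊓ c[a] ≤ zpowers z) : K ⊓ c[a] ≤ U := by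
  have hle : U ⊓ c[a] ≤ K ⊓ c[a] := inf_le_inf_right _ hU
  have := (inv_sub h.hp h.hp2 h.hA (h.pQ a) (h.ui a ha h1) (h.normQ ha)
    (h.not_cent fun e => hne (hle.trans e)) (h.zQ ha) h.h2 hle
    (le_normalizer_inf hAU (h.norm_c ha))).resolve_left hne
  exact this.ge.trans inf_le_left

theorem exists_a (h : Hyp p A K z) (hU : U ≤ K) (hAU : A ≤ N[U]) (hne : ¬ U ≤ zpowers z) :
    ∃ a ∈ A, a ≠ 1 ∧ ¬ U ⊓ c[a] ≤ zpowers z := by
  by_contra hcon
  push Not at hcon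
  exact hne (cop_le_of_cent1 h.hab h.hnc hAU (cop2 h.hp h.hp2 h.hA (h.hK.to_le hU)) hcon)

theorem zK (h : Hyp p A K z) : z ∈ C[K] := by
  rw [← le_cent1_iff]
  refine cop_le_of_cent1 h.hab h.hnc h.hn (cop2 h.hp h.hp2 h.hA h.hK) fun a ha h1 => ?_
  exact le_cent1_iff.2 ((h.ui a ha h1).cent le_normalizer (h.zQ ha) h.h2)

theorem center_le (h : Hyp p A K z) (hU : U ≤ K) (hAU : A ≤ N[U]) : U ⊓ C[U] ≤ zpowers z := by
  by_contra hne
  have hinv : A ≤ N[U ⊓ C[U]] := le_normalizer_inf hAU (le_normalizer_centralizer hAU)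
  obtain ⟨a, ha, h1, hne'⟩ := h.exists_a (inf_le_left.trans hU) hinv hne
  have hle := h.eq_of ha h1 (inf_le_left.trans hU) hinv hne'
  have hnz : ¬ K ⊓ c[a] ≤ zpowers z := fun e => hne' ((inf_le_inf_right _ (inf_le_left.trans hU)).trans e)
  exact not_comm h.hp h.hp2 h.hA (h.pQ a) (h.ui a ha h1) (h.normQ ha) (h.not_cent hnz)
    ((hle.trans inf_le_right).trans (centralizer_le (hle.trans inf_le_left)))

theorem ind (h : Hyp p A K z) (hzc : ∀ g : G, g * z = z * g) (U : Subgroup G) : U ≤ K →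
    A ≤ N[U] → z ∈ U → (∀ x ∈ U, x ^ 2 ∈ zpowers z) ∧ ∃ r, Nat.card U = 2 * 4 ^ r ∧
      2 * r ≤ {a | a ∈ A ∧ a ≠ 1 ∧ ¬ U ⊓ c[a] ≤ zpowers z}.ncard := by
  induction U using subgroup_induction with
  | ih U ih =>
  intro hU hAU hzU
  by_cases hUz : U ≤ zpowers z
  · have e : U = zpowers z := le_antisymm hUz (zpowers_le.2 hzU)
    refine ⟨fun x hx => pow_mem (hUz hx) 2, 0, ?_, Nat.zero_le _⟩
    rw [e, Nat.card_zpowers, h.h2]; norm_num
  haveI hN : (zpowers z).Normal := ⟨fun n hn g => by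
    rcases mem_zpowers_two h.h2 hn with rfl | rfl
    · simp
    · rw [hzc]; simp⟩
  have hzU' : zpowers z ≤ C[U] := zpowers_le.2 (mem_cent_iff.2 fun g _ => hzc g)
  have hV : ¬ Z2 U ≤ zpowers z := by
    have hne : U.map (QuotientGroup.mk' (zpowers z)) ≠ ⊥ := by
      rwa [Ne, Subgroup.map_eq_bot_iff, QuotientGroup.ker_mk']
    obtain ⟨w, ⟨⟨x, hx, rfl⟩, hw⟩, hw1⟩ := exists_mem_ne_one (center_ne_bot_of_nil
      (nil_map (nil_of_isPGroup Nat.prime_two (h.hK.to_le hU)) _) hne)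
    intro hle
    apply hw1
    rw [QuotientGroup.mk'_apply, QuotientGroup.eq_one_iff]
    refine hle (mem_Z2.2 ⟨hx, fun y hy => hzU' ?_⟩)
    rw [← QuotientGroup.eq_one_iff, ← QuotientGroup.mk'_apply, map_commutatorElement,
      commutatorElement_eq_one_iff_mul_comm]
    exact (mem_cent_iff.1 hw _ ⟨y, hy, rfl⟩).symm
  have hAV : A ≤ N[Z2 U] := hAU.trans (normalizer_le_normalizer_Z2 U)
  obtain ⟨a, ha, h1, hne⟩ := h.exists_a ((Z2_le U).trans hU) hAV hV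
  have hQV := h.eq_of ha h1 ((Z2_le U).trans hU) hAV hne
  have hQU := hQV.trans (Z2_le U)
  have hnz : ¬ K ⊓ c[a] ≤ zpowers z := fun e =>
    hne ((inf_le_inf_right _ ((Z2_le U).trans hU)).trans e)
  obtain ⟨Q, hQ⟩ : ∃ Q, Q = K ⊓ c[a] := ⟨_, rfl⟩
  have hnQ : A ≤ N[Q] := hQ ▸ h.normQ ha
  have hQK : Q ≤ K := hQ ▸ inf_le_left
  obtain ⟨h8, h4⟩ := card_eq_eight h.hp h.hp2 h.hA (h.pQ a) (h.ui a ha h1) (h.normQ ha)
    (h.not_cent hnz)
  have hncomm := not_comm h.hp h.hp2 h.hA (h.pQ a) (h.ui a ha h1) (h.normQ ha) (h.not_cent hnz)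
  have hui := h.ui a ha h1
  have hzQ := h.zQ ha
  rw [← hQ] at h8 h4 hncomm hui hzQ hQV hQU hnz
  have hZ : Q ⊓ C[Q] ≤ zpowers z := h.center_le hQK hnQ
  have hc : ⁅Q, U⁆ ≤ zpowers z :=
    ((commutator_mono hQV le_rfl).trans (comm_Z2_le U)).trans (h.center_le hU hAU)
  have hlt : U ⊓ C[Q] < U := lt_of_le_of_ne inf_le_left fun e =>
    hncomm (hQU.trans (e.ge.trans inf_le_right))
  obtain ⟨hsq, r, hr, hT⟩ := ih _ hlt (inf_le_left.trans hU)
    (le_normalizer_inf hAU (le_normalizer_centralizer hnQ))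
    ⟨hzU, mem_cent_iff.2 fun g _ => hzc g⟩
  have hdec : ∀ u ∈ U, ∃ q ∈ Q, ∃ c ∈ U ⊓ C[Q], u = q * c := by
    intro u hu
    obtain ⟨q, hq, hq'⟩ := decomp h8 h.h2 hzc hZ hQU hc hu
    exact ⟨q, hq, q⁻¹ * u, ⟨U.mul_mem (U.inv_mem (hQU hq)) hu, hq'⟩, by group⟩
  have hinf : Q ⊓ (U ⊓ C[Q]) = zpowers z := le_antisymm
    ((inf_le_inf_left _ inf_le_right).trans hZ)
    (zpowers_le.2 ⟨hzQ, hzU, mem_cent_iff.2 fun g _ => hzc g⟩)
  have hsup : Q ⊔ (U ⊓ C[Q]) = U := by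
    refine le_antisymm (sup_le hQU inf_le_left) fun u hu => ?_
    obtain ⟨q, hq, c, hc', rfl⟩ := hdec u hu
    exact mul_mem_sup hq hc'
  refine ⟨fun u hu => ?_, r + 1, ?_, ?_⟩
  · obtain ⟨q, hq, c, hc', rfl⟩ := hdec u hu
    have hcomm : Commute q c := mem_cent_iff.1 hc'.2 q hq
    rw [hcomm.mul_pow]
    exact mul_mem (hui.mem_zpowers hzQ h.h2 (pow_mem hq 2) (by rw [← pow_mul, h4 q hq]))
      (hsq c hc')
  · have := (Permutes.of_norm' (A := Q) (B := U ⊓ C[Q])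
      (inf_le_right.trans (le_normalizer_of_le_centralizer le_rfl))).card_mul
    rw [hsup, hinf, Nat.card_zpowers, h.h2, h8, hr] at this
    rw [pow_succ]; omega
  · have hane : a⁻¹ ≠ a := by
      intro e
      have h2' : orderOf a ∣ 2 := orderOf_dvd_iff_pow_eq_one.2 (by
        rw [pow_two]; nth_rewrite 1 [← e]; rw [inv_mul_cancel])
      rcases (Nat.dvd_prime Nat.prime_two).1 h2' with e' | e'
      · exact h1 (orderOf_eq_one_iff.1 e')
      · exact h.hp2 (eq_of_isPGroup_of_dvd h.hp h.hA Nat.prime_two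
          (e' ▸ Subgroup.orderOf_dvd_natCard _ ha)).symm
    have hci : c[a⁻¹] = c[a] := by
      rw [← centralizer_zpowers_eq, zpowers_inv, centralizer_zpowers_eq]
    have hout : (U ⊓ C[Q]) ⊓ c[a] ≤ zpowers z := by
      refine le_trans ?_ hZ
      rw [hQ]
      exact le_inf (inf_le_inf_right _ (inf_le_left.trans hU))
        (inf_le_left.trans (hQ ▸ inf_le_right))
    have hin : ¬ U ⊓ c[a] ≤ zpowers z := fun e => hnz (le_trans (le_inf hQU (hQ ▸ inf_le_right)) e)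
    obtain ⟨T, hTe⟩ : ∃ T, T = {a | a ∈ A ∧ a ≠ 1 ∧ ¬ (U ⊓ C[Q]) ⊓ c[a] ≤ zpowers z} := ⟨_, rfl⟩
    rw [← hTe] at hT
    have n1 : a ∉ T := by rw [hTe]; exact fun hh => hh.2.2 hout
    have n2 : a⁻¹ ∉ insert a T := by
      rw [hTe]
      rintro (hh | hh)
      · exact hane hh
      · exact hh.2.2 (hci ▸ hout)
    have hsub : insert a⁻¹ (insert a T) ⊆ {a | a ∈ A ∧ a ≠ 1 ∧ ¬ U ⊓ c[a] ≤ zpowers z} := by
      rintro b (rfl | rfl | hb)
      · exact ⟨A.inv_mem ha, inv_ne_one.2 h1, hci ▸ hin⟩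
      · exact ⟨ha, h1, hin⟩
      · rw [hTe] at hb
        exact ⟨hb.1, hb.2.1, fun e => hb.2.2 ((inf_le_inf_right _ inf_le_left).trans e)⟩
    have := Set.ncard_le_ncard hsub
    rw [Set.ncard_insert_of_notMem n2, Set.ncard_insert_of_notMem n1] at this
    omega

theorem card_nine (h : Hyp p A K z) (hf : A ⊓ C[K] = ⊥) (hne : ¬ K ≤ zpowers z) :
    Nat.card A = 9 ∧ 8 < Nat.card K := by
  obtain ⟨a, ha, h1, hna⟩ := h.exists_a le_rfl h.hn hne
  have h8 : ∀ b ∈ A, b ≠ 1 → ¬ K ⊓ c[b] ≤ zpowers z → Nat.card ↥(K ⊓ c[b]) = 8 := fun b hb h1 hnb =>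
    (card_eq_eight h.hp h.hp2 h.hA (h.pQ b) (h.ui b hb h1) (h.normQ hb) (h.not_cent hnb)).1
  have hKa : ¬ K ≤ K ⊓ c[a] := fun e => h1 (by
    have : a ∈ A ⊓ C[K] := ⟨ha, le_cent1_iff.1 (e.trans inf_le_right)⟩
    rwa [hf, mem_bot] at this)
  obtain ⟨b, hb, h1b, hnb⟩ : ∃ b ∈ A, b ≠ 1 ∧ ¬ K ⊓ c[b] ≤ K ⊓ c[a] := by
    by_contra hcon
    push Not at hcon
    exact hKa (cop_le_of_cent1 h.hab h.hnc h.hn (cop2 h.hp h.hp2 h.hA h.hK) hcon)
  have hnb' : ¬ K ⊓ c[b] ≤ zpowers z := fun e => hnb (e.trans (zpowers_le.2 (h.zQ ha)))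
  obtain ⟨hp3, i1⟩ := index_three h.hp h.hp2 h.hA (h.pQ a) (h.ui a ha h1) (h.normQ ha)
    (h.not_cent hna) (h.zQ ha) h.h2
  obtain ⟨-, i2⟩ := index_three h.hp h.hp2 h.hA (h.pQ b) (h.ui b hb h1b) (h.normQ hb)
    (h.not_cent hnb') (h.zQ hb) h.h2
  have hbot : A ⊓ (C[K ⊓ c[a]] ⊓ C[K ⊓ c[b]]) = ⊥ := by
    by_contra hcon
    obtain ⟨d, ⟨hd, hda, hdb⟩, hd1⟩ := exists_mem_ne_one hcon
    have l1 : K ⊓ c[a] ≤ K ⊓ c[d] := le_inf inf_le_left (le_cent1_iff.2 hda)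
    have l2 : K ⊓ c[b] ≤ K ⊓ c[d] := le_inf inf_le_left (le_cent1_iff.2 hdb)
    have e1 := eq_of_le_of_card_eq l1
      ((h8 a ha h1 hna).trans (h8 d hd hd1 fun e => hna (l1.trans e)).symm)
    exact hnb (l2.trans e1.ge)
  have hle : Nat.card A ≤ 9 := by
    have e : (C[K ⊓ c[a]] ⊓ C[K ⊓ c[b]]).relIndex A = Nat.card A := by
      rw [← inf_relIndex_left, hbot, relIndex_bot_left]
    rw [← e]
    exact relIndex_inf_le.trans (Nat.mul_le_mul i1 i2)
  refine ⟨?_, ?_⟩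
  · obtain ⟨k, hk⟩ := exists_card_eq_pow h.hp h.hA
    rw [hp3] at hk
    have hk2 : k ≤ 2 := by
      by_contra hcon
      have : 3 ^ 3 ≤ 3 ^ k := Nat.pow_le_pow_right (by norm_num) (by omega)
      omega
    interval_cases k
    · rw [pow_zero, card_eq_one] at hk
      exact absurd (hk ▸ cyclic_bot) h.hnc
    · exact absurd (isCyclic_of_card_prime (by rw [hk]; norm_num)) h.hnc
    · rw [hk]; norm_num
  · rw [← h8 a ha h1 hna]
    refine lt_of_le_of_ne (Subgroup.card_le_of_le inf_le_left) fun e => hKa ?_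
    exact (eq_of_le_of_card_eq inf_le_left e).ge

end Hyp

theorem ambient (hp : p.Prime) (hp2 : p ≠ 2) (hA : IsPGroup p A) (hK : IsPGroup 2 K)
    (hab : IsMulCommutative A) (hnc : ¬ IsCyclic A) (hn : A ≤ N[K]) (hf : A ⊓ C[K] = ⊥)
    (hG : K ⊔ A = ⊤) (ui : ∀ a ∈ A, a ≠ 1 → UI (K ⊓ c[a])) :
    Nat.card A = 9 ∧ (Nat.card K = 2 ^ 5 ∨ Nat.card K = 2 ^ 7 ∨ Nat.card K = 2 ^ 9) ∧
      ∃ z ∈ K, orderOf z = 2 ∧ (∀ x ∈ K, x ^ 2 ∈ zpowers z) ∧ K ⊓ C[K] = zpowers z ∧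
        K ⊓ C[A] = zpowers z := by
  have hAc : ∀ a ∈ A, A ≤ N[K ⊓ c[a]] := fun a ha => le_normalizer_inf hn
    (le_normalizer_of_le (le_cent1_iff.2 (comm_iff_le_cent.1 hab ha)))
  obtain ⟨a, ha, h1, hna⟩ : ∃ a ∈ A, a ≠ 1 ∧ ¬ K ⊓ c[a] ≤ C[A] := by
    by_contra hcon
    push Not at hcon
    have := le_cent_comm.1 (cop_le_of_cent1 hab hnc hn (cop2 hp hp2 hA hK) hcon)
    rw [← inf_eq_left.2 this, hf] at hnc
    exact hnc cyclic_bot
  have hna' : ¬ A ≤ C[K ⊓ c[a]] := fun e => hna (le_cent_comm.1 e)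
  have hpQ : IsPGroup 2 ↥(K ⊓ c[a]) := hK.to_le inf_le_left
  have h8 := (card_eq_eight hp hp2 hA hpQ (ui a ha h1) (hAc a ha) hna').1
  obtain ⟨z, hz, hzp⟩ := exists_mem_prime_order (H := K ⊓ c[a])
    (ne_bot_of_dvd_card Nat.prime_two (by rw [h8]; norm_num))
  have h2 := order_two_of_prime hpQ hz hzp
  have hfix : K ⊓ C[A] = zpowers z := by
    rw [← fix_le hp hp2 hA hpQ (ui a ha h1) (hAc a ha) hna' hz h2, inf_assoc,
      inf_eq_right.2 (cent_le_cent1 ha)]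
  have h : Hyp p A K z := ⟨hp, hp2, hA, hK, hab, hnc, hn, ui, hz.1, h2, hfix⟩
  have hzc : ∀ g : G, g * z = z * g := by
    intro g
    have : K ⊔ A ≤ c[z] := sup_le (le_cent1_iff.2 h.zK) (le_cent1_iff.2 h.zA)
    exact mem_cent1.1 (this (hG ▸ mem_top g))
  have hne : ¬ K ≤ zpowers z := fun e => by
    have := Subgroup.card_le_of_le ((inf_le_left : K ⊓ c[a] ≤ K).trans e)
    rw [h8, Nat.card_zpowers, h2] at this
    omega
  obtain ⟨h9, hlt⟩ := h.card_nine hf hne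
  obtain ⟨hsq, r, hr, hT⟩ := h.ind hzc K le_rfl hn hz.1
  refine ⟨h9, ?_, z, hz.1, h2, hsq, le_antisymm (h.center_le le_rfl hn)
    (zpowers_le.2 ⟨hz.1, h.zK⟩), hfix⟩
  have hsub : {a | a ∈ A ∧ a ≠ 1 ∧ ¬ K ⊓ c[a] ≤ zpowers z} ⊆ sharp A :=
    fun b hb => mem_sharp.2 ⟨hb.1, hb.2.1⟩
  have := Set.ncard_le_ncard hsub
  rw [ncard_sharp, h9] at this
  have hr4 : r ≤ 4 := by omega
  rw [hr] at hlt ⊢
  interval_cases r <;> simp_all

end amb

/-- Let p be an odd prime, W a finite 2-group and E a non-cyclic abelian p-subgroup of Aut(W) such that, for every nontrivial e ∈ E, the fixed points of e in W contain at most one involution. Then E has order 9, W is extraspecial of order 2⁵, 2⁷ or 2⁹, and the common fixed points of E in W form exactly the centre Z(W). -/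
theorem result {W : Type*} [Group W] [Finite W] (hW : IsPGroup 2 W) {p : ℕ} [Fact p.Prime] (hp : p ≠ 2) (E : Subgroup (MulAut W)) (hE : IsPGroup p ↥E) (hab : IsMulCommutative ↥E) (hnc : ¬ IsCyclic ↥E) (hfix : ∀ e ∈ E, e ≠ 1 → ∀ x y : W, orderOf x = 2 → orderOf y = 2 → e x = x → e y = y → x = y) : Nat.card ↥E = 9 ∧ Cfsg.IsExtraspecial 2 W ∧ (Nat.card W = 2 ^ 5 ∨ Nat.card W = 2 ^ 7 ∨ Nat.card W = 2 ^ 9) ∧ {x : W | ∀ e ∈ E, e x = x} = (Subgroup.center W : Set W) := by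
  haveI : Finite (W ⋊[E.subtype] E) := Finite.of_equiv _ SemidirectProduct.equivProd.symm
  obtain ⟨G, _, _, l, r, hl, hr, hlr, hG⟩ : ∃ (G : Type _) (_ : Group G) (_ : Finite G)
      (l : W →* G) (r : E →* G), Function.Injective l ∧ Function.Injective r ∧
      (∀ (e : E) (x : W), r e * l x * (r e)⁻¹ = l ((e : MulAut W) x)) ∧ l.range ⊔ r.range = ⊤ := by
    refine ⟨W ⋊[E.subtype] E, inferInstance, inferInstance, SemidirectProduct.inl,
      SemidirectProduct.inr, SemidirectProduct.inl_injective, SemidirectProduct.inr_injective,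
      fun e x => ?_, ?_⟩
    · rw [← map_inv, ← SemidirectProduct.inl_aut]; rfl
    · rw [eq_top_iff]
      intro g _
      rw [← SemidirectProduct.inl_left_mul_inr_right g]
      exact mul_mem_sup ⟨_, rfl⟩ ⟨_, rfl⟩
  have eW : W ≃* l.range := MonoidHom.ofInjective hl
  have eE : E ≃* r.range := MonoidHom.ofInjective hr
  have hcomm : ∀ (e : E) (x : W), l x * r e = r e * l x ↔ (e : MulAut W) x = x := by
    intro e x
    rw [← hl.eq_iff, ← hlr, mul_inv_eq_iff_eq_mul, eq_comm]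
  obtain ⟨h9, hcard, z', ⟨z, rfl⟩, h2, hsq, hZ, hF⟩ := ambient (G := G) (A := r.range)
    (K := l.range) Fact.out hp (hE.of_equiv eE) (hW.of_equiv eW)
    (by rw [MonoidHom.range_eq_map, comm_iff_le_cent]
        rintro _ ⟨a, -, rfl⟩
        rw [mem_cent_iff]
        rintro _ ⟨b, -, rfl⟩
        rw [← map_mul, ← map_mul, hab.is_comm.comm])
    (fun hc => hnc (eE.isCyclic.2 hc))
    (by rw [le_normalizer_iff_conj_le]
        rintro _ ⟨e, rfl⟩ _ hx
        obtain ⟨_, ⟨x, rfl⟩, rfl⟩ := mem_conj_iff'.1 hx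
        exact ⟨_, (hlr e x).symm⟩)
    (by rw [eq_bot_iff]
        rintro _ ⟨⟨e, rfl⟩, he⟩
        have : e = 1 := by
          ext x
          exact (hcomm e x).1 (mem_cent_iff.1 he _ ⟨x, rfl⟩)
        rw [this, map_one]; exact one_mem _)
    hG
    (by rintro _ ⟨e, rfl⟩ h1 _ ⟨⟨x, rfl⟩, hx⟩ _ ⟨⟨y, rfl⟩, hy⟩ h2 h2'
        rw [orderOf_injective l hl] at h2 h2'
        rw [hfix e e.2 (fun h => h1 (by rw [show e = 1 from Subtype.ext h, map_one])) x y h2 h2'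
          ((hcomm e x).1 (mem_cent1.1 hx)) ((hcomm e y).1 (mem_cent1.1 hy))])
  rw [orderOf_injective l hl] at h2
  have hzp : ∀ x : W, l x ∈ zpowers (l z) ↔ x ∈ zpowers z := by
    intro x
    rw [← MonoidHom.map_zpowers, mem_map_iff_mem hl]
  have hcen : center W = zpowers z := by
    ext x
    rw [← hzp, ← hZ, mem_center_iff, mem_inf, mem_cent_iff]
    constructor
    · intro h
      refine ⟨⟨x, rfl⟩, ?_⟩
      rintro _ ⟨y, rfl⟩
      rw [← map_mul, ← map_mul, h]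
    · intro h y
      apply hl
      rw [map_mul, map_mul]
      exact h.2 _ ⟨y, rfl⟩
  have hsq' : ∀ x : W, x ^ 2 ∈ zpowers z := fun x => by
    rw [← hzp, map_pow]; exact hsq _ ⟨x, rfl⟩
  have hcW : Nat.card W = Nat.card l.range := Nat.card_congr eW.toEquiv
  have hcz : Nat.card (zpowers z) = 2 := by rw [Nat.card_zpowers, h2]
  haveI : (zpowers z).Normal := hcen ▸ inferInstance
  have hder : ⁅(⊤ : Subgroup W), (⊤ : Subgroup W)⁆ ≤ zpowers z := by
    rw [commutator_le]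
    intro x _ y _
    have e : ⁅x, y⁆ = (x * y) ^ 2 * (y⁻¹ * x⁻¹ * y) ^ 2 * (y⁻¹) ^ 2 := by
      rw [commutatorElement_def]; simp only [pow_two]; group
    rw [e]
    exact mul_mem (mul_mem (hsq' _) (hsq' _)) (hsq' _)
  have hder' : ⁅(⊤ : Subgroup W), (⊤ : Subgroup W)⁆ = zpowers z := by
    refine (eq_bot_or_eq_of_card_prime (by rw [hcz]; norm_num) hder).resolve_left fun e => ?_
    have h1 : (⊤ : Subgroup W) ≤ zpowers z := by
      rw [← hcen]
      intro x _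
      rw [mem_center_iff]
      exact fun y => mem_cent_iff.1 (comm_iff_le_cent.1 (comm_iff_der_eq_bot.2 e) (mem_top x)) y
        (mem_top y)
    have h3 := Subgroup.card_le_of_le h1
    rw [hcz, card_top, hcW] at h3
    omega
  have hphi : phiOf (⊤ : Subgroup W) = frattini W := by
    unfold phiOf
    apply le_antisymm
    · rw [map_le_iff_le_comap]
      exact frattini_le_comap_frattini_of_surjective fun x => ⟨⟨x, mem_top x⟩, rfl⟩
    · intro x hx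
      exact ⟨_, frattini_le_comap_frattini_of_surjective (φ := (topEquiv (G := W)).symm.toMonoidHom)
        (topEquiv (G := W)).symm.surjective hx, rfl⟩
  refine ⟨(Nat.card_congr eE.toEquiv).trans h9, ⟨⟨hW, ?_, ?_⟩, ?_⟩, hcW ▸ hcard, ?_⟩
  · rw [hcen, ← hphi]
    refine le_antisymm (phiOf_le_of_der_pow Nat.prime_two hder fun x _ => hsq' x) ?_
    rw [← hder']
    exact der_le_phiOf Nat.prime_two (hW.to_subgroup ⊤)
  · rw [hcen, ← hder']; rfl
  · rw [hcen, hcz]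
  · ext x
    rw [hcen, SetLike.mem_coe, ← hzp, ← hF, mem_inf, mem_cent_iff, Set.mem_setOf_eq]
    constructor
    · intro h
      refine ⟨⟨x, rfl⟩, ?_⟩
      rintro _ ⟨e, rfl⟩
      exact ((hcomm e x).2 (h e e.2)).symm
    · intro h e he
      exact (hcomm ⟨e, he⟩ x).1 (h.2 _ ⟨_, rfl⟩).symm

end Cfsg.Agent.S2934
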