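import Cfsg.Statements.S2968
import Cfsg.Agent.Lib.LocIsolated

set_option autoImplicit false
open Cfsg

namespace Cfsg.Agent.S2968

open Subgroup Cfsg.Agent.Lib Cfsg.Agent.Lib.PCoreConj Cfsg.Agent.Lib.PCore
  Cfsg.Agent.Lib.PCoreResidual Cfsg.Agent.Lib.LocIsolated

/-- Let G be a finite group, p a prime, P a Sylow p-subgroup of G and x ∈ P an element of p-power order which is isolated in G (the only conjugate of x commuting with x is x itself). Then x lies in the centre of P, and the subgroup generated by x is both strongly closed and weakly closed in P with respect to G. -/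
theorem result {G : Type*} [Group G] [Finite G] {p : ℕ} [Fact p.Prime] (P : Sylow p G) (x : G) (hxP : x ∈ (P : Subgroup G)) (hx : ∃ k : ℕ, orderOf x = p ^ k) (hiso : Cfsg.IsIsolated x) : x ∈ (P : Subgroup G) ⊓ Subgroup.centralizer ((P : Subgroup G) : Set G) ∧ Cfsg.IsStronglyClosed (Subgroup.zpowers x) (P : Subgroup G) ∧ Cfsg.IsWeaklyClosed (Subgroup.zpowers x) (P : Subgroup G) := by
  obtain ⟨k, hk⟩ := hx
  have hk' : x ^ p ^ k = 1 := by rw [← hk, pow_orderOf_eq_one]
  have hPx : (P : Subgroup G) ≤ centralizer ({x} : Set G) := le_centralizer hiso P.isPGroup' hxP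
  refine ⟨⟨hxP, ?_⟩, ⟨zpowers_le.2 hxP, fun y hy g hg => ?_⟩, zpowers_le.2 hxP, fun g hg => ?_⟩
  · exact mem_centralizer_iff.2 fun y hy => mem_centralizer_singleton_iff.1 (hPx hy)
  · have hy' : ∀ c ∈ centralizer ({x} : Set G), c * y * c⁻¹ = y := by
      intro c hc
      have : c ∈ centralizer ((zpowers x : Subgroup G) : Set G) := by rwa [centralizer_zpowers]
      rw [← mem_centralizer_iff.1 this y hy]; group
    obtain ⟨h, hh, h1⟩ := exists_conj_eq hk' hiso (H := centralizer ({g * y * g⁻¹} : Set G))
      (g := g) (mem_centralizer_singleton_iff.2 (mem_centralizer_singleton_iff.1 (hPx hg)).symm)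
      (by
        rw [← conj_centralizer_singleton]
        refine conj_mem_conj g (mem_centralizer_singleton_iff.2 ?_)
        have := hy' x (mem_centralizer_singleton_iff.2 rfl)
        rwa [mul_inv_eq_iff_eq_mul] at this)
    have h2 := hy' (h * g) (mem_centralizer_of_conj_eq (by rw [← h1]; nth_rw 1 [h1]; group))
    have h3 := conj_eq_of_mem_centralizer_singleton hh
    have h4 : g * y * g⁻¹ = y := by rw [← h3]; nth_rw 2 [← h2]; group
    rw [h4]; exact hy
  · rw [conj_zpowers] at hg ⊢
    rw [conj_eq_of_mem hiso P.isPGroup' hxP (zpowers_le.1 hg)]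

end Cfsg.Agent.S2968
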