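import Cfsg.Statements.S2971
import Cfsg.Agent.Lib.LocIsolated
import Cfsg.Agent.Lib.LocRank

set_option autoImplicit false
open Cfsg

namespace Cfsg.Agent.S2971

open Subgroup Cfsg.Agent.Lib Cfsg.Agent.Lib.PCoreConj Cfsg.Agent.Lib.PCore
  Cfsg.Agent.Lib.PCoreResidual Cfsg.Agent.Lib.LocIsolated

/-- Let G be a finite group and p an odd prime such that G has p-rank at most 1 (no elementary abelian subgroup of order p²). If x ∈ G is an isolated element of order p, then x is central modulo the largest normal subgroup of G of order prime to p. -/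
theorem result {G : Type*} [Group G] [Finite G] {p : ℕ} [Fact p.Prime] (hp : p ≠ 2) (hrk : Cfsg.PRankLE p 1 G) (x : G) (hx : orderOf x = p) (hiso : Cfsg.IsIsolated x) : Cfsg.InZStar p x := by
  have hk' : x ^ p ^ 1 = 1 := by rw [pow_one, ← hx, pow_orderOf_eq_one]
  have hx1 : x ≠ 1 := by
    rintro rfl
    rw [orderOf_one] at hx
    exact (Fact.out : p.Prime).one_lt.ne hx
  obtain ⟨P, hP⟩ := (isPGroup_zpowers hk').exists_le_sylow
  haveI := LocRank.isCyclic_of_pRankLE_one hp P.isPGroup' (LocRank.pRankLE_subgroup hrk _)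
  have h1 := hasNormalPComplement_of_isCyclic P (zpowers_le.1 hP) hx1
    (normalizer_le_centralizer hiso P.isPGroup' (zpowers_le.1 hP))
  have h2 := TransferFrobenius.isComplement'_pPrimeCore h1 P
  intro g
  obtain ⟨⟨⟨n, hn⟩, ⟨s, hs⟩⟩, rfl⟩ := h2.2 g
  have h3 := conj_eq_of_mem_centralizer_singleton
    (le_centralizer hiso P.isPGroup' (zpowers_le.1 hP) hs)
  have h4 : n * s * x * (n * s)⁻¹ * x⁻¹ = n * ((s * x * s⁻¹) * n⁻¹ * x⁻¹) := by group
  show n * s * x * (n * s)⁻¹ * x⁻¹ ∈ _
  rw [h4, h3]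
  exact mul_mem hn ((inferInstance : (pPrimeCore p G).Normal).conj_mem _ (inv_mem hn) x)

end Cfsg.Agent.S2971
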