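import Cfsg.Statements.S2972
import Cfsg.Agent.Lib.LocIsolated

set_option autoImplicit false
open Cfsg

namespace Cfsg.Agent.S2972

open Subgroup Cfsg.Agent.Lib Cfsg.Agent.Lib.PCoreConj Cfsg.Agent.Lib.PCore
  Cfsg.Agent.Lib.PCoreResidual Cfsg.Agent.Lib.LocIsolated
open scoped commutatorElement

/-- Let G be a finite group, p a prime and x ∈ G an isolated element of order p (the only conjugate of x commuting with x is x) which is not central modulo the largest normal subgroup of order prime to p, while x is central modulo the largest normal subgroup of order prime to p in every proper subgroup containing x, and the image of x is so in every quotient of G by a nontrivial normal subgroup (a minimal counterexample to the Z*_p statement). Then the derived subgroup G' is a non-abelian simple group and G = G'⟨x⟩. -/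
theorem result {G : Type*} [Group G] [Finite G] {p : ℕ} [Fact p.Prime] (x : G) (hx : orderOf x = p) (hiso : Cfsg.IsIsolated x) (hnz : ¬ Cfsg.InZStar p x) (hmin : ∀ (H : Subgroup G) (hxH : x ∈ H), H ≠ ⊤ → Cfsg.InZStar p (⟨x, hxH⟩ : ↥H)) (hquot : ∀ (N : Subgroup G) [N.Normal], N ≠ ⊥ → Cfsg.InZStar p (QuotientGroup.mk x : G ⧸ N)) : IsSimpleGroup ↥(commutator G) ∧ ¬ IsMulCommutative ↥(commutator G) ∧ commutator G ⊔ Subgroup.zpowers x = ⊤ := by
  have hp : p.Prime := Fact.out
  have hk' : x ^ p ^ 1 = 1 := by rw [pow_one, ← hx, pow_orderOf_eq_one]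
  have hO : pPrimeCore p G = ⊥ := by
    by_contra hne
    refine hnz fun g => ?_
    have := hquot _ hne (QuotientGroup.mk g)
    rw [pPrimeCore_quotient_pPrimeCore, mem_bot] at this
    exact (QuotientGroup.eq_one_iff _).1 this
  have hxZ : centralizer ({x} : Set G) ≠ ⊤ := by
    intro h
    refine hnz fun g => ?_
    rw [conj_eq_of_mem_centralizer_singleton (h ▸ mem_top g), mul_inv_cancel]
    exact one_mem _
  have hnp : ¬ IsPGroup p G := fun h =>
    hxZ (top_le_iff.1 (le_centralizer hiso (isPGroup_top_iff.2 h) (mem_top x)))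
  have hmin' : ∀ H : Subgroup G, x ∈ H → H ≠ ⊤ → ∀ h ∈ H,
      h * x * h⁻¹ * x⁻¹ ∈ pPrimeCoreOf p H := fun H hxH hH h hh =>
    ⟨_, hmin H hxH hH ⟨h, hh⟩, rfl⟩
  have hsub : ∀ L : Subgroup G, L.IsSubnormal → (Nat.card L).Coprime p → L = ⊥ := fun L h1 h2 =>
    le_bot_iff.1 (hO ▸ le_pPrimeCore_of_isSubnormal h1 h2)
  -- a normal subgroup not supplemented by `x` is centralized by `x`
  have hC : ∀ N : Subgroup G, N.Normal → N ⊔ zpowers x ≠ ⊤ → N ≤ centralizer ({x} : Set G) := by
    intro N hN hne n hn
    have h1 := hmin' _ (mem_sup_right (mem_zpowers x)) hne n (mem_sup_left hn)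
    have h2 : n * x * n⁻¹ * x⁻¹ ∈ N := by
      rw [mul_assoc, mul_assoc, ← mul_assoc x]
      exact mul_mem hn (hN.conj_mem _ (inv_mem hn) x)
    have h3 := pPrimeCoreOf_inf_le (p := p) (le_sup_left : N ≤ N ⊔ zpowers x) ⟨h1, h2⟩
    have h4 : pPrimeCoreOf p N = ⊥ := hsub _
      (IsSubnormal.trans (pPrimeCoreOf_le p N)
        (normal_subgroupOf_of_le (le_normalizer_pPrimeCoreOf p N)).isSubnormal hN.isSubnormal)
      (coprime_card_pPrimeCoreOf p N)
    rw [h4, mem_bot, mul_inv_eq_one] at h3
    exact mem_centralizer_of_conj_eq h3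
  have hstar : ∀ N : Subgroup G, N.Normal → x ∈ N → N = ⊤ := by
    intro N hN hxN
    by_contra hne
    have h1 := hC N hN (by rwa [sup_eq_left.2 (zpowers_le.2 hxN)])
    have h2 := sup_inf_centralizer hk' hiso (H := ⊤) le_top (normal_iff_top_le.1 hN) hxN
    exact hxZ (top_le_iff.1 (h2.ge.trans (sup_le h1 inf_le_right)))
  have hZ : center G = ⊥ := by
    by_contra hne
    let K := (pPrimeCore p (G ⧸ center G)).comap (QuotientGroup.mk' (center G))
    have hZp : IsPGroup p (center G) := FStarCharP.isPGroup_of_forall_coprime fun z hz hc => by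
      have : (zpowers z).Normal := normal_of_conj_eq fun g => by
        rw [conj_zpowers, mem_center_iff.1 hz g, mul_inv_cancel_right]
      exact zpowers_eq_bot.1 (hsub _ this.isSubnormal (by rwa [Nat.card_zpowers]))
    have hK : HasNormalPComplement p K := by
      haveI : ((center G).subgroupOf K).Normal := inferInstance
      refine TransferFrobenius.of_quotient_of_le_center ((center G).subgroupOf K) ?_ ?_
      · intro z hz
        exact mem_center_iff.2 fun g => Subtype.ext (mem_center_iff.1 hz g)
      · refine TransferFrobenius.of_not_dvd ?_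
        have h2 : Nat.card (K ⧸ (center G).subgroupOf K) =
            Nat.card (K.map (QuotientGroup.mk' (center G))) := by
          rw [← relIndex_ker, QuotientGroup.ker_mk']; rfl
        rw [h2, map_comap_eq_self_of_surjective (QuotientGroup.mk'_surjective _)]
        exact (Nat.Prime.coprime_iff_not_dvd hp).1 (coprime_card_pPrimeCore p _).symm
    have hKp : IsPGroup p K := by
      have h1 := TransferFrobenius.hasNormalPComplement_iff_pResidual.1 hK
      have h2 : pResidualOf p K = ⊥ := hsub _
        (IsSubnormal.trans (pResidualOf_le p K) (normal_subgroupOf_of_le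
          (le_normalizer.trans (normalizer_le_normalizer_pResidualOf p K))).isSubnormal
          (inferInstance : K.Normal).isSubnormal)
        (by
          rw [← pResidualOf_def, card_map_of_injective K.subtype_injective]
          exact ((Nat.Prime.coprime_iff_not_dvd hp).2 h1).symm)
      exact pResidualOf_eq_bot_iff.1 h2
    have h3 : K ⊔ zpowers x = ⊤ := by
      refine hstar _ (normal_of_conj_le fun g => ?_) (mem_sup_right (mem_zpowers x))
      rw [conj_sup, conj_zpowers, conj_eq_of_normal]
      refine sup_le le_sup_left (zpowers_le.2 ?_)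
      have h4 : g * x * g⁻¹ = (g * x * g⁻¹ * x⁻¹) * x := by group
      rw [h4]
      exact mul_mem (mem_sup_left (hquot _ hne (QuotientGroup.mk g))) (mem_sup_right (mem_zpowers x))
    refine hnp (isPGroup_top_iff.1 ?_)
    rw [← h3]
    exact CoprimeBasic.isPGroup_sup_of_le_normalizer hKp (isPGroup_zpowers hk') le_normalizer_of_normal
  have hsup : ∀ N : Subgroup G, N.Normal → N ≠ ⊥ → N ⊔ zpowers x = ⊤ := by
    intro N hN hne
    by_contra h
    have h1 : x ∈ centralizer (N : Set G) :=
      mem_centralizer_iff.2 fun n hn => mem_centralizer_singleton_iff.1 (hC N hN h hn)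
    have h2 := hstar _ inferInstance h1
    refine hne (le_bot_iff.1 (hZ ▸ fun n hn => mem_center_iff.2 fun g => ?_))
    exact (mem_centralizer_iff.1 (h2 ▸ mem_top g) n hn).symm
  have hcomm : ∀ N : Subgroup G, N.Normal → N ≠ ⊥ → commutator G ≤ N := by
    intro N hN hne
    have h1 := hsup N hN hne
    have h2 : IsCyclic (G ⧸ N) := by
      refine isCyclic_iff_exists_zpowers_eq_top.2 ⟨QuotientGroup.mk' N x, ?_⟩
      rw [← MonoidHom.map_zpowers, SolvBasic.map_mk_eq_top_iff, sup_comm, h1]
    have h3 : IsMulCommutative (G ⧸ N) := ⟨⟨fun a b => (IsCyclic.commGroup (α := G ⧸ N)).mul_comm a b⟩⟩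
    exact Normal.quotient_commutative_iff_commutator_le.1 h3
  have hG' : commutator G ≠ ⊥ := by
    intro h
    refine hxZ (eq_top_iff.2 fun g _ => mem_centralizer_singleton_iff.2 ?_)
    have : ⁅g, x⁆ ∈ commutator G := commutator_mem_commutator (mem_top g) (mem_top x)
    rw [h, mem_bot, commutatorElement_eq_one_iff_mul_comm] at this
    exact this
  have hOp : pCore p G = ⊥ := by
    by_contra hne
    refine hnp (isPGroup_top_iff.1 ?_)
    rw [← hsup _ inferInstance hne]
    exact CoprimeBasic.isPGroup_sup_of_le_normalizer (pCore_isPGroup p G) (isPGroup_zpowers hk')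
      le_normalizer_of_normal
  obtain ⟨L, hL, hLN⟩ | ⟨q, hq, hne⟩ := FStar.exists_component_or_inf_pCore_ne_bot
    (inferInstance : (commutator G).Normal).isSubnormal hG'
  swap
  · exfalso
    haveI := Fact.mk hq
    by_cases hqp : q = p
    · subst hqp
      exact hne (by rw [hOp, inf_bot_eq])
    · have := CoprimeInvert.pCoreOf_le_pPrimeCoreOf hqp (⊤ : Subgroup G)
      rw [pCoreOf_top, pPrimeCoreOf_top, hO, le_bot_iff] at this
      exact hne (by rw [this, inf_bot_eq])
  have hxL : x ∈ normalizer (L : Set G) := by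
    obtain ⟨P, hP⟩ := (isPGroup_zpowers hk').exists_le_sylow
    have h1 := (sylow_inf_isSubnormal P hL.1).ne_bot (by
      by_contra h
      exact FStarComp.IsComponent.ne_bot hL (hsub _ hL.1 ((Nat.Prime.coprime_iff_not_dvd hp).2 h).symm))
    rw [mem_normalizer_iff_conj_eq]
    refine (FStarComp.IsComponent.eq_or_commutator_eq_bot (FStarComp.IsComponent.conj hL x)
      hL).resolve_right fun h2 => h1 ?_
    have h3 : (P : Subgroup G) ⊓ L ≤ centralizer (L : Set G) := by
      intro u hu
      refine commutator_eq_bot_iff_le_centralizer.1 h2 ?_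
      have h4 := mem_centralizer_singleton_iff.1
        (le_centralizer hiso P.isPGroup' (zpowers_le.1 hP) hu.1)
      have h5 : u = x * u * x⁻¹ := by rw [← h4]; group
      rw [h5]
      exact conj_mem_conj x hu.2
    refine le_bot_iff.1 (hOp ▸ le_pCore_of_isSubnormal ?_ (P.isPGroup'.to_le inf_le_left))
    exact IsSubnormal.trans inf_le_right (normal_subgroupOf_of_le
      (le_normalizer_of_le_centralizer (le_centralizer_iff.1 h3))).isSubnormal hL.1
  have hLn : L.Normal := by
    rw [normal_iff_top_le, ← hsup _ FStarComp.layer_normal fun h =>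
      FStarComp.IsComponent.ne_bot hL (le_bot_iff.1 (h ▸ FStarComp.IsComponent.le_layer hL))]
    exact sup_le (FStarComp.IsComponent.layer_le_normalizer hL) (zpowers_le.2 hxL)
  have hLe : commutator G = L :=
    le_antisymm (hcomm L hLn (FStarComp.IsComponent.ne_bot hL)) hLN
  refine ⟨?_, ?_, hsup _ inferInstance hG'⟩
  · rw [hLe]
    refine FStarComp.IsQuasisimple.isSimpleGroup_of_center_eq_bot hL.2 ?_
    by_contra hne
    have h1 : (center L).map L.subtype ≠ ⊥ := by
      rwa [Ne, map_eq_bot_iff_of_injective _ L.subtype_injective]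
    have h2 := hcomm _ inferInstance h1
    rw [hLe, map_center_subtype] at h2
    exact FStarComp.IsQuasisimple.not_le_centralizer hL.2 (h2.trans inf_le_right)
  · rw [hLe]
    exact FStarComp.IsQuasisimple.not_isMulCommutative hL.2

end Cfsg.Agent.S2972
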