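import Cfsg.Statements.S2975
import Cfsg.Agent.Lib.PCoreResidual
import Cfsg.Agent.Lib.LocIsolated
import Cfsg.Agent.Lib.CoprimeSylow

set_option autoImplicit false
open Cfsg

namespace Cfsg.Agent.S2975

open Cfsg.Agent.Lib Cfsg.Agent.Lib.PCoreConj Cfsg.Agent.Lib.PCore Cfsg.Agent.Lib.PCoreResidual Subgroup
open scoped commutatorElement

/-- Let G be a finite group, p a prime and x ∈ G an isolated element of order p (the only conjugate of x commuting with x is x) which is not central modulo the largest normal subgroup of order prime to p, while x is central modulo the largest normal subgroup of order prime to p in every proper subgroup containing x, and the image of x is so in every quotient of G by a nontrivial normal subgroup (a minimal counterexample to the Z*_p statement). Then for every prime q, every q-subgroup of G that is normalized by x and maximal among the q-subgroups normalized by x is either trivial or a Sylow q-subgroup of G; and C_G(x) permutes the x-invariant Sylow q-subgroups of G transitively by conjugation.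 -/
theorem result {G : Type*} [Group G] [Finite G] {p : ℕ} [Fact p.Prime] (x : G) (hx : orderOf x = p) (hiso : Cfsg.IsIsolated x) (hnz : ¬ Cfsg.InZStar p x) (hmin : ∀ (H : Subgroup G) (hxH : x ∈ H), H ≠ ⊤ → Cfsg.InZStar p (⟨x, hxH⟩ : ↥H)) (hquot : ∀ (N : Subgroup G) [N.Normal], N ≠ ⊥ → Cfsg.InZStar p (QuotientGroup.mk x : G ⧸ N)) (q : ℕ) [Fact q.Prime] : (∀ Q : Subgroup G, IsPGroup q ↥Q → x ∈ Subgroup.normalizer (Q : Set G) → (∀ R : Subgroup G, IsPGroup q ↥R → x ∈ Subgroup.normalizer (R : Set G) → Q ≤ R → R = Q) → Q = ⊥ ∨ ∃ S : Sylow q G, (S : Subgroup G) = Q) ∧ (∀ S₁ S₂ : Sylow q G, x ∈ Subgroup.normalizer ((S₁ : Subgroup G) : Set G) → x ∈ Subgroup.normalizer ((S₂ : Subgroup G) : Set G) → ∃ c ∈ Subgroup.centralizer ({x} : Set G), (S₁ : Subgroup G).map (MulAut.conj c).toMonoidHom = (S₂ : Subgroup G)) := by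
  have hp := (Fact.out : p.Prime)
  have hxp : x ^ p ^ 1 = 1 := by rw [pow_one, ← hx, pow_orderOf_eq_one]
  have hXp : IsPGroup p (zpowers x) := isPGroup_zpowers hxp
  have hO : pPrimeCore p G = ⊥ := by
    by_contra h
    have := hquot (pPrimeCore p G) h
    refine hnz fun g => ?_
    have h1 := this (g : G ⧸ pPrimeCore p G)
    rw [pPrimeCore_quotient_pPrimeCore, mem_bot] at h1
    exact (QuotientGroup.eq_one_iff _).mp h1
  refine ⟨fun Q hQ hxQ hmax => ?_, fun S₁ S₂ h1 h2 => ?_⟩
  · by_cases hQ1 : Q = ⊥
    · exact Or.inl hQ1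
    refine Or.inr (isSylowIn_top_iff.mp ?_)
    have hX : zpowers x ≤ normalizer (Q : Set G) := zpowers_le.mpr hxQ
    by_cases hqp : q = p
    · subst hqp
      obtain ⟨P, hP, hle⟩ := exists_isSylowIn_ge (H := ⊤) le_top
        (CoprimeBasic.isPGroup_sup_of_le_normalizer hQ hXp hX)
      have := hmax P hP.isPGroup (le_normalizer (hle (mem_sup_right (mem_zpowers x))))
        (le_sup_left.trans hle)
      exact this ▸ hP
    set N := normalizer (Q : Set G) with hN
    have hN1 : N ≠ ⊤ := fun h => hQ1 (le_bot_iff.mp (hO ▸ le_pPrimeCore (normalizer_eq_top_iff.mp h)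
      (coprime_card_of_isPGroup hQ ((Nat.coprime_primes hp Fact.out).mpr (Ne.symm hqp)))))
    have hZ := hmin N hxQ hN1
    set K := pPrimeCoreOf p N with hK
    have hKN : K ≤ N := pPrimeCoreOf_le p N
    have hNK : N ≤ normalizer (K : Set G) := le_normalizer_pPrimeCoreOf p N
    have hcop : (Nat.card (zpowers x)).Coprime (Nat.card K) :=
      coprime_card_of_isPGroup hXp (coprime_card_pPrimeCoreOf p N)
    have hcomm : ⁅N, zpowers x⁆ ≤ K := by
      rw [zpowers_eq_closure]
      refine CoprimeBasic.commutator_closure_le (by rw [← zpowers_eq_closure]; exact hX.trans hNK) ?_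
      rintro g hg _ rfl
      exact ⟨_, hZ ⟨g, hg⟩, rfl⟩
    obtain ⟨R₀, hR⟩ := CoprimeSylow.exists_invariant_sylow q (hX.trans hNK) hcop
      (Or.inl (CoprimeBasic.solvable_zpowers x))
    have hRS := isSylowIn_map_subtype R₀
    set R := (R₀ : Subgroup K).map K.subtype
    set H := N ⊓ normalizer (R : Set G) with hH
    have hXH : zpowers x ≤ H := le_inf hX hR
    have e1 : K ⊔ H = N := hRS.frattini_sup hKN hNK
    have e2 : (K ⊓ H) ⊔ (H ⊓ centralizer (zpowers x : Set G)) = H :=
      CoprimeBasic.sup_centralizer_eq_of_commutator_le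
        (CoprimeBasic.coprime_of_le_right hcop inf_le_left) (Or.inl (CoprimeBasic.solvable_zpowers x))
        (le_inf ((commutator_mono inf_le_left le_rfl).trans hcomm)
          (commutator_le_left_of_le_normalizer (le_normalizer_of_le hXH))) inf_le_right
    set C := H ⊓ centralizer (zpowers x : Set G) with hC
    have e3 : C ⊔ K = N := le_antisymm (sup_le (inf_le_left.trans inf_le_left) hKN) (by
      rw [← e1, ← e2]
      exact sup_le le_sup_right (sup_le (inf_le_left.trans le_sup_right) le_sup_left))
    obtain ⟨T, hT⟩ := exists_isSylowIn q C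
    have hS := hT.sup hRS ((inf_le_left.trans inf_le_left).trans hNK)
      (hT.le.trans (inf_le_left.trans inf_le_right))
    rw [e3] at hS
    have hXT : zpowers x ≤ normalizer (T : Set G) :=
      le_normalizer_of_le_centralizer (le_centralizer_iff.mp (hT.le.trans inf_le_right))
    have e4 := hmax _ hS.isPGroup (le_normalizer_sup hXT hR (mem_zpowers x))
      (hS.le_of_le_normalizer' le_normalizer hQ hS.le)
    rw [e4] at hS
    exact IsSylowIn.of_inf_normalizer (by rwa [top_inf_eq])
  · obtain ⟨g, -, hg⟩ := (isSylowIn_top S₁).exists_conj_eq (isSylowIn_top S₂)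
    have h3 : g * x * g⁻¹ ∈ normalizer ((S₂ : Subgroup G) : Set G) := by
      rw [← hg, ← conj_normalizer]
      exact conj_mem_conj g h1
    obtain ⟨h, hh, he⟩ := LocIsolated.exists_conj_eq hxp hiso h2 h3
    refine ⟨h * g, LocIsolated.mem_centralizer_of_conj_eq ((by group : h * g * x * (h * g)⁻¹ = h * (g * x * g⁻¹) * h⁻¹).trans he), ?_⟩
    show (S₁ : Subgroup G) ^ᶜ (h * g) = S₂
    rw [← conj_conj, hg, conj_eq_of_mem_normalizer hh]

end Cfsg.Agent.S2975
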