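import Cfsg.Statements.S2981
import Cfsg.Agent.Lib.MinParOff
import Cfsg.Agent.Lib.PMinimal
import Cfsg.Agent.Lib.ThompsonJ

set_option autoImplicit false
open Cfsg

namespace Cfsg.Agent.S2981

open Cfsg.Agent.Lib Cfsg.Agent.Lib.PCoreConj Cfsg.Agent.Lib.PCore Cfsg.Agent.Lib.FFRep Cfsg.Agent.Lib.EMod
  Cfsg.Agent.Lib.SL2Amb Cfsg.Agent.Lib.MinParFF Cfsg.Agent.Lib.MinParDec Cfsg.Agent.Lib.TIOff
  Cfsg.Agent.Lib.TIOffCls Cfsg.Agent.Lib.PCoreResidual Cfsg.Agent.Lib.ThompsonJ Subgroup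

theorem card_le_of_maxAb {G : Type*} [Group G] [Finite G] {p : ℕ} {V A : Subgroup G}
    (hV : IsElementaryAbelian p V) (hA : MaxAb p ⊤ A) :
    Nat.card V * Nat.card ↥(A ⊓ centralizer (V : Set G)) ≤
      Nat.card A * Nat.card ↥(V ⊓ centralizer (A : Set G)) := by
  rw [mul_comm, ← card_sup_mul_card_inf (le_normalizer_of_le_centralizer inf_le_right)]
  exact Nat.mul_le_mul (hA.card_le le_top ((hA.abExp.mono inf_le_left).sup
    (abExp_iff_isElementaryAbelian.mpr hV) inf_le_right))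
    (Subgroup.card_le_of_le (le_inf inf_le_right ((inf_le_left.trans inf_le_left).trans hA.abExp.le_centralizer)))

/-- The local C**(G,T)-Theorem for minimal parabolic groups. Let G be a finite p-minimal group (a Sylow p-subgroup T is not normal and lies in exactly one maximal subgroup) of characteristic p (C_G(O_p(G)) ≤ O_p(G)), and suppose G ≠ C**(G,T), the subgroup generated by C_G(Ω₁(Z(T))) and N_G(J(T)) (J(T) generated by the elementary abelian p-subgroups of T of largest order). Put V = Ω₁(Z(O_p(G))) and C = C_G(V). Then there are subgroups E₁, …, E_r of G containing C such that: J(G)TC = G and the E_i C/C form an internal direct product equal to J(G)C/C; any two of the E_i are conjugate by an element of T; V = C_V(⟨E_i⟩)·∏[V, E_i] with [V, E_i, E_j] = 1 for i ≠ j; for some n ≥ 1, each E_i/C is isomorphic to SL₂(pⁿ), or p = 2 and to the symmetric group of degree 2ⁿ + 1; and E_i acts on [V, E_i]/C_{[V,E_i]}(E_i) as the natural two-dimensional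 SL₂(pⁿ)-module, respectively as the symmetric group of degree 2ⁿ+1 on its even-weight permutation module. -/
theorem result {G : Type*} [Group G] [Finite G] {p : ℕ} [Fact p.Prime] (hmin : Cfsg.IsPMinimal p G) (hG : Subgroup.centralizer (Cfsg.pCore p G : Set G) ≤ Cfsg.pCore p G) (T : Sylow p G) (hne : Cfsg.cStarStarOf p (T : Subgroup G) ≠ ⊤) : ∃ (r : ℕ) (E : Fin r → Subgroup G), (∀ i, Subgroup.centralizer (Cfsg.omegaOneCenter p (Cfsg.pCore p G) : Set G) ≤ E i) ∧ Cfsg.thompsonSubgroup p G ⊔ (T : Subgroup G) ⊔ Subgroup.centralizer (Cfsg.omegaOneCenter p (Cfsg.pCore p G) : Set G) = ⊤ ∧ (⨆ i, E i) = Cfsg.thompsonSubgroup p G ⊔ Subgroup.centralizer (Cfsg.omegaOneCenter p (Cfsg.pCore p G) : Set G) ∧ (∀ i j, i ≠ j → ⁅E i, E j⁆ ≤ Subgroup.centralizer (Cfsg.omegaOneCenter p (Cfsg.pCore p G) : Set G)) ∧ (∀ i, E i ⊓ (⨆ j ∈ {j | j ≠ i}, E j) ≤ Subgroup.centralizer (Cfsg.omegaOneCenter p (Cfsg.pCore p G) : Set G)) ∧ (∀ i j, ∃ t ∈ (T : Subgroup G), (E i).map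 (MulAut.conj t).toMonoidHom = E j) ∧ (Cfsg.omegaOneCenter p (Cfsg.pCore p G) ⊓ Subgroup.centralizer ((⨆ i, E i : Subgroup G) : Set G)) ⊔ (⨆ i, ⁅Cfsg.omegaOneCenter p (Cfsg.pCore p G), E i⁆) = Cfsg.omegaOneCenter p (Cfsg.pCore p G) ∧ (∀ i j, i ≠ j → ⁅⁅Cfsg.omegaOneCenter p (Cfsg.pCore p G), E i⁆, E j⁆ = ⊥) ∧ ∀ i, ∃ n : ℕ, 1 ≤ n ∧ ((∃ (F : Type) (_ : Field F) (_ : Fintype F), Fintype.card F = p ^ n ∧ (∃ _ : ((Subgroup.centralizer (Cfsg.omegaOneCenter p (Cfsg.pCore p G) : Set G)).subgroupOf (E i)).Normal, Nonempty (↥(E i) ⧸ (Subgroup.centralizer (Cfsg.omegaOneCenter p (Cfsg.pCore p G) : Set G)).subgroupOf (E i) ≃* Matrix.SpecialLinearGroup (Fin 2) F)) ∧ Cfsg.ActsAsSL2OnSection F ⊤ (E i) ⁅Cfsg.omegaOneCenter p (Cfsg.pCore p G), E i⁆ (⁅Cfsg.omegaOneCenter p (Cfsg.pCore p G), E i⁆ ⊓ Subgroup.centralizer ((E i : Subgroup G) : Set G))) ∨ (p = 2 ∧ (∃ _ : ((Subgroup.centralizer (Cfsg.omegaOneCenter p (Cfsg.pCore p G) : Set G)).subgroupOf (E i)).Normal,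 Nonempty (↥(E i) ⧸ (Subgroup.centralizer (Cfsg.omegaOneCenter p (Cfsg.pCore p G) : Set G)).subgroupOf (E i) ≃* Equiv.Perm (Fin (2 ^ n + 1)))) ∧ Cfsg.ActsAsOddPermModuleOnSection (2 ^ n + 1) ⊤ (E i) ⁅Cfsg.omegaOneCenter p (Cfsg.pCore p G), E i⁆ (⁅Cfsg.omegaOneCenter p (Cfsg.pCore p G), E i⁆ ⊓ Subgroup.centralizer ((E i : Subgroup G) : Set G)))) := by
  set V := omegaOneCenter p (pCore p G) with hVdef
  have hV : IsElementaryAbelian p V := isElementaryAbelian_omegaOneCenter p _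
  have hN : ⊤ ≤ normalizer (V : Set G) := le_normalizer_omegaOneCenter (normal_iff_top_le.mp inferInstance)
  let ρ := arep hV (MonoidHom.id G) fun x => hN (mem_top x)
  let φ := QuotientGroup.mk' (cent ρ ⊤)
  have hφ : Function.Surjective φ := QuotientGroup.mk'_surjective _
  have hK : cent ρ ⊤ = centralizer (V : Set G) := by rw [cent_arep_top, comap_id]
  have hK' : φ.ker = centralizer (V : Set G) := (QuotientGroup.ker_mk' _).trans hK
  obtain ⟨M, hm⟩ := (PMinimal.isPMinimal_top_iff T).mp hmin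
  have hT := isSylowIn_top T
  have hCM : cStarStarOf p (T : Subgroup G) ≤ M :=
    hm.max _ (le_sup_of_le_left (le_centralizer_omegaOneCenter p _)) (lt_top_iff_ne_top.mpr hne)
  have hZ : centralizer ((V ⊓ centralizer ((T : Subgroup G) : Set G) : Subgroup G) : Set G) ≤ M := by
    have h := (omegaOneCenter_le_centralizer p (T : Subgroup G)).trans (centralizer_anti hT.pCore_le)
    exact (centralizer_anti (le_inf (le_omegaOneCenter (isElementaryAbelian_omegaOneCenter p _) (h.trans hG) h)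
      (omegaOneCenter_le_centralizer p _))).trans (le_sup_left.trans hCM)
  have hKM : centralizer (V : Set G) ≤ M := (centralizer_anti inf_le_left).trans hZ
  have c : Ctx (quo ρ) ((T : Subgroup G).map φ) (M.map φ) := by
    refine ⟨cent_quo ρ, hT.map_mk' _, ?_, (pCore_quotient_eq_bot_iff _).mpr fun N hN' h => ?_, fun x hx => ?_⟩
    · simpa only [map_top_of_surjective φ hφ] using hm.map_of_ker φ (inf_le_right.trans (hK'.le.trans hKM))
    · rw [hK] at h ⊢
      exact ((hm.pIrrIn hT.isPGroup).redOn hN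
        (fun e => PMinimal.MinOver.not_pResidualOf_le hm hT (e.trans hKM))
        (pCoreOf_top p G ▸ le_centralizer_omegaOneCenter p _)).le_centralizer
          (SubnormalIn.of_normal le_top (normal_iff_top_le.mp hN')) h
    · obtain ⟨x, rfl⟩ := hφ x
      rw [fix_quo] at hx
      have : x ∈ cent ρ (fix ρ T) := hx
      rw [cent_arep, toSub_fix, Subgroup.map_id, comap_id] at this
      exact mem_map_of_mem φ (hZ this)
  have hoff : ∀ A, MaxAb p ⊤ A → IsElementaryAbelian p (A.map φ) ∧ Nat.card (EM hV) ≤ ms (quo ρ) ⊤ (A.map φ) :=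
    fun A hA => ⟨isElementaryAbelian_map (abExp_iff_isElementaryAbelian.mp hA.abExp) φ, by
      have := card_le_of_maxAb hV hA
      rw [card_eq_card_map_mul φ A, hK', mul_right_comm] at this
      rw [ms_top, fix_quo, card_fix, card_em, Subgroup.map_id]
      exact Nat.le_of_mul_le_mul_right this Nat.card_pos⟩
  obtain ⟨A, hA, hAC⟩ : ∃ A, MaxAb p (T : Subgroup G) A ∧ ¬ A ≤ centralizer (V : Set G) := by
    by_contra! h
    haveI : (centralizer (V : Set G)).Normal := hK ▸ inferInstance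
    refine hm.lt.not_ge ((sylow_inf_normal T (centralizer (V : Set G))).frattini_top.ge.trans (sup_le hKM
      ((normalizer_le_normalizer_J p _).trans (le_trans ?_ (le_sup_right.trans hCM)))))
    rw [J_eq_of_J_le (le_inf (J_le p _) (J_le_iff.mpr h)) inf_le_left, thompsonSubgroupOf_eq]
  have hA' : MaxAb p ⊤ A := ⟨le_top, hA.abExp, fun B _ hB => by
    obtain ⟨g, -, hg⟩ := hT.exists_conj_le (le_top : B ≤ ⊤) (isPGroup_of_elem (abExp_iff_isElementaryAbelian.mp hB))
    exact (card_conj B g).ge.trans (hA.card_le hg (hB.map _))⟩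
  obtain ⟨B, hBA, hB, -⟩ := exists_minOff (hoff A hA').1 (fun e => hAC (hK' ▸ (Subgroup.map_eq_bot_iff _).mp e))
    (hoff A hA').2
  obtain ⟨r, L, hr, f⟩ := exists_fam c hB
  have hJ : ⨆ i, L i = (thompsonSubgroup p G).map φ := by
    rw [f.eq, thompsonSubgroup_eq]
    haveI : ((J p (⊤ : Subgroup G)).map φ).Normal := Normal.map (normal_iff_top_le.mpr
      (le_normalizer.trans (normalizer_le_normalizer_J p ⊤))) φ hφ
    refine le_antisymm (sSup_le ?_) (map_le_iff_le_comap.mpr (J_le_iff.mpr fun X hX =>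
      map_le_iff_le_comap.mp (MinParOff.Ctx.le_of_offender c hB (hoff X hX).1 (hoff X hX).2)))
    rintro _ ⟨g, rfl⟩
    exact conj_le_of_normal (hBA.trans (map_mono hA'.le_J)) g
  have hE : ∀ i, ((L i).comap φ).map φ = L i := fun i => map_comap_eq_self_of_surjective hφ _
  have hle : ∀ i, centralizer (V : Set G) ≤ (L i).comap φ := fun i => hK' ▸ ker_le_comap φ _
  have hE' : (⨆ i, (L i).comap φ).map φ = ⨆ i, L i := by simp only [Subgroup.map_iSup, hE]
  have hfix : ∀ X : Subgroup G, toSub (fix (quo ρ) (X.map φ)) = V ⊓ centralizer (X : Set G) := fun X => by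
    rw [fix_quo, toSub_fix, Subgroup.map_id]
  have hcom : ∀ i, toSub (com (quo ρ) ⊤ (L i)) = ⁅V, (L i).comap φ⁆ := fun i => by
    conv_lhs => rw [← hE, com_quo, toSub_com_top, Subgroup.map_id]
  refine ⟨r, fun i => (L i).comap φ, hle, ?_, ?_, fun i j h => ?_, fun i => ?_, fun i j => ?_, ?_,
    fun i j h => ?_, fun i => ?_⟩
  · rw [← hK', ← comap_map_eq, Subgroup.map_sup, ← hJ, f.gen, comap_top]
  · rw [← hK', ← comap_map_eq, ← hJ, ← hE', comap_map_eq_self (hK'.le.trans (le_iSup_of_le ⟨0, hr⟩ (hle _)))]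
  · rw [← hK', ← Subgroup.map_eq_bot_iff, map_commutator, hE, hE, cm_iff_commutator.mp (f.cm i j h)]
  · rw [← hK', ← MonoidHom.comap_bot, ← f.indep c.faith i, comap_inf]
    exact inf_le_inf_left _ (iSup₂_le fun j hj => comap_mono (le_iSup₂_of_le j hj le_rfl))
  · obtain ⟨_, ⟨t, ht, rfl⟩, e⟩ := f.conj i j
    refine ⟨t, ht, Subgroup.ext fun x => ?_⟩
    beta_reduce
    rw [← e, mem_comap, mem_conj_iff, mem_conj_iff, mem_comap, map_mul, map_mul, map_inv]
  · have := congrArg toSub f.decomp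
    rw [← hE'] at this
    simpa only [toSub_sup, toSub_iSup, hfix, hcom, toSub_top] using this
  · have := toSub_le_toSub.mpr (f.orth i j h)
    rw [hcom, ← hE j, hfix] at this
    exact commutator_eq_bot_iff_le_centralizer.mpr (this.trans inf_le_right)
  · let ψ := φ.comp ((L i).comap φ).subtype
    have e : ψ.range = L i := by rw [MonoidHom.range_comp, range_subtype, hE]
    have hk : (centralizer (V : Set G)).subgroupOf ((L i).comap φ) = ψ.ker := by rw [← hK']; rfl
    haveI hn : ((centralizer (V : Set G)).subgroupOf ((L i).comap φ)).Normal := hk ▸ inferInstance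
    have e' := ((QuotientGroup.quotientMulEquivOfEq hk).trans (QuotientGroup.quotientKerEquivRange ψ)).trans
      (MulEquiv.subgroupCongr e)
    have hE : ∀ x : (L i).comap φ, ((L i).comap φ).subtype x ∈ normalizer (V : Set G) := fun x => hN (mem_top _)
    obtain ⟨n, h₀, ⟨F, _, _, hF, h⟩ | ⟨hp, h⟩⟩ := f.nat i
    · exact ⟨n, h₀, Or.inl ⟨F, inferInstance, inferInstance, hF,
        ⟨hn, ⟨e'.trans (iso_of_natSL h c.faith (f.core c.core i)).some⟩⟩, actsAs_of_natSL hE ψ rfl (e ▸ h)⟩⟩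
    · exact ⟨n, h₀, Or.inr ⟨hp, ⟨hn, ⟨e'.trans (iso_of_natSym h c.faith (f.core c.core i)).some⟩⟩,
        actsAs_of_natSym hE ψ rfl (e ▸ h)⟩⟩

end Cfsg.Agent.S2981
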