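import Cfsg.Statements.S2982
import Cfsg.Agent.Lib.BlkFin

set_option autoImplicit false
open Cfsg

namespace Cfsg.Agent.S2982

open Subgroup Cfsg.Agent.Lib.PCoreConj Cfsg.Agent.Lib.PCore Cfsg.Agent.Lib.PCoreResidual Cfsg.Agent.Lib.PCoreMod
open Cfsg.Agent.Lib.Blk Cfsg.Agent.Lib.PCoreConj Cfsg.Agent.Lib.PCore Cfsg.Agent.Lib.PCoreResidual Cfsg.Agent.Lib.PIrred Cfsg.Agent.Lib.PMinimal
open scoped Pointwise commutatorElement

/-- Pushing up for minimal parabolic groups. Let G be a finite p-minimal group (a Sylow p-subgroup T is not normal and lies in exactly one maximal subgroup) of characteristic p (C_G(O_p(G)) ≤ O_p(G)). Suppose that no nontrivial characteristic subgroup of the Baumann subgroup B(T) is normal in G and that Ω₁(Z(T)) is not normal in G. Then G has a set of B(T)-blocks with the block structure of the local C*(G,T)-Theorem, every block E with E/O_p(E) alternating of degree 2m+1 (p = 2) has 2m+1 = 2ⁿ+1, and C*(G,T) = (C*(G,T) ∩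 ⟨blocks⟩)·T. -/
theorem result {G : Type*} [Group G] [Finite G] {p : ℕ} [Fact p.Prime] (hmin : Cfsg.IsPMinimal p G) (hG : Subgroup.centralizer (Cfsg.pCore p G : Set G) ≤ Cfsg.pCore p G) (T : Sylow p G) (hchar : ∀ C : Subgroup G, C ≤ Cfsg.baumannSubgroupOf p (T : Subgroup G) → C ≠ ⊥ → (C.subgroupOf (Cfsg.baumannSubgroupOf p (T : Subgroup G))).Characteristic → ¬ C.Normal) (hz : ¬ (Cfsg.omegaOneCenter p (T : Subgroup G)).Normal) : ∃ 𝓑 : Set (Subgroup G), Cfsg.HasBaumannBlockStructure p (T : Subgroup G) 𝓑 ∧ (∀ E ∈ 𝓑, ∀ m : ℕ, Nonempty (↥E ⧸ Cfsg.pCore p ↥E ≃* ↥(alternatingGroup (Fin (2 * m + 1)))) → ∃ n : ℕ, 2 * m + 1 = 2 ^ n + 1) ∧ Cfsg.cStarOf p (T : Subgroup G) = (Cfsg.cStarOf p (T : Subgroup G) ⊓ sSup 𝓑) ⊔ (T : Subgroup G) := by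
  obtain ⟨M, hM⟩ := (isPMinimal_top_iff T).1 hmin
  rw [baumann_eq] at hchar
  refine MP.main (M₀ := M) ⟨hG, isSylowIn_top T, hM, fun A h₁ h₂ => hM.max _ ((le_normalizer_Bm p _).trans
    (normalizer_le_normalizer_map_subtype A)) (lt_top_iff_ne_top.2 fun e => hchar _ (Subgroup.map_subtype_le A)
      (fun e' => h₁ ((Subgroup.map_eq_bot_iff_of_injective _ (Subgroup.subtype_injective _)).1 e'))
      ((Subgroup.comap_map_eq_self_of_injective (Subgroup.subtype_injective _) A).symm ▸ h₂ :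
        ((A.map (Bm p (T : Subgroup G)).subtype).comap (Bm p (T : Subgroup G)).subtype).Characteristic)
      (Subgroup.normalizer_eq_top_iff.1 e)), hM.max _ (le_centralizer_omegaOneCenter p _)
    (lt_top_iff_ne_top.2 fun e => hz (normal_iff_top_le.2 (e.ge.trans (Subgroup.centralizer_le_normalizer _))))⟩

end Cfsg.Agent.S2982
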