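import Cfsg.Statements.S3000
import Cfsg.Agent.Lib.MinParDec
import Cfsg.Agent.Lib.PMinimal

set_option autoImplicit false
open Cfsg

namespace Cfsg.Agent.S3000

open Cfsg.Agent.Lib Cfsg.Agent.Lib.PCoreConj Cfsg.Agent.Lib.PCore Cfsg.Agent.Lib.FFRep Cfsg.Agent.Lib.EMod
  Cfsg.Agent.Lib.SL2Amb Cfsg.Agent.Lib.MinParFF Cfsg.Agent.Lib.MinParDec Cfsg.Agent.Lib.TIOff Subgroup

/-- Let p be a prime and let P and V be subgroups of a finite group with V elementary abelian, P normalizing V and acting faithfully on it (P ∩ C(V) = 1). Suppose P is p-minimal (a Sylow p-subgroup T of P is not normal and lies in a unique maximal subgroup M of P), O_p(P) = 1, C_P(C_V(T)) ≤ M, and P has a best offender on V: a subgroup A not centralizing V, with A/C_A(V) elementary abelian, such that |B|·|C_V(B)| ≤ |A|·|C_V(A)| for every subgroup B of A. Then there are subgroups E₁, …, E_r of P (r ≥ 1), pairwise commuting and forming with T a product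 P = (E₁ × ⋯ × E_r)T (internal direct product of the E_i), any two of which are conjugate by an element of T, such that V = C_V(E₁⋯E_r)·∏[V, E_i] with [V, E_i, E_j] = 1 for i ≠ j, and for each i there is n ≥ 1 with either E_i ≅ SL₂(pⁿ) acting on [V, E_i]/C_{[V,E_i]}(E_i) as on its natural two-dimensional module, or p = 2 and E_i isomorphic to the symmetric group of degree 2ⁿ + 1 acting on [V, E_i]/C_{[V,E_i]}(E_i) as on its even-weight permutation module. -/
theorem result {G : Type*} [Group G] [Finite G] {p : ℕ} [Fact p.Prime] (V P : Subgroup G) (hV : Cfsg.IsElementaryAbelian p V) (hPV : P ≤ Subgroup.normalizer (V : Set G)) (hfaith : P ⊓ Subgroup.centralizer (V : Set G) = ⊥) (hmin : Cfsg.IsPMinimal p ↥P) (T : Sylow p ↥P) (M : Subgroup ↥P) (hM : IsCoatom M) (hTM : (T : Subgroup ↥P) ≤ M) (hOp : Cfsg.pCore p ↥P = ⊥) (hoff : ∃ A : Subgroup G, A ≤ P ∧ ¬ A ≤ Subgroup.centralizer (V : Set G) ∧ Cfsg.IsBestOffenderOn p V A)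 (hCT : P ⊓ Subgroup.centralizer ((V ⊓ Subgroup.centralizer ((((T : Subgroup ↥P).map P.subtype) : Subgroup G) : Set G)) : Set G) ≤ M.map P.subtype) : ∃ (r : ℕ) (E : Fin r → Subgroup G), 1 ≤ r ∧ (∀ i, E i ≤ P) ∧ (∀ i j, i ≠ j → ⁅E i, E j⁆ = ⊥) ∧ (∀ i, E i ⊓ (⨆ j ∈ {j | j ≠ i}, E j) = ⊥) ∧ (⨆ i, E i) ⊔ ((T : Subgroup ↥P).map P.subtype) = P ∧ (∀ i j, ∃ t ∈ ((T : Subgroup ↥P).map P.subtype), (E i).map (MulAut.conj t).toMonoidHom = E j) ∧ (V ⊓ Subgroup.centralizer (((⨆ i, E i) : Subgroup G) : Set G)) ⊔ (⨆ i, ⁅V, E i⁆) = V ∧ (∀ i j, i ≠ j → ⁅⁅V, E i⁆, E j⁆ = ⊥) ∧ ∀ i, ∃ n : ℕ, 1 ≤ n ∧ ((∃ (F : Type) (_ : Field F) (_ : Fintype F), Fintype.card F = p ^ n ∧ Nonempty (↥(E i) ≃* Matrix.SpecialLinearGroup (Fin 2) F) ∧ Cfsg.ActsAsSL2OnSection F ⊤ (E i) ⁅V, E i⁆ (⁅V, E i⁆ ⊓ Subgroup.centralizer ((E i : Subgroup G) : Set G))) ∨ (p = 2 ∧ Nonempty (↥(E i) ≃* Equiv.Perm (Fin (2 ^ n + 1))) ∧ Cfsg.ActsAsOddPermModuleOnSection (2 ^ n + 1)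 ⊤ (E i) ⁅V, E i⁆ (⁅V, E i⁆ ⊓ Subgroup.centralizer ((E i : Subgroup G) : Set G)))) := by
  have hP : ∀ x : P, P.subtype x ∈ normalizer (V : Set G) := fun x => hPV x.2
  have hf := cent_eq_bot (h := hV) hP hfaith
  obtain ⟨A, hA, h₁, h₂, h₃, h₄⟩ := hoff
  obtain ⟨B, hB⟩ := exists_minOff_amb (h := hV) hP hfaith hA h₁ h₃ h₄ (by
    have := h₂ ⊥ bot_le
    rwa [centralizer_bot', inf_top_eq, card_bot, one_mul] at this)
  have c : Ctx (arep hV P.subtype hP) T M := ⟨hf, isSylowIn_top T,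
    PMinimal.minOver_of_isPMinimal hmin T hM hTM, hOp, fun x hx => by
      rw [cent_arep, toSub_fix] at hx
      obtain ⟨y, hy, e⟩ := hCT ⟨x.2, hx⟩
      exact (Subtype.ext e : y = x) ▸ hy⟩
  obtain ⟨r, L, hr, f⟩ := exists_fam c hB
  have hle : ∀ i, (L i).map P.subtype ≤ P := fun i => map_subtype_le _
  refine ⟨r, fun i => (L i).map P.subtype, hr, hle, fun i j h => ?_, fun i => ?_, ?_, fun i j => ?_, ?_,
    fun i j h => ?_, fun i => ?_⟩
  · rw [← map_commutator, cm_iff_commutator.mp (f.cm i j h), Subgroup.map_bot]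
  · simp only [← Subgroup.map_iSup]
    rw [← map_inf _ _ _ P.subtype_injective, f.indep hf i, Subgroup.map_bot]
  · rw [← Subgroup.map_iSup, ← Subgroup.map_sup, f.gen, ← MonoidHom.range_eq_map, range_subtype]
  · obtain ⟨t, ht, e⟩ := f.conj i j
    exact ⟨t, ⟨t, ht, rfl⟩, (map_conj P.subtype _ t).symm.trans (congrArg _ e)⟩
  · have := congrArg toSub f.decomp
    simpa only [toSub_sup, toSub_iSup, toSub_fix, toSub_com_top, toSub_top, Subgroup.map_iSup] using this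
  · have := toSub_le_toSub.mpr (f.orth i j h)
    rw [toSub_fix, toSub_com_top] at this
    exact commutator_eq_bot_iff_le_centralizer.mpr (this.trans inf_le_right)
  · have e : (inclusion (hle i)).range = L i := by rw [inclusion_range, map_subtype_subgroupOf]
    have hE : ∀ x : (L i).map P.subtype, ((L i).map P.subtype).subtype x ∈ normalizer (V : Set G) :=
      fun x => hPV (hle i x.2)
    have e' := ((L i).equivMapOfInjective P.subtype P.subtype_injective).symm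
    obtain ⟨n, hn, ⟨F, _, _, hF, h⟩ | ⟨hp, h⟩⟩ := f.nat i
    · exact ⟨n, hn, Or.inl ⟨F, inferInstance, inferInstance, hF,
        ⟨e'.trans (iso_of_natSL h hf (f.core hOp i)).some⟩,
        actsAs_of_natSL hE (inclusion (hle i)) rfl (e ▸ h)⟩⟩
    · exact ⟨n, hn, Or.inr ⟨hp, ⟨e'.trans (iso_of_natSym h hf (f.core hOp i)).some⟩,
        actsAs_of_natSym hE (inclusion (hle i)) rfl (e ▸ h)⟩⟩

end Cfsg.Agent.S3000
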