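import Cfsg.Statements.S3001
import Cfsg.Agent.Lib.MinParOff
import Cfsg.Agent.Lib.PMinimal

set_option autoImplicit false
open Cfsg

namespace Cfsg.Agent.S3001

open Cfsg.Agent.Lib Cfsg.Agent.Lib.PCoreConj Cfsg.Agent.Lib.PCore Cfsg.Agent.Lib.FFRep Cfsg.Agent.Lib.EMod
  Cfsg.Agent.Lib.SL2Amb Cfsg.Agent.Lib.MinParDec Subgroup

/-- Let p be a prime and let P and V be subgroups of a finite group with V elementary abelian, P normalizing V and acting faithfully on it (P ∩ C(V) = 1). Suppose P is p-minimal (a Sylow p-subgroup is not normal and lies in a unique maximal subgroup), O_p(P) = 1, and P has a best offender on V (a subgroup A not centralizing V, with A/C_A(V) elementary abelian and |B|·|C_V(B)| ≤ |A|·|C_V(A)| for every B ≤ A). Then [C_V(T), P] ≠ 1 for every Sylow p-subgroup T of P. -/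
theorem result {G : Type*} [Group G] [Finite G] {p : ℕ} [Fact p.Prime] (V P : Subgroup G) (hV : Cfsg.IsElementaryAbelian p V) (hPV : P ≤ Subgroup.normalizer (V : Set G)) (hfaith : P ⊓ Subgroup.centralizer (V : Set G) = ⊥) (hmin : Cfsg.IsPMinimal p ↥P) (hOp : Cfsg.pCore p ↥P = ⊥) (hoff : ∃ A : Subgroup G, A ≤ P ∧ ¬ A ≤ Subgroup.centralizer (V : Set G) ∧ Cfsg.IsBestOffenderOn p V A) (T : Sylow p ↥P) : ⁅(V ⊓ Subgroup.centralizer ((((T : Subgroup ↥P).map P.subtype) : Subgroup G) : Set G)), P⁆ ≠ ⊥ := by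
  have hP : ∀ x : P, P.subtype x ∈ normalizer (V : Set G) := fun x => hPV x.2
  obtain ⟨A, hA, h₁, h₂, h₃, h₄⟩ := hoff
  obtain ⟨B, hB⟩ := exists_minOff_amb (h := hV) hP hfaith hA h₁ h₃ h₄ (by
    have := h₂ ⊥ bot_le
    rwa [centralizer_bot', inf_top_eq, card_bot, one_mul] at this)
  obtain ⟨M, hM⟩ := (PMinimal.isPMinimal_top_iff T).mp hmin
  refine fun e => MinParOff.not_fix_le (cent_eq_bot (h := hV) hP hfaith) (isSylowIn_top T) hM hOp hB ?_
  rw [← toSub_le_toSub, toSub_fix, toSub_fix, ← MonoidHom.range_eq_map, range_subtype]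
  exact le_inf inf_le_left (commutator_eq_bot_iff_le_centralizer.mp e)

end Cfsg.Agent.S3001
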