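import Cfsg.Statements.S3022
import Cfsg.Agent.Lib.BlkFin
import Cfsg.Agent.Lib.PushAut

set_option autoImplicit false
open Cfsg

namespace Cfsg.Agent.S3022

open Subgroup Cfsg.Agent.Lib.PCoreConj Cfsg.Agent.Lib.PCore Cfsg.Agent.Lib.PCoreResidual Cfsg.Agent.Lib.PCoreMod
open Cfsg.Agent.Lib.Blk Cfsg.Agent.Lib.PIrred Cfsg.Agent.Lib.PMinimal Cfsg.Agent.Lib.PushBase
open scoped Pointwise commutatorElement

theorem comm_le {G : Type*} [Group G] [Finite G] {T M : Subgroup G} (h : MP 2 T M) :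
    ⁅pCore 2 G, pResidual 2 G⁆ ≤ omegaOneCenter 2 (pCore 2 G) := by
  obtain ⟨E₀, h₀⟩ := h.exists_fb
  have s₀ : SB 2 E₀ := conj_one E₀ ▸ (h₀ 1 (one_mem _)).sb
  have nK : ∀ X : Subgroup G, X ≤ N((⨆ g, E₀ ^ᶜ g : Subgroup G)) := fun X => le_normalizer_iff_conj_le.2 fun g _ => by
    rw [conj_iSup]
    exact iSup_le fun g' => (conj_conj _ _ _).le.trans (le_iSup (fun g => E₀ ^ᶜ g) _)
  have top : T ⊔ (⨆ g, E₀ ^ᶜ g) = ⊤ := h.min.eq_of_not_le le_sup_left le_top fun k =>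
    (h₀ 1 (one_mem _)).notM ((le_iSup (fun g => E₀ ^ᶜ g) 1).trans (le_sup_right.trans k))
  have r : pResidual 2 G ≤ ⨆ g, E₀ ^ᶜ g := by
    rw [← pResidualOf_top, ← top, sup_comm]
    exact pResidualOf_sup_le h.syl.isPGroup (nK T)
  refine (le_rel_iff.1 (r.trans (iSup_le fun g => le_rel_iff.2 ⟨nV 2 _, ?_⟩))).2
  have s := s₀.conj g
  generalize E₀ ^ᶜ g = E at s
  have b := s.blk h.hG h.syl
  have e : pCoreOf 2 E = WE 2 E := by
    rcases b.cases' with ⟨F, _, _, _, _, k | k⟩ | ⟨_, _, _, _, k, _⟩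
    · exact k
    · exact absurd k.three (by decide)
    · exact k
  have n : pCore 2 G ≤ N(E) := by
    have := pResidualOf_sup_pCoreOf (p := 2) s.sub
    rw [b.res, pCoreOf_top] at this
    rw [← this]
    exact le_sup_right.trans (le_normalizer_pResidualOf 2 _)
  exact (le_inf (commutator_le_left_of_le_normalizer (nQ 2 _)) (commutator_le_right_of_le_normalizer n)).trans
    ((pCore_inf_le E).trans (e.le.trans (s.W_le_V h.hG)))

theorem inv_of {G : Type*} [Group G] {S : Subgroup G} (f : Subgroup G → Subgroup G) (g : Subgroup S → Subgroup S)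
    (h₁ : (g ⊤).map S.subtype = f S) (a : MulAut S) (h₂ : (g ⊤).map a.toMonoidHom = g ⊤) (x : S) (hx : (x : G) ∈ f S) :
    (a x : G) ∈ f S := by
  rw [← h₁] at hx ⊢
  obtain ⟨y, hy, e⟩ := hx
  obtain rfl : y = x := Subtype.ext e
  exact ⟨a y, h₂.le ⟨y, hy, rfl⟩, rfl⟩

theorem inv_B {G : Type*} [Group G] {S : Subgroup G} (a : MulAut S) (x : S) (hx : (x : G) ∈ Bm 2 S) :
    (a x : G) ∈ Bm 2 S :=
  inv_of (Bm 2) (Bm 2) (by rw [map_Bm S.subtype_injective, ← MonoidHom.range_eq_map, range_subtype]) a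
    (by rw [map_Bm a.injective, map_top_of_surjective _ a.surjective]) x hx

theorem inv_Z {G : Type*} [Group G] {S : Subgroup G} (a : MulAut S) (x : S) (hx : (x : G) ∈ omegaOneCenter 2 S) :
    (a x : G) ∈ omegaOneCenter 2 S :=
  inv_of (omegaOneCenter 2) (omegaOneCenter 2)
    (by rw [Lib.Blk.map_omegaOneCenter S.subtype_injective, ← MonoidHom.range_eq_map, range_subtype]) a
    (by rw [Lib.Blk.map_omegaOneCenter a.injective, map_top_of_surjective _ a.surjective]) x hx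

/-- restriction of an automorphism to the Baumann subgroup -/
def resB {G : Type*} [Group G] {S : Subgroup G} (a : MulAut S) : MulAut (Bm 2 S) where
  toFun x := ⟨a ⟨x, Bm_le 2 S x.2⟩, inv_B a _ x.2⟩
  invFun x := ⟨a⁻¹ ⟨x, Bm_le 2 S x.2⟩, inv_B a⁻¹ _ x.2⟩
  left_inv x := Subtype.ext (congrArg (fun z : S => (z : G)) (a.left_inv ⟨x, Bm_le 2 S x.2⟩))
  right_inv x := Subtype.ext (congrArg (fun z : S => (z : G)) (a.right_inv ⟨x, Bm_le 2 S x.2⟩))
  map_mul' x y := Subtype.ext (congrArg (fun z : S => (z : G)) (map_mul a ⟨x, Bm_le 2 S x.2⟩ ⟨y, Bm_le 2 S y.2⟩))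

/-- Let G be a finite group all of whose non-abelian simple sections are known simple groups, such that a Sylow 2-subgroup of G lies in exactly one maximal subgroup of G and C_G(O₂(G)) ≤ O₂(G). Let S be a Sylow 2-subgroup of G and A a group of automorphisms of S of odd order. Then some nontrivial A-invariant subgroup of S is normal in G. -/
theorem result {G : Type*} [Group G] [Finite G] (hK : Cfsg.IsKGroup G) (hirr : ∀ S : Sylow 2 G, ∃! M : Subgroup G, IsCoatom M ∧ (S : Subgroup G) ≤ M) (hchar : Subgroup.centralizer (Cfsg.pCore 2 G : Set G) ≤ Cfsg.pCore 2 G) (S : Sylow 2 G) (A : Subgroup (MulAut ↥(S : Subgroup G))) (hA : Odd (Nat.card A)) : ∃ U : Subgroup G, U ≠ ⊥ ∧ U.Normal ∧ U ≤ (S : Subgroup G) ∧ ∀ a ∈ A, ∀ x : ↥(S : Subgroup G), (x : G) ∈ U → ((a x : ↥(S : Subgroup G)) : G) ∈ U := by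
  have hS := isSylowIn_top S
  have hne : (S : Subgroup G) ≠ ⊥ := by
    intro e
    obtain ⟨M, ⟨hM, -⟩, -⟩ := hirr S
    have h1 : pCore 2 G = ⊥ := le_bot_iff.1 (hS.pCore_le.trans e.le)
    rw [h1] at hchar
    exact hM.1 (eq_top_iff.2 fun x _ => (bot_le : ⊥ ≤ M) (hchar (mem_centralizer_iff.2 fun y hy => by
      rw [SetLike.mem_coe, mem_bot] at hy; simp [hy])))
  by_contra hn
  have hmin : IsPMinimal 2 G := fun T => ⟨fun k => hn ⟨S, hne, ?_, le_rfl, fun a _ x _ => (a x).2⟩, hirr T⟩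
  swap
  · obtain ⟨g, -, e⟩ := (isSylowIn_top T).exists_conj_eq hS
    rw [← e, conj_eq_of_mem_normalizer (le_normalizer_of_normal (mem_top g))]
    exact k
  obtain ⟨M, hM⟩ := (isPMinimal_top_iff S).1 hmin
  have h : MP 2 (S : Subgroup G) M := by
    refine ⟨hchar, hS, hM, fun C h₁ h₂ => hM.max _ ((le_normalizer_Bm 2 _).trans
      (normalizer_le_normalizer_map_subtype C)) (lt_top_iff_ne_top.2 fun e => hn ⟨_, ?_, normalizer_eq_top_iff.1 e,
        (map_subtype_le C).trans (Bm_le 2 _), ?_⟩), hM.max _ (le_centralizer_omegaOneCenter 2 _)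
      (lt_top_iff_ne_top.2 fun e => hn ⟨_, omegaOneCenter_ne_bot hS.isPGroup hne,
        normal_iff_top_le.2 (e.ge.trans (Subgroup.centralizer_le_normalizer _)), omegaOneCenter_le 2 _,
        fun a _ x hx => inv_Z a x hx⟩)⟩
    · exact fun e' => h₁ ((Subgroup.map_eq_bot_iff_of_injective _ (Subgroup.subtype_injective _)).1 e')
    · rintro a - x ⟨y, hy, e'⟩
      refine ⟨resB a y, (characteristic_iff_map_le.1 h₂ (resB a)) ⟨y, hy, rfl⟩, ?_⟩
      exact congrArg (fun z => ((a z : S) : G)) (Subtype.ext e' : (⟨y, Bm_le 2 _ y.2⟩ : S) = x)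
  obtain ⟨U, h₁, h₂, h₃, h₄⟩ := Lib.PushAut.exists_normal hS hM hchar h.hz (comm_le h) A hA
  refine hn ⟨U, fun e => omegaOneCenter_ne_bot (pCore_isPGroup 2 G) (fun e' => hne ?_) (le_bot_iff.1 (h₁.trans e.le)),
    h₂, h₃, h₄⟩
  rw [e'] at hchar
  exact le_bot_iff.1 fun x _ => hchar (mem_centralizer_iff.2 fun y hy => by
      rw [SetLike.mem_coe, mem_bot] at hy; simp [hy])

end Cfsg.Agent.S3022
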